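/- ALTSEC2, slot 19: `A₁₉` is not a section of `E₈(q)` outside characteristic 17. -/
import Cfsg.Agent.H1.ASE8

set_option autoImplicit false

universe u

namespace H1.AS8

open Matrix Cfsg.Lie H63 H65 H40.AS H46 Finset

attribute [local instance] tabE8 commE8

/-- Coefficients of the roots modulo 17. -/
def row (r i : ℕ) : ℕ := (certE8.dig r i + 9) % 17
/-- The columns of coefficients, packed. -/
def KK (i : ℕ) : ℕ := [0x20202020202020202020202020201010101010101010101010101010101010101010101010101010101010101010101010101010101010101010101010101010101010101010101010101010101000000000000000000000000000000000000000000000000000000000000000000000000000000000000000000000000000000000000000000000000000000000000000000000000000000000000000000000000101010101010101010101010101010101010101010101010101010101010101010101010101010101010101010101010101010101010101010101010101010100f0f0f0f0f0f0f0f0f0f0f0f0f0f,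
  0x303030303030302020202020202030202020202020202020202020202020202020202020101010101010101010101010101010101010101010101010101010101010101010101000000000000000101010101010101010101010101010101010101010000000000000000000000000000000000000000000000000000000000000000000000000000000000001010101010101010101010101010101010101010100000000000000010101010101010101010101010101010101010101010101010101010101010101010100f0f0f0f0f0f0f0f0f0f0f0f0f0f0f0f0f0f0f0f0f0e0f0f0f0f0f0f0f0e0e0e0e0e0e0e,
  0x40404040404030403030303030303030303030303020202020202020202020202020202020202020202020202020202020202020202020201010101010101010101010101010101010101010100010101010101010101010101010101000000000000010101010101000000000000000000000000000000000000000000000000000000000000101010101010000000000000101010101010101010101010101010001010101010101010101010101010101010101010100f0f0f0f0f0f0f0f0f0f0f0f0f0f0f0f0f0f0f0f0f0f0f0f0f0f0f0f0f0f0f0f0f0f0f0e0e0e0e0e0e0e0e0e0e0e0e0e0d0e0d0d0d0d0d0d,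
  0x6060606060505050504040404040505040404040404040404040303030303030303030303030303030303030303020202020202020202020202020202020202020201010101010101010101000002020202020202020202010101010101010101010001010101010001010101010000000000000000000000000000000000000000101010101000101010101000101010101010101010100f0f0f0f0f0f0f0f0f0f0000101010101010101010100f0f0f0f0f0f0f0f0f0f0f0f0f0f0f0f0f0f0f0f0e0e0e0e0e0e0e0e0e0e0e0e0e0e0e0e0e0e0e0e0d0d0d0d0d0d0d0d0d0d0c0c0d0d0d0d0d0c0c0c0c0b0b0b0b0b,
  0x505050504040404040403030303040404030303030403030303030303030202020202020303030302020202020202020202020201010101020202020202010101010101010100010101010000000202020202020101010101010101000101010100000101010100000101010100010101010000000000000000000000001010101000101010100000101010100000101010100010101010101010100f0f0f0f0f0f000000101010100010101010101010100f0f0f0f0f0f101010100f0f0f0f0f0f0f0f0f0f0f0f0e0e0e0e0f0f0f0f0f0f0e0e0e0e0e0e0e0e0d0e0e0e0e0d0d0d0e0e0e0e0d0d0d0d0d0d0c0c0c0c,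
  0x404040303030303030303020202030303030202020303020202030202020202020101010302020202020201010102020201010101010100020202010101010101000101010000010101000000000202020101010101010001010100000101010000000101010000000101010000010101000101010000000000001010100010101000001010100000001010100000001010100000101010001010101010100f0f0f000000001010100000101010001010101010100f0f0f001010101010100f0f0f1010100f0f0f0f0f0f0e1010100f0f0f0f0f0f0e0f0f0f0e0e0f0f0f0e0e0e0e0f0f0f0e0e0e0e0e0e0e0e0d0d0d,
  0x3030202020202020202020201010202020202010102020201010202010102010101010002020101020101010100020101010100010100000201010101000101000001010000000101000000000002010101010001010000010100000001010000000001010000000001010000000101000001010001010000101000101000001010000000101000000000101000000000101000000010100000101000101010100f0000000000101000000010100000101000101010100f0000101000101010100f00101010100f10100f0f00101010100f10100f0f10100f0f0f10100f0f0f0f0f10100f0f0f0f0f0f0f0f0f0f0e0e,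
  0x2010101010101010101010101000101010101010001010101000101010001010001000001010100010100010000010100010000010000000101000100000100000001000000000100000000000001010001000001000000010000000001000000000001000000000001000000000100000001000001000110001000001000000010000000001000000000001000000000001000000000100000001000001000101000000000000010000000001000000010000010001010000000100000100010100000100010100010101000001000101000101010001010101000101010101010001010101010101010101010100f].getD i 0
/-- The coefficients of the highest root. -/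
def ww (i : ℕ) : ℕ := [2, 3, 4, 6, 5, 4, 3, 2].getD i 2
/-- A test function. -/
def FF (c : ZMod 17) : ℤ := [0, 4, 4, 7, 6, 6, 0, 4, 0, 3, 4, 0, 6, 3, 5, 7, 4].getD c.val 0
/-- The difference `8 + FF c - FF (3 c)`. -/
def gt (c : ℕ) : ℕ := (0x7fd5a49746478cc58 >>> (4 * (c % 17))) % 16
/-- Sum over the digits. -/
def lp (V n : ℕ) : ℕ := Nat.rec 0 (fun r ih => ih + gt (V >>> (8 * r) % 256)) n
/-- Search through the alcove. -/
def chk : ℕ → ℕ → ℕ → Bool
  | 0, b, V => b == 17 || lp V 240 != 1920
  | n + 1, b, V => (List.range (b / ww n + 1)).all fun k => chk n (b - k * ww n) (V + k * KK n)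

theorem chk8 : chk 8 17 0 = true := by decide +kernel
theorem KK_eq : ∀ i < 8, KK i = ∑ r ∈ range 240, row r i * 256 ^ r := by decide +kernel
theorem gt_eq : ∀ c : ZMod 17, (gt c.val : ℤ) = 8 + FF c - FF (3 * c) := by decide +kernel
theorem ww_eq : ∀ i : Fin chevE8.rank, certE8.rtc th i = ww i := by decide +kernel

/-- Half the sum of the positive roots. -/
def rho (i : Fin chevE8.rank) : ℤ := [46, 68, 91, 135, 110, 84, 57, 29].getD i 0

theorem rho_si : ∀ i : Fin chevE8.rank, form rho (rt (simpleR i : Rt chevE8)) = 1 := by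
  decide +kernel
theorem rho_th : form rho (rt th) = 29 := by decide +kernel

theorem ww_ge (i : ℕ) : 2 ≤ ww i := by
  unfold ww
  rcases i with _ | _ | _ | _ | _ | _ | _ | _ | i <;> simp

theorem lp_eq (V n : ℕ) : lp V n = ∑ r ∈ range n, gt (V / 256 ^ r % 256) := by
  induction n with
  | zero => rfl
  | succ n ih =>
    rw [sum_range_succ, ← ih, show (256 : ℕ) ^ n = 2 ^ (8 * n) from (pow_mul 2 8 n).symm,
      ← Nat.shiftRight_eq_div_pow]
    rfl

theorem digit (r : ℕ) : ∀ (n : ℕ) (d : ℕ → ℕ), (∀ s, d s < 256) → r < n →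
    (∑ s ∈ range n, d s * 256 ^ s) / 256 ^ r % 256 = d r := by
  have key : ∀ (n : ℕ) (d : ℕ → ℕ), ∑ s ∈ range (n + 1), d s * 256 ^ s =
      d 0 + 256 * ∑ s ∈ range n, d (s + 1) * 256 ^ s := fun n d => by
    rw [sum_range_succ', mul_sum, add_comm, pow_zero, mul_one]
    exact congrArg _ (sum_congr rfl fun s _ => by ring)
  induction r with
  | zero =>
    rintro (_ | n) d hd hn
    · omega
    · rw [key, pow_zero, Nat.div_one, Nat.add_mul_mod_self_left, Nat.mod_eq_of_lt (hd 0)]
  | succ r ih =>
    rintro (_ | n) d hd hn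
    · omega
    · rw [key, pow_succ', ← Nat.div_div_eq_div_mul, Nat.add_mul_div_left _ _ (by norm_num),
        Nat.div_eq_of_lt (hd 0), zero_add]
      exact ih n _ (fun s => hd (s + 1)) (by omega)

theorem chk_spec (a : ℕ → ℕ) (n : ℕ) : ∀ b V, chk n b V = true → ∑ i ∈ range n, a i * ww i ≤ b →
    b - ∑ i ∈ range n, a i * ww i = 17 ∨ lp (V + ∑ i ∈ range n, a i * KK i) 240 ≠ 1920 := by
  induction n with
  | zero => intro b V h _; simpa [chk] using h
  | succ n ih =>
    intro b V h hb
    rw [sum_range_succ] at hb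
    rw [chk, List.all_eq_true] at h
    have h1 := h (a n) (List.mem_range.2 (Nat.lt_succ_of_le ((Nat.le_div_iff_mul_le
      (by have := ww_ge n; omega)).2 (by omega))))
    have h2 := ih _ _ h1 (by omega)
    rw [sum_range_succ, sum_range_succ, add_comm _ (a n * KK n), ← add_assoc]
    exact h2.imp (fun e => by omega) id

theorem row_cast (r i : ℕ) : (row r i : ZMod 17) = (certE8.rtc r i : ℤ) := by
  have h : (17 : ZMod 17) = 0 := rfl
  rw [row, Cert.rtc, Int.subNatNat_eq_coe, ZMod.natCast_mod]
  push_cast
  linear_combination h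

theorem form_eq {D : ChevalleyDatum} [RS D] (x v : Fin D.rank → ℤ) :
    form x v = ∑ j, v j * form x (rt (simpleR j : Rt D)) := by
  simp only [form, rt_simpleR, Pi.single_apply, mul_ite, ite_mul, mul_one, mul_zero, zero_mul,
    sum_ite_eq', mem_univ, if_true, mul_sum]
  rw [sum_comm]
  exact sum_congr rfl fun j _ => sum_congr rfl fun i _ => by ring

/-- The value of a root modulo 17. -/
noncomputable def val (x : Fin chevE8.rank → ℤ) (r : Rt chevE8) : ZMod 17 := (form x (rt r) : ℤ)

/-- The values are invariant under multiplication by 3. -/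
def Inv3 (x : Fin chevE8.rank → ℤ) : Prop :=
  ∀ F : ZMod 17 → ℤ, ∑ r, F (val x r) = ∑ r, F (3 * val x r)

theorem alcove {x : Fin chevE8.rank → ℤ} (h : Inv3 x)
    (h0 : ∀ i, 0 ≤ form x (rt (simpleR i : Rt chevE8))) (h1 : form x (rt th) ≤ 17) (r : Rt chevE8) :
    val x r = 0 := by
  obtain ⟨a, ha⟩ : ∃ a : ℕ → ℕ, ∀ i : Fin chevE8.rank, form x (rt (simpleR i : Rt chevE8)) = a i :=
    ⟨fun i => if hi : i < chevE8.rank then (form x (rt (simpleR ⟨i, hi⟩ : Rt chevE8))).toNat else 0,
      fun i => by simp only [i.2, dif_pos, Int.toNat_of_nonneg (h0 _)]⟩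
  have e : ∀ r : Rt chevE8, form x (rt r) = ∑ i ∈ range 8, certE8.rtc r i * a i := fun r => by
    rw [form_eq]
    simp only [ha, rt_E8]
    exact Fin.sum_univ_eq_sum_range (fun i => certE8.rtc r i * a i) 8
  have h2 : ∑ i ∈ range 8, a i * ww i ≤ 17 := by
    rw [e, sum_congr rfl (g := fun i => (a i : ℤ) * ww i) fun i hi => by
      rw [ww_eq ⟨i, mem_range.1 hi⟩, mul_comm]] at h1
    exact_mod_cast h1
  obtain ⟨d, hd⟩ : ∃ d : ℕ → ℕ, d = fun r => ∑ i ∈ range 8, row r i * a i := ⟨_, rfl⟩
  have h3 : ∀ r, d r < 256 := fun r => by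
    have : d r ≤ ∑ i ∈ range 8, 8 * (a i * ww i) := hd ▸ sum_le_sum fun i _ => by
      have := ww_ge i
      have : row r i < 17 := Nat.mod_lt _ (by norm_num)
      nlinarith
    rw [← mul_sum] at this
    omega
  have h4 : ∀ r : Rt chevE8, val x r = d r := fun r => by
    rw [val, e, hd]
    push_cast
    simp only [row_cast]
  rcases chk_spec a 8 17 0 chk8 h2 with h5 | h5
  · have h6 : ∑ i ∈ range 8, a i * ww i = 0 := by omega
    rw [h4, hd]
    simp only
    rw [sum_eq_zero fun i hi => ?_, Nat.cast_zero]
    have := sum_eq_zero_iff.1 h6 i hi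
    have := ww_ge i
    rw [show a i = 0 by nlinarith, mul_zero]
  exfalso
  apply h5
  have h6 : ∑ i ∈ range 8, a i * KK i = ∑ r ∈ range 240, d r * 256 ^ r := by
    rw [sum_congr rfl fun i hi => by rw [KK_eq i (mem_range.1 hi), mul_sum], sum_comm, hd]
    exact sum_congr rfl fun r _ => by rw [sum_mul]; exact sum_congr rfl fun i _ => by ring
  rw [zero_add, h6, lp_eq, sum_congr rfl fun r hr => by rw [digit r 240 d h3 (mem_range.1 hr)],
    ← Fin.sum_univ_eq_sum_range (fun r => gt (d r)) 240]
  have h7 : ∀ r : Rt chevE8, (gt (d r) : ℤ) = 8 + FF (val x r) - FF (3 * val x r) := fun r => by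
    rw [← gt_eq, h4, ZMod.val_natCast, gt, gt, Nat.mod_mod]
  have h8 : ∑ r : Rt chevE8, (gt (d r) : ℤ) = 1920 := by
    simp only [h7, sum_sub_distrib, sum_add_distrib, h FF]
    rw [sum_const, card_univ, Fintype.card_fin]
    simp [show chevE8.nroots = 240 from rfl]
  exact_mod_cast h8

theorem form_rt (s r : Rt chevE8) : form (rt s) (rt r) = chevE8.pairing s r := by
  rw [← len_mul_pairing, len_E8, len1, one_mul]

theorem val_step (x : Fin chevE8.rank → ℤ) (s : Rt chevE8) {d : ℤ} (hd : (d : ZMod 17) = val x s)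
    (r : Rt chevE8) : val (x - d • rt s) r = val x (refl s r) := by
  rw [val, val, rt_refl, form_sub_left, form_smul_left, form_sub_right, form_smul_right, form_rt]
  push_cast
  rw [hd, val, mul_comm]

/-- Distance to the centre of the alcove. -/
noncomputable def dist (x : Fin chevE8.rank → ℤ) : ℤ :=
  form ((30 : ℤ) • x - (17 : ℤ) • rho) ((30 : ℤ) • x - (17 : ℤ) • rho)

theorem dist_step (x : Fin chevE8.rank → ℤ) (s : Rt chevE8) (d : ℤ) : dist (x - d • rt s) =
    dist x - 60 * d * (30 * form x (rt s) - 17 * form rho (rt s)) + 1800 * d ^ 2 := by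
  have h2 : form (rt s) (rt s) = 2 := by rw [form_rt, pairing_self]
  simp only [dist, form_sub_left, form_sub_right, form_smul_left, form_smul_right, h2,
    form_symm (rt s) x, form_symm (rt s) rho]
  ring

theorem val_zero (n : ℕ) : ∀ x : Fin chevE8.rank → ℤ, (dist x).toNat = n → Inv3 x →
    ∀ r, val x r = 0 := by
  induction n using Nat.strong_induction_on with
  | _ n ih =>
  intro x hn h
  have key : ∀ (s : Rt chevE8) (d : ℤ), (d : ZMod 17) = val x s → dist (x - d • rt s) < dist x →
      ∀ r, val x r = 0 := fun s d hd hl r => by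
    have h0 : 0 ≤ dist (x - d • rt s) := form_nonneg _
    have := ih _ (by omega) (x - d • rt s) rfl (fun F => by
      simp only [val_step x s hd]
      exact (Equiv.sum_comp (reflP s) fun r => F (val x r)).trans
        ((h F).trans (Equiv.sum_comp (reflP s) fun r => F (3 * val x r)).symm)) (refl s r)
    rwa [val_step x s hd, refl_refl] at this
  by_cases h0 : ∀ i, 0 ≤ form x (rt (simpleR i : Rt chevE8))
  · by_cases h1 : form x (rt th) ≤ 17
    · exact alcove h h0 h1
    · refine key th (form x (rt th) - 17) (by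
        rw [val]; push_cast; exact sub_eq_self.2 rfl) ?_
      rw [dist_step, rho_th]
      nlinarith
  · push Not at h0
    obtain ⟨i, hi⟩ := h0
    refine key (simpleR i) _ rfl ?_
    rw [dist_step, rho_si]
    nlinarith

theorem form_cartan (x : Fin chevE8.rank → ℤ) (r : Rt chevE8) :
    form x (rt r) = ∑ i, x i * chevE8.cartan i r := by
  rw [form]
  refine sum_congr rfl fun i _ => ?_
  rw [cartan_eq, mul_sum]
  exact sum_congr rfl fun j _ => by rw [H63.gram, len_E8, len1, one_mul, mul_assoc]

theorem sum_conj {k ι : Type} [Field k] [Fintype ι] [DecidableEq ι] {s g : GL ι k} {d : ι → k}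
    (hd : s.val = diagonal d) {n : ℕ} (hg : g * s * g⁻¹ = s ^ n) (F : k → ℤ) :
    ∑ j, F (d j) = ∑ j, F (d j ^ n) := by
  have hch : univ.val.map d = univ.val.map fun j => d j ^ n := by
    have h3 := Matrix.charpoly_units_conj g s.val
    rw [← Matrix.coe_units_inv, ← Units.val_mul, ← Units.val_mul, hg, Units.val_pow_eq_pow_val, hd,
      diagonal_pow, charpoly_diagonal, charpoly_diagonal] at h3
    rw [← Polynomial.roots_multiset_prod_X_sub_C (univ.val.map d),
      ← Polynomial.roots_multiset_prod_X_sub_C (univ.val.map fun j => d j ^ n),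
      Multiset.map_map, Multiset.map_map]
    exact congrArg _ h3.symm
  have h2 := congrArg (fun m => (m.map F).sum) hch
  simp only [Multiset.map_map] at h2
  exact h2

theorem fact17 : Fact (Nat.Prime 17) := ⟨by norm_num⟩

/-- No element of order `17` is conjugate to its cube. -/
theorem not_conj_cube {p : ℕ} [hp : Fact p.Prime] (h17 : p ≠ 17) {s g : chevE8.group (Kb p)}
    (h : s ^ 17 = 1) (hg : g * s * g⁻¹ = s ^ 3) : s = 1 := by
  classical
  have := fact17
  by_contra hs1
  obtain ⟨k, c, hc, hk⟩ := conj_tor (e := 17) (fun h0 => h17 ((Nat.prime_dvd_prime_iff_eq hp.out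
    this.out).1 ((CharP.cast_eq_zero_iff (Kb p) p 17).1 h0))) h
  obtain ⟨j, hj⟩ := exists_chi_ne hs1 hk
  obtain ⟨i0, hi0⟩ : ∃ i, c i ≠ 1 := by
    by_contra h2
    push Not at h2
    exact hj (prod_eq_one fun i _ => by rw [h2, _root_.one_zpow])
  have hc' : ∀ i, c i ^ 17 = 1 := fun i => congrFun hc i
  obtain ⟨ζ, hζe⟩ : ∃ ζ, ζ = c i0 := ⟨_, rfl⟩
  have ho : orderOf ζ = 17 := hζe ▸ orderOf_eq_prime (hc' i0) hi0
  have hζ : IsPrimitiveRoot (ζ : Kb p) 17 := by
    rw [← ho, ← orderOf_units]; exact IsPrimitiveRoot.orderOf _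
  choose n _ hn using fun i => hζ.eq_pow_of_pow_eq_one (ξ := (c i : Kb p))
    (by rw [← Units.val_pow_eq_pow_val, hc', Units.val_one])
  have hx : ∀ r : Rt chevE8, chi chevE8 c r = ζ ^ form (fun i => (n i : ℤ)) (rt r) := fun r => by
    rw [form_cartan, H64.zpow_finset_sum]
    refine prod_congr rfl fun i _ => ?_
    rw [_root_.zpow_mul, zpow_natCast]
    congr 1
    exact Units.ext (by rw [Units.val_pow_eq_pow_val, hn])
  let lg : Kb p → ZMod 17 := fun z =>
    if h : ∃ i : ℤ, ((ζ ^ i : (Kb p)ˣ) : Kb p) = z then (h.choose : ℤ) else 0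
  have hlg : ∀ i : ℤ, lg (ζ ^ i : (Kb p)ˣ) = i := fun i => by
    have h2 : ∃ i' : ℤ, ((ζ ^ i' : (Kb p)ˣ) : Kb p) = (ζ ^ i : (Kb p)ˣ) := ⟨i, rfl⟩
    simp only [lg, dif_pos h2]
    have h3 := Units.ext h2.choose_spec
    rwa [zpow_eq_zpow_iff_modEq, ho, ← ZMod.intCast_eq_intCast_iff] at h3
  have h2 : (k * g * k⁻¹) * (k * s * k⁻¹) * (k * g * k⁻¹)⁻¹ = (k * s * k⁻¹) ^ 3 := by
    rw [conj_pow, ← hg]; group
  rw [hk] at h2
  have h4 := val_zero _ (fun i => (n i : ℤ)) rfl (fun F => by
    have h3 := sum_conj (H64.tor_val c) (congrArg Subtype.val h2) fun z => F (lg z)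
    simp only [Fintype.sum_sum_type, Sum.elim_inl, Sum.elim_inr, one_pow, add_right_inj] at h3
    refine (sum_congr rfl fun r _ => ?_).trans (h3.trans (sum_congr rfl fun r _ => ?_))
    · exact congrArg F ((congrArg (fun z : (Kb p)ˣ => lg z) (hx r)).trans (hlg _)).symm
    · refine congrArg F ?_
      rw [← Units.val_pow_eq_pow_val, show (∏ i : Fin chevE8.rank, c i ^ chevE8.cartan i r) = _
        from hx r, ← zpow_natCast, ← _root_.zpow_mul, hlg, val]
      push_cast
      ring) (simpleR j)
  rw [val, ZMod.intCast_zmod_eq_zero_iff_dvd, ← ho, orderOf_dvd_iff_zpow_eq_one, ← hx] at h4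
  exact hj h4

/-- A seventeen-cycle. -/
def x19 : Equiv.Perm (Fin 19) :=
  List.formPerm [0, 1, 2, 3, 4, 5, 6, 7, 8, 9, 10, 11, 12, 13, 14, 15, 16]
/-- An even permutation that cubes it. -/
def y19 : Equiv.Perm (Fin 19) :=
  List.formPerm [1, 3, 9, 10, 13, 5, 15, 11, 16, 14, 8, 7, 4, 12, 2, 6] * List.formPerm [17, 18]

theorem xy19 : Equiv.Perm.sign x19 = 1 ∧ Equiv.Perm.sign y19 = 1 ∧ x19 ≠ 1 ∧ x19 ^ 17 = 1 ∧
    y19 * x19 * y19⁻¹ = x19 ^ 3 := by decide +kernel

theorem le18 {D : ChevalleyDatum} [RS D] [Tab D] {F : Type u} [Field F] [Fintype F] {p : ℕ}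
    [Fact p.Prime] [CharP F p] {r : ℕ} {H : Subgroup (D.group F)} {K : Subgroup H} [K.Normal]
    (hK : Nonempty (H ⧸ K ≃* alternatingGroup (Fin r)))
    (h : ∀ s g : D.group (Kb p), s ^ 17 = 1 → g * s * g⁻¹ = s ^ 3 → s = 1) : r ≤ 18 := by
  by_contra hr
  have := fact17
  obtain ⟨L, _, π, hπ⟩ := cov (p := p) (m := 19) (by omega) hK
  obtain ⟨s, g, h1, h2, h3⟩ := H26.ASE.exists_eig π (x := x19) (y := y19) (hπ ▸ xy19.1)
    (hπ ▸ xy19.2.1) xy19.2.2.1 xy19.2.2.2.1 xy19.2.2.2.2
  exact h1 (Subtype.ext (h s g (congrArg Subtype.val h2) (congrArg Subtype.val h3)))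

theorem job19 : Job19.{u} := fun _ _ _ _ _ _ h17 _ _ _ _ hK =>
  le18 hK fun _ _ => not_conj_cube h17

end H1.AS8
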