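import Cfsg.Agent.H1.CKPsi

/-! CK-II: the hyperplane case. -/

set_option autoImplicit false

namespace H1.CK

open Module Submodule H53.CK H62 LinearMap

universe u v

variable {F : Type u} [Field F] {V : Type v} [AddCommGroup V] [Module F V]
  [FiniteDimensional F V] {G : Subgroup (V ≃ₗ[F] V)} {T : TS G} {r : ℕ}

theorem two_le {U : Submodule F V} {x y : V} (h : Ind F x y) (hx : x ∈ U) (hy : y ∈ U) :
    2 ≤ finrank F U := by
  have := Submodule.finrank_lt_finrank_of_lt (lt_of_le_of_ne ((span_singleton_le_iff_mem x U).2 hx)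
    fun e => h.2 (e ▸ hy))
  rwa [finrank_span_singleton h.1] at this

theorem eq_span {U : Submodule F V} {x y : V} (hU : finrank F U = 2) (h : Ind F x y) (hx : x ∈ U)
    (hy : y ∈ U) : span F {x, y} = U :=
  eq_of_le_of_finrank_le (span_le.2 (Set.pair_subset hx hy))
    (hU ▸ two_le h (subset_span (by simp)) (subset_span (by simp)))

/-- The field structure on a hyperplane. -/
structure Om (T : TS G) (φ : Dual F V) (ω : V →ₗ[F] V) : Prop where
  ker : ∀ x, φ x = 0 → φ (ω x) = 0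
  sq : ∀ x, φ x = 0 → ω (ω x) + ω x + x = 0
  nm : ∀ x, φ x = 0 → x ≠ 0 → Ind F x (ω x)
  eq : ∀ x, φ x = 0 → x ≠ 0 → T.W x (ω x) = LinearMap.ker φ
  mem : ∀ x y, φ x = 0 → x ≠ 0 → T.W x y ≤ LinearMap.ker φ → y ∈ span F {x, ω x}

theorem two_cases (h2 : Nat.card F = 2) (c : F) : c = 0 ∨ c = 1 := by
  obtain ⟨y, -, hy⟩ := (Nat.card_eq_two_iff' (0 : F)).1 h2
  exact or_iff_not_imp_left.2 fun hc => (hy c hc).trans (hy 1 one_ne_zero).symm

theorem exists_om [Finite F] (hWS : JobWS.{u, v}) (hWF : JobWF.{u, v}) (hB : JobB1.{u, v})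
    (hs : Sc G) (h2 : T2 G) (tf : TF T r) (hr : r + 1 = finrank F V) (h5 : 5 ≤ r) {φ : Dual F V}
    (h0 : φ ≠ 0) : Nat.card F = 2 ∧ ∃ ω, Om T φ ω := by
  have dH : finrank F (ker φ) = r := by
    have := Dual.finrank_ker_add_one_of_ne_zero h0
    omega
  obtain ⟨S⟩ := hWS F (ker φ) (res G _) (hs.res _) (h2.af_res hs h0) (by omega)
  obtain ⟨w, wf⟩ := hWF F (ker φ) (res G _) S (hs.res _) (h2.af_res hs h0) (by omega)
  have K : ∀ x : ker φ, x ≠ 0 → finrank F (S.W x) = 2 ∧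
      ∀ y : V, T.W x y ≤ ker φ ↔ y ∈ (S.W x).map (ker φ).subtype := fun x hx => by
    have hx' : (x : V) ≠ 0 := fun e => hx (Subtype.ext e)
    obtain ⟨C, hC, hd⟩ := tf.circ x φ hx' h0 x.2
    have le : C ≤ ker φ := fun y hy => (hC y).1 hy (T.right _ y hx')
    have dI : finrank F (C.comap (ker φ).subtype) = 2 := by
      rw [(comapSubtypeEquivOfLe le).finrank_eq]; omega
    have dp : ∀ y, y ∈ F ∙ (x : V) → y ∈ C := fun y hy => (hC y).2 (by
      rw [T.dep _ _ hy, span_singleton_le_iff_mem]; exact x.2)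
    obtain ⟨y, y1, y2⟩ := S.nt x hx
    have e : S.W x = C.comap (ker φ).subtype := eq_of_le_of_finrank_le
      (wf.min x hx _ (dp _ (mem_span_singleton_self _))
        (exists_mem_notMem (by rw [finrank_span_singleton hx, dI]; norm_num)) (by
        rintro e ⟨g, hg, he⟩ h1 y hy
        obtain ⟨c, hc⟩ := mem_span_singleton.1 h1
        have hc : g x = c • (x : V) := (he x).trans (congrArg Subtype.val hc).symm
        change (e y : V) ∈ C
        rw [← he]
        by_cases h3 : g y ∈ F ∙ (x : V)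
        · exact dp _ h3
        refine (hC _).2 fun z hz => ?_
        have i2 : Ind F (g x) (g y) := ⟨by simpa using hx', fun e => h3 (by
          rw [hc] at e
          exact (span_singleton_le_iff_mem _ _).2 (smul_mem _ c (mem_span_singleton_self _)) e)⟩
        rw [← T.congr x (g y) (g x) (g y) ⟨hx', h3⟩ i2
          (hc ▸ smul_mem _ c (subset_span (by simp))) (subset_span (by simp))] at hz
        have := T.map _ (G.inv_mem hg) _ _ _ hz
        simp only [LinearEquiv.coe_inv, LinearEquiv.symm_apply_apply] at this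
        have h4 := he ⟨_, (hC _).1 hy this⟩
        rw [LinearEquiv.apply_symm_apply] at h4
        exact h4 ▸ SetLike.coe_mem _))
      (dI ▸ two_le ⟨hx, y2⟩ (S.self x) y1)
    exact ⟨e ▸ dI, fun y => by rw [e, map_comap_subtype, inf_eq_right.2 le, hC]⟩
  obtain ⟨q2, -, ω₀, hω⟩ := hB F (ker φ) (res G _) S 2 (fun x hx => (K x hx).1) (fun x y hy h => by
    have hx : x ≠ 0 := fun e => hy (by simpa [e, S.zero] using h)
    by_cases e : y ∈ F ∙ x
    · obtain ⟨c, rfl⟩ := mem_span_singleton.1 e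
      exact S.smul c x (left_ne_zero_of_smul hy)
    · exact (eq_span (K y hy).1 ⟨hx, e⟩ (S.symm x y hy h) (S.self y)).symm.trans
        (eq_span (K x hx).1 ⟨hx, e⟩ (S.self x) h)) (by omega)
  obtain ⟨ω, e⟩ := ((ker φ).subtype ∘ₗ ω₀).exists_extend
  have e : ∀ x (hx : φ x = 0), ω x = ω₀ ⟨x, hx⟩ := fun x hx => LinearMap.congr_fun e ⟨x, hx⟩
  have k1 : ∀ x, φ x = 0 → φ (ω x) = 0 := fun x hx => e x hx ▸ (ω₀ ⟨x, hx⟩).2
  have k2 : ∀ x, φ x = 0 → ω (ω x) + ω x + x = 0 := fun x hx => by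
    rw [e x hx, e _ (ω₀ ⟨x, hx⟩).2]
    exact congrArg Subtype.val (hω ⟨x, hx⟩).2
  have k3 : ∀ x, φ x = 0 → x ≠ 0 → Ind F x (ω x) := fun x hx x0 => ⟨x0, fun h => by
    obtain ⟨c, hc⟩ := mem_span_singleton.1 h
    have := k2 x hx
    rw [← hc, map_smul, ← hc] at this
    have e2 : (1 + 1 : F) = 0 := (two_cases q2 _).resolve_right (by simp)
    rcases two_cases q2 c with rfl | rfl
    · exact x0 (by simpa using this)
    · exact x0 (by linear_combination (norm := module) this - e2 • x)⟩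
  have k4 : ∀ x (hx : φ x = 0), x ≠ 0 → ∀ y : V, T.W x y ≤ ker φ ↔
      y ∈ (S.W ⟨x, hx⟩).map (ker φ).subtype := fun x hx x0 =>
    (K ⟨x, hx⟩ fun e => x0 (congrArg Subtype.val e)).2
  have k5 : ∀ x (hx : φ x = 0), ω x ∈ (S.W ⟨x, hx⟩).map (ker φ).subtype := fun x hx =>
    ⟨_, (hω _).1, (e x hx).symm⟩
  refine ⟨q2, ω, k1, k2, k3, fun x hx x0 => eq_of_le_of_finrank_eq ((k4 x hx x0 _).2 (k5 x hx))
    ((tf.rk _ _ (k3 x hx x0)).trans dH.symm), fun x y hx x0 h => ?_⟩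
  rw [eq_span ((finrank_map_subtype_eq _ _).trans (K ⟨x, hx⟩ fun e => x0 (congrArg Subtype.val e)).1)
    (k3 x hx x0) ⟨_, S.self _, rfl⟩ (k5 x hx)]
  exact (k4 x hx x0 y).1 h

omit [FiniteDimensional F V] in
theorem Om.ne {φ ψ : Dual F V} {i j : V →ₗ[F] V} (a : Om T φ i) (b : Om T ψ j) {x : V}
    (h1 : φ x = 0) (h2 : ψ x = 0) (x0 : x ≠ 0) (h : j x ∈ span F {x, i x}) :
    LinearMap.ker ψ = LinearMap.ker φ := by
  rw [← a.eq x h1 x0, ← b.eq x h2 x0]
  exact T.congr _ _ _ _ (a.nm x h1 x0) (b.nm x h2 x0) (subset_span (by simp)) h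

omit [FiniteDimensional F V] in
theorem Om.swap {φ ψ : Dual F V} {i j : V →ₗ[F] V} (a : Om T φ i) (b : Om T ψ j) {x : V}
    (h1 : φ x = 0) (h2 : ψ x = 0) (h : ψ (i x) = 0) : φ (j x) = 0 := by
  by_cases x0 : x = 0
  · simp [x0]
  · exact (a.eq x h1 x0).le (T.symm _ _ _ x0 (a.nm x h1 x0).2 ((b.eq x h2 x0).ge h))

theorem jobII : JobII.{u, v} := by
  intro hWS hWF hB F _ _ V _ _ _ G T r hs h2 tf hr h5
  have om := fun φ => exists_om hWS hWF hB hs h2 tf hr h5 (φ := φ)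
  obtain ⟨u, -, u0⟩ := exists_mem_notMem (W := (⊤ : Submodule F V)) (Z := ⊥) (by simp; omega)
  obtain ⟨w, hw⟩ := exists_ind (F := F) (V := V) (by omega) (mt (mem_bot F).2 u0)
  obtain ⟨φ, p1, p2⟩ := exists_dual_pair hw.2
  obtain ⟨ψ, s1, s2⟩ := exists_dual_pair hw.symm.2
  have φ0 : φ ≠ 0 := fun e => by simp [e] at p1
  have ψ0 : ψ ≠ 0 := fun e => by simp [e] at s1
  obtain ⟨q2, i, a⟩ := om φ φ0
  obtain ⟨-, j, b⟩ := om ψ ψ0
  obtain ⟨-, k, c⟩ := om (φ + ψ) fun e => by simpa [p1, s2] using LinearMap.congr_fun e w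
  have e2 : (1 + 1 : F) = 0 := (two_cases q2 _).resolve_right (by simp)
  have ne : ker ψ ≠ ker φ := fun e => by simpa [s1] using e.ge p2
  have key : ∀ x, φ x = 0 → ψ x = 0 → i x + j x + k x ∈ F ∙ x := fun x h1 h2 => by
    by_cases x0 : x = 0
    · simp [x0]
    have n1 : i x + j x ∉ span F {x, i x} := fun e => ne (a.ne b h1 h2 x0
      ((add_mem_cancel_left (subset_span (by simp))).1 e))
    have n2 : i x + j x ∉ span F {x, j x} := fun e => ne (b.ne a h2 h1 x0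
      ((add_mem_cancel_right (subset_span (by simp))).1 e)).symm
    have n3 : i x + j x ∉ F ∙ x := fun e => n1 (span_mono (by simp) e)
    have le : ∀ z, φ z = 0 → ψ z = 0 → z ∈ T.W x (i x + j x) := fun z z1 z2 => by
      by_cases e : z ∈ F ∙ x
      · exact (span_singleton_le_iff_mem _ _).2 (T.left _ _) e
      · exact T.symm _ _ _ x0 n3 (add_mem (T.symm _ _ _ x0 e ((a.eq x h1 x0).ge z1))
          (T.symm _ _ _ x0 e ((b.eq x h2 x0).ge z2)))
    have hy : ∀ {φ ψ : Dual F V} {z}, φ ≠ 0 → (∀ z, φ z = 0 → ψ z = 0 → z ∈ T.W x (i x + j x)) →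
        z ∈ T.W x (i x + j x) → φ z = 0 → ψ z = 1 → T.W x (i x + j x) ≤ ker φ :=
      fun {φ ψ z} h0 le hz z1 z2 => (eq_of_le_of_finrank_eq (fun v hv => by
        simpa using add_mem (le (v - ψ v • z) (by simp [z1, mem_ker.1 hv]) (by simp [z2]))
          (smul_mem _ (ψ v) hz)) (by
        have := Dual.finrank_ker_add_one_of_ne_zero h0
        rw [tf.rk _ _ ⟨x0, n3⟩]
        omega)).ge
    obtain ⟨s, t, e⟩ := mem_span_pair.1 (c.mem x (i x + j x) (by simp [h1, h2]) x0 fun z hz => by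
      rcases two_cases q2 (φ z) with z1 | z1 <;> rcases two_cases q2 (ψ z) with z2 | z2
      · simp [z1, z2]
      · exact absurd (a.mem _ _ h1 x0 (hy φ0 le hz z1 z2)) n1
      · exact absurd (b.mem _ _ h2 x0 (hy ψ0 (fun z a b => le z b a) hz z2 z1)) n2
      · simp [z1, z2, e2])
    rcases two_cases q2 t with rfl | rfl
    · exact absurd (mem_span_singleton.2 ⟨s, by simpa using e⟩) n3
    · exact mem_span_singleton.2 ⟨s, by linear_combination (norm := module) e - e2 • k x⟩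
  let A := ker φ ⊓ ker ψ ⊓ ker (ψ ∘ₗ i)
  have hi : ∀ x ∈ A, i x ∈ A := fun x ⟨⟨h1, h2⟩, h3⟩ => ⟨⟨a.ker x h1, h3⟩, by
    have := congrArg ψ (a.sq x h1)
    simp only [map_add, map_zero, mem_ker.1 h2, show ψ (i x) = 0 from h3, add_zero] at this
    exact this⟩
  have hj : ∀ x ∈ A, j x ∈ A := fun x ⟨⟨h1, h2⟩, h3⟩ => ⟨⟨a.swap b h1 h2 h3, b.ker x h2⟩,
    b.swap a (b.ker x h2) (a.swap b h1 h2 h3) (by
      simpa [mem_ker.1 h1, a.swap b h1 h2 h3] using congrArg φ (b.sq x h2))⟩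
  have hk : ∀ x ∈ A, k x ∈ A := fun x hx => (add_mem_cancel_left (add_mem (hi x hx) (hj x hx))).1
    ((span_singleton_le_iff_mem _ _).2 hx (key x hx.1.1 hx.1.2))
  obtain ⟨x, -, x0, hx⟩ := exists_mem_notMem_ker [φ, ψ, ψ ∘ₗ i] (W := ⊤) (Z := ⊥) (by simp; omega)
  refine x0 (congrArg Subtype.val (ijk q2 (i := i.restrict hi) (j := j.restrict hj)
    (k := k.restrict hk) (fun x => Subtype.ext (a.sq x x.2.1.1)) (fun x => Subtype.ext (b.sq x x.2.1.2))
    (fun x => Subtype.ext (c.sq x (by simp [mem_ker.1 x.2.1.1, mem_ker.1 x.2.1.2]))) (fun x => ?_)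
    ⟨x, ⟨hx φ (by simp), hx ψ (by simp)⟩, hx (ψ ∘ₗ i) (by simp)⟩))
  obtain ⟨s, e⟩ := mem_span_singleton.1 (key x x.2.1.1 x.2.1.2)
  exact mem_span_singleton.2 ⟨s, Subtype.ext e⟩

end H1.CK
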