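import Cfsg.Agent.H53.CKBase
import Cfsg.Agent.H59.Para

/-! CK-PSI: lifting transvections from `V / x`. -/

set_option autoImplicit false

namespace H1.CK

open Module Submodule H53.CK H62

universe u v

variable {F : Type u} [Field F] {V : Type v} [AddCommGroup V] [Module F V]
  {G : Subgroup (V ≃ₗ[F] V)} {x : V} {g k : V ≃ₗ[F] V}

theorem ex_of_mk {a b : V} (h : (F ∙ x).mkQ a = (F ∙ x).mkQ b) : ∃ s : F, a = b + s • x := by
  obtain ⟨s, hs⟩ := mem_span_singleton.1 ((Submodule.Quotient.eq _).1 h)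
  exact ⟨s, by rw [hs, add_sub_cancel]⟩

theorem mk_self : (F ∙ x).mkQ x = 0 := (Quotient.mk_eq_zero _).2 (mem_span_singleton_self x)

theorem triv (hn : ¬ NTv G) (hx : x ≠ 0) (hg : g ∈ G) (h1 : g x = x)
    (h : ∀ v, (F ∙ x).mkQ (g v) = (F ∙ x).mkQ v) : g = 1 := by
  obtain ⟨ξ, hξ⟩ := exists_dual_of_ne_zero (F := F) hx
  have e : ∀ v, g v = v + (ξ ∘ₗ ((g : V →ₗ[F] V) - LinearMap.id)) v • x := fun v => by
    obtain ⟨s, hs⟩ := ex_of_mk (h v)
    simp [hs, hξ]
  by_contra hne
  refine hn ⟨_, x, fun e0 => hne (LinearEquiv.ext fun v => ?_), hx, by simp [h1], g, hg, e⟩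
  simpa [e0] using e v

theorem uniq (hn : ¬ NTv G) (hx : x ≠ 0) (hg : g ∈ G) (hk : k ∈ G) (h1 : g x = x) (h2 : k x = x)
    (h : ∀ v, (F ∙ x).mkQ (g v) = (F ∙ x).mkQ (k v)) : g = k := by
  rw [← inv_mul_eq_one]
  refine triv hn hx (G.mul_mem (G.inv_mem hg) hk) ?_ fun v => ?_
  · change g.symm (k x) = x
    rw [h2, LinearEquiv.symm_apply_eq, h1]
  · obtain ⟨s, hs⟩ := ex_of_mk (h v).symm
    change (F ∙ x).mkQ (g.symm (k v)) = _
    rw [hs, ← h1, ← map_smul, ← map_add, g.symm_apply_apply, h1, map_add, map_smul, mk_self]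
    simp

theorem allTv_stab [Finite F] (h : AllTv (quo G (F ∙ x))) :
    AllTv (quo (G ⊓ MulAction.stabilizer _ x) (F ∙ x)) := fun φ u hu => by
  have := Fintype.ofFinite F
  obtain ⟨e, ⟨g, hg, h1⟩, h2⟩ := h φ (-u) (by simp [hu])
  obtain ⟨c, hc⟩ := ex_of_mk (x := x) (a := g x) (b := 0) (by rw [← h1, mk_self, map_zero, map_zero])
  have k : ∀ n : ℕ, (g ^ n) x = c ^ n • x ∧
      ∀ v, (F ∙ x).mkQ ((g ^ n) v) = (F ∙ x).mkQ v - (n * φ ((F ∙ x).mkQ v)) • u := fun n => by
    induction n with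
    | zero => simp
    | succ n ih =>
      refine ⟨by rw [pow_succ', LinearEquiv.mul_apply, ih.1, map_smul, hc, zero_add, smul_smul,
        pow_succ], fun v => ?_⟩
      rw [pow_succ', LinearEquiv.mul_apply, ← h1, ih.2, h2, map_sub, map_smul, hu]
      simp only [smul_zero, sub_zero, Nat.cast_succ]
      module
  refine hasTv_of_forall hu fun e' he => ⟨g ^ (Fintype.card F - 1), ⟨G.pow_mem hg _, ?_⟩, fun v => ?_⟩
  · by_cases hx : x = 0
    · simp [hx]
    · change (g ^ _) x = x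
      rw [(k _).1, FiniteField.pow_card_sub_one_eq_one c (by
        rintro rfl
        exact hx (by simpa using hc)), one_smul]
  · rw [he, (k _).2, Nat.cast_sub Fintype.card_pos, FiniteField.cast_card_eq_zero]
    simp

/-- `g` fixes `x` and induces the transvection `(φ, h)` modulo `x`. -/
structure Tv (G : Subgroup (V ≃ₗ[F] V)) (x : V) (φ : Dual F V) (h : V) (g : V ≃ₗ[F] V) : Prop where
  mem : g ∈ G
  fix : g x = x
  act : ∀ v, (F ∙ x).mkQ (g v) = (F ∙ x).mkQ v + φ v • (F ∙ x).mkQ h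

/-- A functional on the quotient. -/
def bar (φ : Dual F V) (h : φ x = 0) : Dual F (V ⧸ F ∙ x) :=
  (F ∙ x).liftQ φ ((span_singleton_le_iff_mem _ _).2 h)

theorem exists_tv (h : AllTv (quo (G ⊓ MulAction.stabilizer _ x) (F ∙ x))) {φ : Dual F V} {u : V}
    (h1 : φ x = 0) (h2 : φ u = 0) : ∃ g, Tv G x φ u g := by
  obtain ⟨e, ⟨g, hg, h3⟩, h4⟩ := h (bar φ h1) ((F ∙ x).mkQ u) h2
  exact ⟨g, hg.1, hg.2, fun v => by rw [← h3, h4]; rfl⟩

theorem Tv.map {φ μ : Dual F V} {h : V} (t : Tv G x φ h g) (h1 : μ x = 0) (h2 : μ h = 0) (v : V) :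
    μ (g v) = μ v := by
  have := congrArg (bar μ h1) (t.act v)
  rw [map_add, map_smul] at this
  exact this.trans (by rw [show bar μ h1 ((F ∙ x).mkQ h) = 0 from h2, smul_zero, add_zero]; rfl)

theorem Tv.comm (hn : ¬ NTv G) (hx : x ≠ 0) {φ μ : Dual F V} {h c : V} (t : Tv G x φ h g)
    (s : Tv G x μ c k) (h1 : φ x = 0) (h2 : μ x = 0) (h3 : φ c = 0) (h4 : μ h = 0) (v : V) :
    g (k v) = k (g v) :=
  LinearEquiv.congr_fun (uniq hn hx (G.mul_mem t.mem s.mem) (G.mul_mem s.mem t.mem)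
    (by simp [t.fix, s.fix]) (by simp [t.fix, s.fix]) fun v => by
      rw [LinearEquiv.mul_apply, LinearEquiv.mul_apply, t.act, s.act, s.act, t.act, s.map h1 h3,
        t.map h2 h4]
      abel) v

theorem Tv.sym (hn : ¬ NTv G) (hx : x ≠ 0) {φ μ : Dual F V} {h c w : V} (t : Tv G x φ h g)
    (s : Tv G x μ c k) (h1 : φ x = 0) (h2 : μ x = 0) (h3 : φ c = 0) (h4 : μ h = 0) :
    μ w • (g c - c) = φ w • (k h - h) := by
  have e := t.comm hn hx s h1 h2 h3 h4 w
  obtain ⟨a, ha⟩ := ex_of_mk (F := F) (x := x) (a := g w) (b := w + φ w • h) (by rw [map_add, map_smul, t.act])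
  obtain ⟨b, hb⟩ := ex_of_mk (F := F) (x := x) (a := k w) (b := w + μ w • c) (by rw [map_add, map_smul, s.act])
  rw [hb, ha] at e
  simp only [map_add, map_smul, t.fix, s.fix] at e
  rw [ha, hb] at e
  linear_combination (norm := module) e

theorem finrank_pair (a b : V) : finrank F (span F {a, b}) ≤ 2 := by
  have := finrank_span_list_le (F := F) [a, b]
  rwa [show {x | x ∈ [a, b]} = {a, b} from Set.ext (by simp)] at this

variable [FiniteDimensional F V]

theorem Tv.fix_of (A : AllTv (quo (G ⊓ MulAction.stabilizer _ x) (F ∙ x))) (hn : ¬ NTv G)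
    (hx : x ≠ 0) {φ : Dual F V} {h c : V} (t : Tv G x φ h g) (h1 : φ x = 0) (h3 : φ c = 0)
    {S : Submodule F V} (hS : finrank F S + 1 < finrank F V) (s1 : x ∈ S) (s2 : h ∈ S)
    (s3 : c ∈ S) : g c = c := by
  obtain ⟨w, -, w1, w2⟩ := exists_mem_notMem_ker [φ] (W := ⊤) (Z := S) (by simpa using hS)
  obtain ⟨μ, m1, m2⟩ := exists_dual_eq_one w1
  obtain ⟨k, s⟩ := exists_tv A (m2 x s1) (m2 c s3)
  have := t.sym hn hx s h1 (m2 x s1) h3 (m2 h s2) (w := w)
  rwa [m1, w2 φ (by simp), one_smul, zero_smul, sub_eq_zero] at this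

theorem part1 [Finite F] (hx : x ≠ 0) (h4 : 4 ≤ finrank F V) (A : AllTv (quo G (F ∙ x))) :
    (finrank F V = 4 ∧ Nat.card F = 2) ∨ NTv G := by
  by_contra hc
  obtain ⟨hq, hn⟩ := not_or.1 hc
  have A := allTv_stab A
  obtain ⟨e, -, he⟩ := exists_ind (F := F) (by omega) hx
  obtain ⟨φ, p1, p2⟩ := exists_dual_pair he
  obtain ⟨h, -, h1, h2⟩ := exists_mem_notMem_ker [φ] (W := ⊤) (Z := F ∙ x)
    (by simp [finrank_span_singleton hx]; omega)
  have h2 := h2 φ (by simp)
  obtain ⟨g, t⟩ := exists_tv A p2 h2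
  have alt : ∀ {h g}, Tv G x φ h g → φ h = 0 → g h = h := fun {h g} t h2 =>
    t.fix_of A hn hx p2 h2 (S := span F {x, h}) ((Nat.add_le_add_right (finrank_pair _ _) 1).trans_lt
      (by omega)) (subset_span (by simp)) (subset_span (by simp)) (subset_span (by simp))
  have sym : ∀ {h c g k}, Tv G x φ h g → Tv G x φ c k → φ h = 0 → φ c = 0 → g c - c = k h - h :=
    fun t s h1 h2 => by simpa [p1] using t.sym hn hx s p2 p2 h2 h1 (w := e)
  have key : ∀ c, φ c = 0 → g c = c := fun c hc => by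
    by_cases h5 : 5 ≤ finrank F V
    · exact t.fix_of A hn hx p2 hc (S := span F {y | y ∈ [x, h, c]})
        ((Nat.add_le_add_right (finrank_span_list_le _) 1).trans_lt h5)
        (subset_span (by simp)) (subset_span (by simp)) (subset_span (by simp))
    by_cases hS : h ∈ span F {x, c}
    · exact t.fix_of A hn hx p2 hc ((Nat.add_le_add_right (finrank_pair x c) 1).trans_lt (by omega))
        (subset_span (by simp)) hS (subset_span (by simp))
    obtain ⟨η₀, n1, n2⟩ := exists_dual_eq_one hS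
    obtain ⟨η, e1, e2, e3, e4⟩ : ∃ η : Dual F V, η h = 1 ∧ η x = 0 ∧ η c = 0 ∧ η e = 0 :=
      ⟨η₀ - η₀ e • φ, by simp [n1, h2], by simp [n2 x (subset_span (by simp)), p2],
        by simp [n2 c (subset_span (by simp)), hc], by simp [p1]⟩
    obtain ⟨β, hβ⟩ := ex_of_mk (x := x) (a := g c) (b := c) (by simpa [hc] using t.act c)
    obtain ⟨g', t'⟩ := exists_tv A p2 hc
    have b1 := sym t t' h2 hc
    have two : (2 : F) * β = 0 := by
      have h3 : φ (h + c) = 0 := by simp [h2, hc]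
      obtain ⟨g'', t''⟩ := exists_tv A p2 h3
      have a1 := alt t'' h3
      have a2 := sym t t'' h2 h3
      have a3 := sym t' t'' hc h3
      rw [map_add] at a1 a2 a3
      rw [alt t h2] at a2
      rw [alt t' hc] at a3
      refine (smul_eq_zero.1 ?_).resolve_right hx
      linear_combination (norm := module) a1 + a2 + a3 + b1 - (2 : F) • hβ
    have sq : ∀ a : F, a ≠ 0 → a ^ 2 * β = β := fun a ha => by
      obtain ⟨k, hk, ek⟩ := mem_of_det_eq_one A
        (LinearEquiv.dilatransvection (f := (a⁻¹ - 1) • bar φ p2) (v := (F ∙ x).mkQ e)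
            (by simpa [bar, p1] using ha) *
          LinearEquiv.dilatransvection (f := (a - 1) • bar η e2) (v := (F ∙ x).mkQ h)
            (by simpa [bar, e1] using ha))
        (by
          rw [LinearEquiv.coe_toLinearMap_mul, map_mul]
          simp [bar, p1, e1, ha])
      have ek : ∀ v, (F ∙ x).mkQ (k v) = (F ∙ x).mkQ v + ((a - 1) * η v) • (F ∙ x).mkQ h +
          ((a⁻¹ - 1) * φ v) • (F ∙ x).mkQ e := fun v => by
        rw [← ek]
        simp [LinearEquiv.dilatransvection.apply, bar, h2]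
      have kx : k x = x := hk.2
      have kφ : ∀ v, φ (k v) = a⁻¹ * φ v := fun v => by
        have := congrArg (bar φ p2) (ek v)
        simp only [map_add, map_smul, bar, mkQ_apply, liftQ_apply, h2, p1, smul_eq_mul] at this
        rw [this]; ring
      have h3 : φ (a • c) = 0 := by simp [hc]
      obtain ⟨g'', t''⟩ := exists_tv A p2 h3
      have cj := LinearEquiv.congr_fun (uniq hn hx (G.mul_mem hk.1 t'.mem) (G.mul_mem t''.mem hk.1)
        (by simp [kx, t'.fix]) (by simp [kx, t''.fix]) fun v => by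
          rw [LinearEquiv.mul_apply, LinearEquiv.mul_apply, t''.act, kφ, ek, ek, t'.act, t'.map p2 hc,
            t'.map e2 e3, map_smul, smul_smul, mul_right_comm, inv_mul_cancel₀ ha, one_mul]
          abel) h
      obtain ⟨s, hs⟩ := ex_of_mk (x := x) (a := k h) (b := a • h) (by
        rw [ek, e1, h2, map_smul]; module)
      have b2 := sym t t'' h2 h3
      have b3 : g' h = h + β • x := by linear_combination (norm := module) hβ - b1
      rw [LinearEquiv.mul_apply, LinearEquiv.mul_apply, b3, map_add, map_smul, kx, hs, map_add,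
        map_smul, map_smul, t''.fix] at cj
      rw [map_smul] at b2
      refine smul_left_injective F hx ?_
      linear_combination (norm := module) -cj + a • b2 - (a * a) • hβ
    by_contra hne
    have b0 : β ≠ 0 := fun e => hne (by simpa [e] using hβ)
    refine hq ⟨by omega, (Nat.card_eq_two_iff' 0).2 ⟨1, one_ne_zero, fun a ha => ?_⟩⟩
    have e5 := (mul_eq_zero.1 two).resolve_right b0
    have e6 := (mul_eq_right₀ b0).1 (sq a ha)
    exact sub_eq_zero.1 (pow_eq_zero_iff (two_ne_zero (α := ℕ)) |>.1 (by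
      linear_combination e6 + (1 - a) * e5))
  obtain ⟨s, hs⟩ := ex_of_mk (x := x) (a := g e) (b := e + h) (by simpa [p1] using t.act e)
  refine hn ⟨φ, h + s • x, fun e0 => by simp [e0] at p1, fun e0 => h1 (mem_span_singleton.2
    ⟨-s, by rw [eq_neg_of_add_eq_zero_left e0, neg_smul]⟩), by simp [h2, p2], g, t.mem, fun v => ?_⟩
  have := key (v - φ v • e) (by simp [p1])
  rw [map_sub, map_smul, hs] at this
  linear_combination (norm := module) this

theorem exists_qhom (X : Subgroup (V ≃ₗ[F] V)) (W : Submodule F V) (h : ∀ g ∈ X, ∀ w ∈ W, g w ∈ W) :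
    ∃ ρ : X →* ((V ⧸ W) ≃ₗ[F] (V ⧸ W)), ∀ g v, ρ g (W.mkQ v) = W.mkQ (g.1 v) := by
  choose f _ hf using fun g : X => exists_quo (W := W) g.2 (h g g.2)
  refine ⟨MonoidHom.mk' f fun a b => LinearEquiv.ext fun v => ?_, hf⟩
  obtain ⟨v, rfl⟩ := W.mkQ_surjective v
  rw [LinearEquiv.mul_apply, hf, hf, hf]
  rfl

theorem part2 [Finite F] (hx : x ≠ 0) (h5 : finrank F V = 5) (h2 : Nat.card F = 2) (A : AF G) :
    NTv (quo G (F ∙ x)) ∨ NTv G := by
  by_contra hc
  obtain ⟨hq, hn⟩ := not_or.1 hc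
  have := finGL F V
  have := finV F (V ⧸ F ∙ x)
  obtain ⟨φ, hφ⟩ := exists_dual_of_ne_zero (F := F) hx
  let X := G ⊓ MulAction.stabilizer _ x
  have d16 : 2 ^ 4 ∣ Nat.card X := by
    let K : Subgroup X :=
      { carrier := {g | ∀ v, φ (g.1 v) = φ v}
        one_mem' := fun _ => rfl
        mul_mem' := fun {a b} ha hb v => (ha _).trans (hb v)
        inv_mem' := fun {a} ha v => by
          simpa using (ha (a.1.symm v)).symm }
    have := index_eq_ncard K (fun g => φ ∘ₗ (g.1.symm : V →ₗ[F] V)) fun g g' =>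
      ⟨fun e v => by simpa using LinearMap.congr_fun e (g'.1 v), fun e => LinearMap.ext fun v => by
        simpa using e (g'.1.symm v)⟩
    rw [show Set.range _ = {ψ : Dual F V | ψ x = 1} from Set.ext fun ψ => ⟨?_, fun e => ?_⟩,
      card_dual_one hx, h2, h5] at this
    · exact this ▸ K.index_dvd_card
    · rintro ⟨g, rfl⟩
      change φ (g.1.symm x) = 1
      rw [(LinearEquiv.symm_apply_eq _).2 g.2.2.symm, hφ]
    · obtain ⟨g, hg, h3, h4⟩ := A x x φ ψ hφ e
      exact ⟨⟨g, hg, h3⟩, LinearMap.ext fun v => by simpa using (h4 (g.symm v)).symm⟩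
  obtain ⟨P, hP⟩ := Sylow.exists_subgroup_card_pow_prime 2 d16
  have fx : ∀ g ∈ P.map X.subtype, g ∈ G ∧ g x = x := fun g hg => Subgroup.map_subtype_le P hg
  have cP := (X.card_subtype P).trans hP
  generalize P.map X.subtype = P at fx cP
  have fq : finrank F (V ⧸ F ∙ x) = 4 := by
    have := (F ∙ x).finrank_quotient_add_finrank
    rw [finrank_span_singleton hx] at this
    omega
  have st : ∀ g ∈ P, ∀ w ∈ F ∙ x, g w ∈ F ∙ x := fun g hg w hw => by
    obtain ⟨c, rfl⟩ := mem_span_singleton.1 hw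
    rwa [map_smul, (fx g hg).2]
  obtain ⟨ρ, hρ⟩ := exists_qhom P _ st
  let _ := MulAction.compHom (V ⧸ F ∙ x) ρ
  obtain ⟨y, hy, y0⟩ := (IsPGroup.of_card cP).exists_fixed_point_of_prime_dvd_card_of_fixed_point
    (V ⧸ F ∙ x) (by rw [Module.natCard_eq_pow_finrank (K := F), h2, fq]; norm_num) (a := 0)
    fun g => map_zero (ρ g)
  have hy : ∀ g, ρ g y = y := hy
  obtain ⟨σ, hσ⟩ := exists_qhom ρ.range (F ∙ y) (by
    rintro _ ⟨g, rfl⟩ w hw
    obtain ⟨c, rfl⟩ := mem_span_singleton.1 hw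
    rwa [map_smul, hy])
  have inj : Function.Injective (σ.comp ρ.rangeRestrict) := (injective_iff_map_eq_one _).2
    fun g e => Subtype.ext (triv hn hx (fx g g.2).1 (fx g g.2).2 fun v => by
      rw [← hρ, triv hq y0.symm ⟨g, (fx g g.2).1, hρ g⟩ (hy g) fun w => by
        simpa [show σ (ρ.rangeRestrict g) = 1 from e] using (hσ (ρ.rangeRestrict g) w).symm]
      rfl)
  have dv := Subgroup.card_dvd_of_injective _ inj
  have f3 : finrank F ((V ⧸ F ∙ x) ⧸ F ∙ y) = 3 := by
    have := (F ∙ y).finrank_quotient_add_finrank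
    rw [finrank_span_singleton y0.symm] at this
    omega
  have := Fintype.ofFinite F
  rw [cP, H59.card_linearEquiv f3, ← Nat.card_eq_fintype_card, h2] at dv
  revert dv
  decide

theorem jobPsi : JobPsi.{u, v} := fun _ _ _ _ _ _ _ _ _ hx =>
  ⟨part1 hx, fun h5 h2 A _ => part2 hx h5 h2 A⟩

end H1.CK
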