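import Cfsg.Agent.H24.CxKit

/-! Slot H1 of the tower CX: vanishing in degree one for homomorphisms into the central subgroup
(transfer). -/

set_option autoImplicit false

namespace H1.CxH1

open Subgroup Cfsg H98 H24.Cx

universe u

section abstract
variable {G Z M : Type u} [Group G] [MulAction G Z] [AddCommGroup M]

/-- `lam` is a cocycle of the action groupoid of `P`. -/
def Coc (P : Subgroup G) (lam : G → Z → M) : Prop :=
  ∀ u ∈ P, ∀ v ∈ P, ∀ y, lam (u * v) y = lam u (v • y) + lam v y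

theorem rep (P : Subgroup G) : ∃ (r : Z → Z) (t : Z → G), (∀ y, t y ∈ P) ∧ (∀ y, t y • r y = y) ∧
    (∀ g ∈ P, ∀ y, r (g • y) = r y) ∧ ∀ g ∈ P, ∀ y, ((t (g • y))⁻¹ * g * t y) • r y = r y := by
  obtain ⟨r, t, h1, h2⟩ := exists_rep (fun (g : G) (y : Z) => g • y) (one_smul G)
    (fun g h a => (mul_smul g h a).symm) P
  refine ⟨r, t, fun y => (h1 y).1, fun y => (h1 y).2, h2, fun g hg y => ?_⟩
  have e1 : t y • r y = y := (h1 y).2
  have e2 : t (g • y) • r (g • y) = g • y := (h1 _).2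
  rw [mul_smul, mul_smul, e1, inv_smul_eq_iff, ← h2 g hg y, e2]

theorem exists_coc (P : Subgroup G) (φ : Z → G → M)
    (hom : ∀ y, ∀ u ∈ P, ∀ v ∈ P, u • y = y → v • y = y → φ y (u * v) = φ y u + φ y v)
    (conj : ∀ t ∈ P, ∀ y, ∀ u ∈ P, u • t • y = t • y → φ (t • y) u = φ y (t⁻¹ * u * t)) :
    ∃ lam : G → Z → M, Coc P lam ∧ ∀ u ∈ P, ∀ y, u • y = y → lam u y = φ y u := by
  obtain ⟨r, t, h1, h2, h3, h4⟩ := rep (Z := Z) P
  refine ⟨fun u y => φ (r y) ((t (u • y))⁻¹ * u * t y), fun u hu v hv y => ?_, fun u hu y e => ?_⟩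
  · have a := h4 u hu (v • y)
    rw [h3 v hv] at a
    show φ (r y) _ = φ (r (v • y)) _ + φ (r y) _
    rw [h3 v hv, ← hom _ _ (mul_mem (mul_mem (inv_mem (h1 _)) hu) (h1 _)) _
      (mul_mem (mul_mem (inv_mem (h1 _)) hv) (h1 _)) a (h4 v hv y), mul_smul]
    congr 1
    group
  · show φ (r y) _ = _
    rw [e, ← conj _ (h1 y) _ u hu (by rw [h2, e]), h2]

theorem sum_act [Fintype Z] (g : G) (b : Z → M) : ∑ y, b (g • y) = ∑ y, b y :=
  Equiv.sum_comp (MulAction.toPerm g) b

theorem sum_zero [Fintype Z] {P : Subgroup G} {mu : G → Z → M} (h : Coc P mu)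
    (h0 : ∀ u ∈ P, ∀ y, u • y = y → mu u y = 0) {u : G} (hu : u ∈ P) : ∑ y, mu u y = 0 := by
  obtain ⟨r, t, h1, h2, h3, h4⟩ := rep (Z := Z) P
  have k : ∀ y, mu u y = mu (t (u • y)) (r (u • y)) - mu (t y) (r y) := fun y => by
    have m := mul_mem (mul_mem (inv_mem (h1 (u • y))) hu) (h1 y)
    have a := h u hu _ (h1 y) (r y)
    have b := h _ (h1 (u • y)) _ m (r y)
    rw [h2] at a
    rw [h4 u hu, h0 _ m _ (h4 u hu y), add_zero, ← mul_assoc, mul_inv_cancel_left, a] at b
    rw [h3 u hu, ← b, add_sub_cancel_right]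
  simp only [k, Finset.sum_sub_distrib]
  rw [sum_act u fun y => mu (t y) (r y), sub_self]

theorem main [Fintype Z] (F : Z → Z → G → M)
    (hH : ∀ x y u v, u • x = x → u • y = y → v • x = x → v • y = y →
      F x y (u * v) = F x y u + F x y v)
    (hE : ∀ (g : G) x y u, u • g • x = g • x → u • g • y = g • y →
      F (g • x) (g • y) u = F x y (g⁻¹ * u * g))
    (hC : ∀ x y z u, u • x = x → u • y = y → u • z = z → F y z u - F x z u + F x y u = 0) :
    ∃ T : Z → G → M, (∀ x u v, u • x = x → v • x = x → T x (u * v) = T x u + T x v) ∧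
      (∀ x u, (∀ y : Z, u • y = y) → (∀ y, F x y u = 0) → T x u = 0) ∧
      (∀ (g : G) x u, u • g • x = g • x → T (g • x) u = T x (g⁻¹ * u * g)) ∧
      ∀ x y u, u • x = x → u • y = y → T x u - T y u = Fintype.card Z • F x y u := by
  have k : ∀ x : Z, ∃ lam : G → Z → M, Coc (MulAction.stabilizer G x) lam ∧
      ∀ u ∈ MulAction.stabilizer G x, ∀ y, u • y = y → lam u y = F x y u := fun x =>
    exists_coc _ (F x) (fun y u hu v hv a b => hH x y u v hu a hv b) fun t ht y u hu a => by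
      have e : t • x = x := ht
      rw [← hE t x y u (by rw [e]; exact hu) a, e]
  choose lam h1 h2 using k
  refine ⟨fun x u => ∑ y, lam x u y, fun x u v hu hv => ?_, fun x u a b => ?_, fun g x u hu => ?_,
    fun x x' u hu hu' => ?_⟩
  · simp only [h1 x u hu v hv, Finset.sum_add_distrib]
    rw [sum_act v (lam x u)]
  · exact Finset.sum_eq_zero fun y _ => (h2 x u (a x) y (a y)).trans (b y)
  · have c : ∀ v ∈ MulAction.stabilizer G (g • x), g⁻¹ * v * g ∈ MulAction.stabilizer G x :=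
      fun v hv => by
        have e : v • g • x = g • x := hv
        show _ • x = x
        rw [mul_smul, mul_smul, e, inv_smul_smul]
    have := sum_zero (P := MulAction.stabilizer G (g • x))
      (mu := fun u y => lam (g • x) u y - lam x (g⁻¹ * u * g) (g⁻¹ • y))
      (fun v hv w hw y => by
        have e : g⁻¹ * (v * w) * g = (g⁻¹ * v * g) * (g⁻¹ * w * g) := by group
        have e' : (g⁻¹ * w * g) • g⁻¹ • y = g⁻¹ • w • y := by
          rw [mul_smul, smul_inv_smul, mul_smul]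
        show _ - _ = (_ - _) + (_ - _)
        rw [h1 _ v hv w hw, e, h1 x _ (c v hv) _ (c w hw), e']
        abel)
      (fun v hv y e => by
        have e' : (g⁻¹ * v * g) • g⁻¹ • y = g⁻¹ • y := by
          rw [mul_smul, smul_inv_smul, mul_smul, e]
        show _ - _ = _
        rw [h2 _ v hv y e, h2 x _ (c v hv) _ e', ← hE g x _ v hv (by rw [smul_inv_smul, e]),
          smul_inv_smul, sub_self]) (u := u) hu
    rw [Finset.sum_sub_distrib, sum_act g⁻¹ (lam x (g⁻¹ * u * g)), sub_eq_zero] at this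
    exact this
  · have := sum_zero (P := MulAction.stabilizer G x ⊓ MulAction.stabilizer G x')
      (mu := fun u y => lam x u y - lam x' u y - F x x' u)
      (fun v hv w hw y => by
        show _ - _ - _ = (_ - _ - _) + (_ - _ - _)
        rw [h1 x v hv.1 w hw.1, h1 x' v hv.2 w hw.2, hH x x' v w hv.1 hv.2 hw.1 hw.2]
        abel)
      (fun v hv y e => by
        show _ - _ - _ = _
        rw [h2 x v hv.1 y e, h2 x' v hv.2 y e, ← neg_eq_zero, ← hC x x' y v hv.1 hv.2 e]
        abel) (u := u) ⟨hu, hu'⟩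
    rw [Finset.sum_sub_distrib, Finset.sum_sub_distrib, sub_eq_zero, Finset.sum_const,
      Finset.card_univ] at this
    exact this

end abstract

theorem jobH1 : JobH1.{u} := by
  intro p _ G X A _ _ _ _ j hX hj f hf hc
  classical
  have := hX.fin
  have : Finite A := Finite.of_injective j hj.inj
  have hY : IsPGroup p j.range := hj.isP.of_surjective _ j.rangeRestrict_surjective
  have hs : ∀ (g : G) (x : X), On j.range [x] → On j.range [g • x] := fun g x h =>
    on_one.2 fun _ ⟨a, e⟩ => by rw [← e, ← mul_smul, hj.cen, mul_smul, on_one.1 h _ ⟨a, rfl⟩]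
  let Z : SubMulAction G X := ⟨{x | On j.range [x]}, fun g x h => hs g x h⟩
  have : Fintype Z := Fintype.ofFinite _
  have o2 : ∀ x y : Z, On j.range [x.1, y.1] := fun x y => on_cons.2 ⟨x.2, y.2⟩
  have s1 : ∀ (u : G) (x : X), u ∈ st ⊤ [x] ↔ u • x = x := fun u x => by simp [mem_st]
  have s2 : ∀ (u : G) (x y : X), u ∈ st ⊤ [x, y] ↔ u • x = x ∧ u • y = y := fun u x y => by
    simp [mem_st]
  have s3 : ∀ (u : G) (x y z : X), u ∈ st ⊤ [x, y, z] ↔ u • x = x ∧ u • y = y ∧ u • z = z :=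
    fun u x y z => by simp [mem_st]
  have v : ∀ {u : G} {x : Z}, u • x = x → u • x.1 = x.1 := fun e => congrArg Subtype.val e
  obtain ⟨T, t1, t2, t3, t4⟩ := main (G := G) (Z := Z) (M := Additive A)
    (fun x y u => f [x.1, y.1] u)
    (fun x y u w a b c e => (hf.mem _ rfl (o2 x y)).1 u ((s2 _ _ _).2 ⟨v a, v b⟩) w
      ((s2 _ _ _).2 ⟨v c, v e⟩))
    (fun g x y u a b => sub_eq_zero.1
      (hf.eqv g (mem_top g) _ rfl (o2 x y) u ((s2 _ _ _).2 ⟨v a, v b⟩)))
    (fun x y z u a b c => by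
      have := hc [x.1, y.1, z.1] rfl (on_cons.2 ⟨x.2, o2 y z⟩) u ((s3 _ _ _ _).2 ⟨v a, v b, v c⟩)
      rwa [d_three] at this)
  obtain ⟨m, hm⟩ : ∃ m : ℤ, ∀ w : Additive A, m • Fintype.card Z • w = w := by
    obtain ⟨k, hk⟩ := IsPGroup.iff_card.1 hj.isP
    have c : (Fintype.card Z).Coprime (Nat.card A) := by
      rw [hk, ← Nat.card_eq_fintype_card]
      exact Nat.Coprime.pow_right k
        ((Nat.Prime.coprime_iff_not_dvd Fact.out).2 (hX.card_on hY)).symm
    obtain ⟨a, b, e⟩ := Nat.isCoprime_iff_coprime.2 c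
    refine ⟨a, fun w => ?_⟩
    have z : Nat.card A • w = 0 := card_nsmul_eq_zero' (G := Additive A)
    conv_rhs => rw [← one_smul ℤ w, ← e, add_smul, mul_smul, mul_smul, natCast_zsmul,
      natCast_zsmul, z, smul_zero, add_zero]
  let E : X → HW G A := fun x => if h : On j.range [x] then fun u => -(m • T ⟨x, h⟩ u) else 0
  have hE : ∀ (x : X) (h : On j.range [x]) (u : G), E x u = -(m • T ⟨x, h⟩ u) := fun x h u =>
    congrFun (dif_pos h : E x = _) u
  refine ⟨fun l => match l with | [x] => E x | _ => 0, ⟨fun l a b => ?_, fun g _ l a b => ?_,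
    fun e => by omega⟩, fun l a b => ?_⟩
  · obtain ⟨x, rfl⟩ := List.length_eq_one_iff.1 a
    refine ⟨fun u hu w hw => ?_, fun a => ?_⟩
    · show E x _ = E x _ + E x _
      rw [hE x b, hE x b, hE x b, t1 _ u w (Subtype.ext ((s1 _ _).1 hu))
        (Subtype.ext ((s1 _ _).1 hw)), smul_add, neg_add]
    · show E x _ = _
      rw [hE x b, t2 _ _ (fun y => Subtype.ext (on_one.1 y.2 _ ⟨a, rfl⟩))
        fun y => (hf.mem _ rfl (o2 _ y)).2 a, smul_zero, neg_zero]
  · obtain ⟨x, rfl⟩ := List.length_eq_one_iff.1 a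
    intro u hu
    show E (g • x) u - E x (g⁻¹ * u * g) = 0
    rw [hE x b, hE _ (hs g x b), ← t3 g ⟨x, b⟩ u (Subtype.ext ((s1 _ _).1 hu))]
    exact sub_self _
  · obtain ⟨x, y, rfl⟩ := List.length_eq_two.1 a
    intro u hu
    obtain ⟨b1, b2⟩ := on_cons.1 b
    obtain ⟨c1, c2⟩ := (s2 _ _ _).1 hu
    rw [d_two]
    show f [x, y] u - (E y u - E x u) = 0
    rw [hE x b1, hE y b2, neg_sub_neg, ← smul_sub,
      t4 ⟨x, b1⟩ ⟨y, b2⟩ u (Subtype.ext c1) (Subtype.ext c2), hm, sub_self]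

end H1.CxH1
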