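import Cfsg.Agent.H1.LXWrap
import Cfsg.Agent.H1.D4Spec
import Cfsg.Agent.H53.PGSpec
import Cfsg.Agent.H12.Linearize

/-! Assembly of the recognition of `Ω₈⁺(2)` in terms of the jobs. -/

set_option autoImplicit false
set_option linter.unusedSectionVars false

namespace H1.LX

open Cfsg H78

universe u

/-- an automorphism of order seven -/
def aut7 : (Fin 5 → ZMod 2) ≃+ (Fin 5 → ZMod 2) where
  toFun := fun v => ![v 0, v 1, v 4, v 2 + v 4, v 3]
  invFun := fun v => ![v 0, v 1, v 3 + v 2, v 4, v 2]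
  left_inv := show ∀ _, _ by decide +kernel
  right_inv := show ∀ _, _ by decide +kernel
  map_add' := by decide +kernel

theorem aut7_spec : ∃ (f : (Fin 5 → ZMod 2) ≃+ (Fin 5 → ZMod 2)) (a b : Fin 5 → ZMod 2),
    f^[1] a = a ∧ b ≠ f^[24] b ∧ a ≠ 0 :=
  ⟨aut7, Pi.single 0 1, Pi.single 2 1, by decide +kernel⟩

section basic

variable {G : Type*} [Group G] [Finite G] {z : G}

theorem exists_kap (h : Big z 4) (e : ↥(cen z) ⧸ pCore 2 ↥(cen z) ≃* S33) : ∃ κ, Kap z κ := by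
  classical
  have m := fun a (ha : a * z = z * a) => Subgroup.mem_centralizer_singleton_iff.2 ha
  refine ⟨fun a => if ha : a * z = z * a then e ((⟨a, m a ha⟩ : cen z) : _ ⧸ _) else 1, h,
    fun a b ha hb => ?_, fun g => ?_, fun a ha => ?_⟩
  · rw [dif_pos ha, dif_pos hb, dif_pos (Commute.mul_left ha hb).eq, ← map_mul]; rfl
  · obtain ⟨a, ha⟩ := QuotientGroup.mk_surjective (e.symm g)
    have h1 := Subgroup.mem_centralizer_singleton_iff.1 a.2
    exact ⟨a, h1, by rw [dif_pos h1, Subtype.coe_eta, ha, e.apply_symm_apply]⟩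
  · rw [dif_pos ha, map_eq_one_iff _ e.injective, QuotientGroup.eq_one_iff]
    exact (mem_O2C_iff ⟨a, m a ha⟩).symm

theorem Kap.pow {κ : G → S33} (h : Kap z κ) {a : G} (ha : a * z = z * a) : a ^ 24 = 1 := by
  have h1 : ∀ n : ℕ, κ (a ^ (n + 1)) = κ a ^ (n + 1) := fun n => by
    induction n with
    | zero => simp
    | succ n ih => rw [pow_succ, h.mul _ _ (Commute.pow_left ha _) ha, ih, ← pow_succ]
  have h2 : ∀ g : Equiv.Perm (Fin 3), g ^ 6 = 1 := by decide +kernel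
  have h3 := (h.ker _ (Commute.pow_left ha 6)).1 ((h1 5).trans
    (Prod.ext (h2 _) (Prod.ext (h2 _) (h2 _))))
  rw [show 24 = 6 * 2 * 2 from rfl, pow_mul, pow_mul, sq, sq]
  rcases h.big.lx.sq _ h3 with e | e <;> rw [e]
  · exact one_mul 1
  · exact h.big.lx.z_sq

theorem T0.not_trans {κ : G → S33} {p : X3 → G} (h : T0 z κ p)
    (ht : ∀ a ∈ O2C z, ∀ b ∈ O2C z, a * a = 1 → b * b = 1 → a ∉ Subgroup.zpowers z →
      b ∉ Subgroup.zpowers z → ∃ g, g * z = z * g ∧ g * a * g⁻¹ = b) : False := by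
  have hx := h.big.lx.toXS
  have c : ∀ x y, cf (p x) (p y) = if Opp x y then 1 else 0 := fun x y => by
    split_ifs with e
    · exact cf_eq_one.2 fun e' => (h.comm x y).1 e' e
    · exact cf_eq_zero.2 ((h.comm x y).2 e)
  have nz : ∀ q ∈ O2C z, ∀ y, cf q (p y) = 1 → q ∉ Subgroup.zpowers z := fun q _ y e hq => by
    rcases (mem_zpowers_invol hx.z_sq q).1 hq with rfl | rfl
    · rw [cf_one_left] at e; exact zero_ne_one e
    · rw [hx.cf_z_left (h.mem y)] at e; exact zero_ne_one e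
  have hb := (O2C z).mul_mem (h.mem (0, 0, 0)) (h.mem (0, 1, 1))
  have cb : ∀ y, cf (p (0, 0, 0) * p (0, 1, 1)) (p y) =
      (if Opp (0, 0, 0) y then 1 else 0) + if Opp (0, 1, 1) y then 1 else 0 := fun y => by
    rw [hx.cf_mul_left (h.mem _) (h.mem _) (h.mem _), c, c]
  obtain ⟨g, hg, e⟩ := ht _ (h.mem (0, 0, 0)) _ hb (h.sq _) (sf_eq_zero.1 (by
      rw [hx.sf_mul (h.mem _) (h.mem _), sf_eq_zero.2 (h.sq _), sf_eq_zero.2 (h.sq _), c]; decide))
    (nz _ (h.mem _) (1, 1, 1) (by rw [c]; decide)) (nz _ hb (1, 1, 1) (by rw [cb]; decide))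
  have key : ∀ x : X3, ∃ y, ((if Opp (0, 0, 0) y then 1 else 0) + if Opp (0, 1, 1) y then 1 else 0 :
    ZMod 2) ≠ if Opp x y then 1 else 0 := by decide
  obtain ⟨y, hy⟩ := key (act3 (κ g) (0, 0, 0))
  apply hy
  rw [← cb, ← e]
  rcases h.conj g hg (0, 0, 0) with e' | e' <;> rw [e']
  · exact c _ _
  · rw [hx.cf_mul_z_left (h.mem _) (h.mem _), c]

/-- a point group of rank five has an automorphism of order seven fixing `z` -/
theorem Kap.not_pt {κ : G → S33} (h : Kap z κ) {E : Subgroup G} (hE : Pt z 4 E) : False := by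
  have : Fact (Nat.Prime 2) := ⟨Nat.prime_two⟩
  have pg := H53.Pnt.pg_of_pt h.big hE
  obtain ⟨i⟩ := H12.nonempty_mulEquiv_fun (p := 2) (W := E)
    (fun a b => Subtype.ext (pg.comm a.2 b.2)) (fun a => Subtype.ext (by
      rw [sq]; exact pg.sq a a.2)) pg.card
  obtain ⟨f, a, b, f1, f2, f3⟩ := aut7_spec
  obtain ⟨g, hg⟩ := hE.gl (i.trans (f.toMultiplicative.trans i.symm))
  have h1 : ∀ (n : ℕ) v, g ^ n * i.symm (.ofAdd v) * (g ^ n)⁻¹ = i.symm (.ofAdd (f^[n] v)) :=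
    fun n v => by
      induction n with
      | zero => simp
      | succ n ih =>
        rw [pow_succ', mul_inv_rev, ← mul_assoc, mul_assoc g, mul_assoc g, ih, hg,
          Function.iterate_succ_apply']
        simp
  have h2 := h1 1 a
  rw [pow_one, f1] at h2
  obtain ⟨k, -, hk⟩ := pg.trans (i.symm (.ofAdd a)).2 hE.mx.inv.1
    (fun e => f3 (i.symm.injective ((Subtype.ext e).trans (map_one _).symm)))
    h.big.lx.z_ne
  have h3 := h.pow (a := k * g * k⁻¹) (by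
    rw [← mul_inv_eq_iff_eq_mul, ← hk]
    calc _ = k * (g * i.symm (.ofAdd a) * g⁻¹) * k⁻¹ := by group
      _ = _ := by rw [h2])
  rw [conj_pow, conj_eq_one_iff] at h3
  have h4 := h1 24 b
  rw [h3, one_mul, inv_one, mul_one] at h4
  exact f2 (Multiplicative.ofAdd.injective (i.symm.injective (Subtype.ext h4)))

theorem Frame.simple {y : G} {κ : G → S33} {p : X3 → G} {lam : S33 →* G}
    (h : Frame z y κ p lam) : IsSimpleGroup G := by
  have : Fact (Nat.Prime 2) := ⟨Nat.prime_two⟩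
  have hl := h.big.lx
  have : Nontrivial G := ⟨⟨z, 1, hl.z_ne⟩⟩
  refine ⟨fun N hN => or_iff_not_imp_left.2 fun h0 => ?_⟩
  obtain ⟨⟨g, hg⟩, g1, g2⟩ := (h.fu _).2 ⟨(0, 0, 0), .inl rfl⟩
  have ev : 2 ∣ Nat.card N := by
    by_contra h2
    exact h0 ((hl.isLarge_of_conj (by rw [h.big.card]; decide) (hg ▸ g2) (hg ▸ g1)).2.2.2 N
      (Nat.odd_iff.2 (Nat.two_dvd_ne_zero.1 h2)) (by rw [Subgroup.normalizer_eq_top]; exact le_top))
  have zN : z ∈ N := by
    let _ := MulAction.compHom N ((MulAut.conjNormal (H := N)).comp (O2C z).subtype)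
    obtain ⟨b, hb, b1⟩ := hl.toXS.isPGroup.exists_fixed_point_of_prime_dvd_card_of_fixed_point
      N ev (a := 1) fun q => map_one (MulAut.conjNormal (q : G))
    rcases hl.cent' (x := b) fun q hq => (mul_inv_eq_iff_eq_mul.1
      (congrArg Subtype.val (hb ⟨q, hq⟩))).symm with e | e
    · exact (b1 (Subtype.ext e.symm)).elim
    · exact e ▸ b.2
  have DN : ∀ d, Cj z d → d ∈ N := by rintro _ ⟨g, rfl⟩; exact hN.conj_mem z zN g
  have QN : O2C z ≤ N := h.gen.trans ((Subgroup.closure_le _).2 (by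
    rintro _ ⟨x, rfl⟩; exact DN _ ((h.fu _).2 ⟨x, .inl rfl⟩).1))
  have LN : ∀ g, lam g ∈ N := fun g => by
    have hK := hN.comap lam
    have k : ∀ a : Equiv.Perm (Fin 3), ∃ b c : Equiv.Perm (Fin 3), a = b * Equiv.swap 1 2 * b⁻¹ ∨
      a = b * Equiv.swap 1 2 * b⁻¹ * (c * Equiv.swap 1 2 * c⁻¹) := by decide +kernel
    have k2 : ∀ f : Equiv.Perm (Fin 3) →* S33, lam (f (Equiv.swap 1 2)) ∈ N →
        ∀ a, f a ∈ N.comap lam := fun f hf a => by
      have k3 : ∀ b, f (b * Equiv.swap 1 2 * b⁻¹) ∈ N.comap lam := fun b => by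
        rw [map_mul, map_mul, map_inv]; exact hK.conj_mem _ hf _
      obtain ⟨b, c, rfl | rfl⟩ := k a
      · exact k3 b
      · rw [map_mul]; exact mul_mem (k3 b) (k3 c)
    have := mul_mem (k2 (MonoidHom.inl _ _) (DN _ (h.cjd 0)) g.1) (mul_mem
      (k2 ((MonoidHom.inr _ _).comp (MonoidHom.inl _ _)) (DN _ (h.cjd 1)) g.2.1)
      (k2 ((MonoidHom.inr _ _).comp (MonoidHom.inr _ _)) (DN _ (h.cjd 2)) g.2.2))
    simpa using this
  have HN : ∀ a, a * z = z * a → a ∈ N := fun a ha => by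
    have h1 := (h.ker _ (Commute.mul_left ha (h.lamz (κ a)⁻¹))).1
      (by rw [h.mul _ _ ha (h.lamz _), h.kap, mul_inv_cancel])
    exact (N.mul_mem_cancel_right (LN _)).1 (QN h1)
  obtain ⟨P, hP⟩ := (hl.toXS.isPGroup.comap_subtype (K := N)).exists_le_sylow
  have QP : O2C z ≤ (P : Subgroup N).map N.subtype := fun q hq => ⟨⟨q, QN hq⟩, hP hq, rfl⟩
  rw [eq_top_iff, ← Sylow.normalizer_sup_eq_top P]
  refine sup_le (fun a ha => HN a ?_) le_rfl
  have c := fun x => hl.comm_z_of_isPGroup (P.isPGroup'.map N.subtype) QP (x := x)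
  refine mul_inv_eq_iff_eq_mul.1 ((hl.cent' fun q hq => ?_).resolve_left
    fun e => hl.z_ne (by simpa using e))
  have := c _ (conj_mem_of_mem_normalizer (inv_mem ha) (QP hq))
  calc a * z * a⁻¹ * q = a * (z * (a⁻¹ * q * a⁻¹⁻¹)) * a⁻¹ := by group
    _ = _ := by rw [← this]; group

end basic

theorem s3345_of (rn : JobRN.{u}) (ra : JobRA.{u}) (rt : JobRT.{u}) (a : JobT3.{u})
    (b : JobFrame.{u}) (c : JobD4CT.{u}) (d : JobD4As.{u}) {G : Type u} [Group G] [Finite G]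
    (hG : pResidual 2 G = ⊤) {z : G} (h : Big z 4) (e : ↥(cen z) ⧸ pCore 2 ↥(cen z) ≃* S33) :
    (∀ g : G, g * z * g⁻¹ * z⁻¹ ∈ oddCore G) ∨
      Nonempty (G ≃* Omega (ZMod 2) (quadFormPlus 4 (ZMod 2))) := by
  refine or_iff_not_imp_left.2 fun h0 => ?_
  obtain ⟨κ, hκ⟩ := exists_kap h e
  have hw : ¬ WC z := fun hw => by
    have ht : ∃ t, Nb z t := by
      by_contra hc
      refine h0 fun g => ?_
      rw [H84.inv_eq_of_orderOf_two h.orderOf]
      exact H84.zstar_conj_mul (@Cfsg.Agent.S0215.result) ⟨h.orderOf, fun g hg =>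
        by_contra fun e => hc ⟨_, ⟨g, rfl⟩, e, hg⟩⟩ g
    obtain ⟨p, hp, -⟩ := a G z κ hκ (wc_irr (by decide) h hw ht)
    exact hp.not_trans (H19.LX.jobWC2 H93.LX.jobWC1 G z 4 (by decide) h hw ht).trans
  have hu := fu_of_not_wc hw
  have hi : Irr z := by_contra fun hi =>
    let ⟨_, hE⟩ := rt H19.LX.jobFB rn ra G z 4 hG le_rfl h hu hi
    hκ.not_pt hE
  obtain ⟨p, -, hp⟩ := a G z κ hκ hi
  obtain ⟨y, p', lam, f⟩ := b G z κ p (hp hu)
  have := f.simple
  obtain ⟨i⟩ := c G z y κ p' lam f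
  exact ⟨Subgroup.topEquiv.symm.trans
    ((MulEquiv.subgroupCongr (d H51.asch G z y κ p' lam f).symm).trans i)⟩

end H1.LX
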