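import Cfsg.Agent.H68.EaSpec
import Cfsg.Agent.H84.OlsA

/-! Tower EA (S4546, S4577), slot Lat. -/

set_option autoImplicit false

namespace H1.EaLat

open Cfsg H28 H34 H35 H36 H39 H24.KB H24.Ols Subgroup H68.EA

universe u

/-- Odd automorphism groups of the four-group. -/
theorem four {P : Type*} [Group P] [Finite P] {I : Subgroup (MulAut P)}
    (hc : ∀ x y : P, x * y = y * x) (h2 : ∀ x : P, x ^ 2 = 1) (h4 : Nat.card P = 4)
    (hI : Odd (Nat.card I)) : Nat.card I ≤ 3 ∧ FreeOn I := by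
  let : CommGroup P := { (inferInstance : Group P) with mul_comm := hc }
  refine ⟨Nat.le_of_dvd (by decide) (H84.Ols.dk h2 2 (W := ⊥) hI bot_le
    (by rw [card_bot, h4]; rfl)), fun α hα x x1 hx => ?_⟩
  have := H84.Ols.dk h2 1 (J := zpowers α) (W := zpowers x)
    (H84.Ols.odd_le (zpowers_le.2 hα) hI) (zpowers_le.2 (H84.Ols.mem_Fz.2 hx))
    (by rw [H84.Ols.card_zp h2 x1, h4]; rfl)
  rwa [show H84.Ols.dm 1 = 1 from rfl, Nat.dvd_one, Nat.card_zpowers, orderOf_eq_one_iff] at this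

theorem jobLat : JobLat.{u} := by
  intro quo G _ _ M _ B D e h v h8 h2 v1 r3 χ n hn on
  have := Fact.mk h.hM.1
  have cm : ∀ {P : Type u} [Group P], (∀ x : P, x ^ 2 = 1) → ∀ x y : P, x * y = y * x :=
    fun k x y => (Commute.of_orderOf_dvd_two (fun z => orderOf_dvd_of_pow_eq_one (k z)) x y).eq
  have mem : (h.s v).f χ ∈ LB 2 (h.s v).b := by
    have := cycF_induction (P := fun F => F 1 ∈ LB 2 (h.s v).b) (fun ω hω w hw => ?_) (zero_mem _)
      (fun _ _ a b => add_mem a b) (fsec_mem_cycF (b := (h.s v).b) (h.s v).sec (n := 2)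
        (congrArg Subtype.val (h2 v)) χ.2.isCharacter)
    · simpa [SS.f] using this
    · rcases sq_eq_one_iff.1 hω with rfl | rfl
      · simpa using hw
      · simpa using hw
  obtain ⟨Q, _, _, c, E, f, π, h', qt, -, -, rk, lb⟩ := quo G 2 M B D e h v
    (mem_center_iff.2 fun y => cm h2 y v)
  obtain ⟨w, hw, e1⟩ := lb _ mem
  have E2 : ∀ x : E, x ^ 2 = 1 := fun x => by
    obtain ⟨y, rfl⟩ := qt.surj x
    rw [← map_pow, h2, map_one]
  have E4 : Nat.card E = 4 := by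
    have := qt.card
    rw [h8, orderOf_eq_prime (h2 v) v1] at this
    omega
  have ab := H24.KB.le_cen_of_comm (cm E2)
  obtain ⟨i3, fr⟩ := four (cm E2) E2 E4 (odd_AI h' (cm E2))
  have i4 := rank_eq_top h' ab i3
  obtain ⟨R, d, a1, a2, -, a3, -, -, a4⟩ := free_form h' ab fr (fun _ _ u t ht =>
    ⟨1, one_mem _, by rw [pow_eq_pow_mod t (E2 u), show t % 2 = 1 by omega, pow_one]; rfl⟩)
    (by rintro rfl; simp at E4)
  obtain ⟨x, rfl⟩ := Finset.card_eq_one.1 (show R.card = 1 by rw [← i4, rk, r3, E4] at a1; omega)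
  have e2 : (n : ℂ) = QB 2 c w w := by
    rw [hn, ← e1, ← con_eq h (H24.KB.le_cen_of_comm (cm h2)), h8]; rfl
  obtain ⟨a, m, -, b1, b2⟩ := a4 w hw (by
    rintro rfl
    rw [map_zero, Int.cast_eq_zero] at e2
    simp [e2] at on)
  rw [← e2, Complex.intCast_re, Int.cast_inj] at b1
  obtain ⟨d1, d2, -⟩ := a3 x (Finset.mem_singleton_self x)
  rw [← card_bF, Finset.card_singleton, rk, r3] at a2
  have d3 : ∀ ψ ∈ bF c, d x ψ ^ 2 = 1 := fun ψ hψ => ((Finset.sum_eq_sum_iff_of_le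
    (f := fun _ => (1 : ℤ)) fun ψ hψ => (one_le_sq_iff_one_le_abs _).2 (Int.one_le_abs (d1 ψ hψ))).1
      (by rw [d2, E4]; simp [a2]) ψ hψ).symm
  have par : Even (∑ ψ ∈ bF c, a ψ ^ 2 - ∑ ψ ∈ bF c, d x ψ * a ψ) := by
    rw [← Finset.sum_sub_distrib]
    refine Finset.even_sum _ fun ψ hψ => ?_
    rcases sq_eq_one_iff.1 (d3 ψ hψ) with k | k <;> rw [k]
    · simpa [sq, mul_sub] using Int.even_mul_pred_self (a ψ)
    · simpa [sq, mul_add] using Int.even_mul_succ_self (a ψ)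
  rw [Finset.sum_singleton, E4, ← b1] at b2
  generalize ∑ ψ ∈ bF c, a ψ ^ 2 = A at par b2
  generalize ∑ ψ ∈ bF c, d x ψ * a ψ = s at par b2
  obtain ⟨j, hj⟩ := par
  obtain ⟨k, hk⟩ := on
  rcases Int.even_or_odd' s with ⟨t, rfl | rfl⟩
  · have : (2 * t) ^ 2 = 4 * (t * t) := by ring
    push_cast at b2
    omega
  · obtain ⟨i, hi⟩ := Int.even_mul_succ_self t
    have : (2 * t + 1) ^ 2 = 4 * (t * (t + 1)) + 1 := by ring
    push_cast at b2
    omega

end H1.EaLat
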