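import Cfsg.Agent.H87.S4C

/-! Tower SP4, job F2: the two elementary abelian subgroups of index `q`. -/

set_option autoImplicit false

namespace H1.F2
open Cfsg Cfsg.FusionSystem H92 H93 Subgroup H87.S4

universe u v

variable {K : Type v} [Field K] {Ω : Type*} [Group Ω] {S V W Y Z H : Subgroup Ω}
  {m : K → K → K → K → Ω} {e : K × K × K → Ω} {θ : K → K → K} {g g' n : Ω}
  {γ γ' δ : A (K × K × K)}

/-- conjugation by `g` is `γ` in the coordinates `e` -/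
def R (e : K × K × K → Ω) (g : Ω) (γ : A (K × K × K)) : Prop := ∀ v, g * e v * g⁻¹ = e (γ v)

theorem R.mul (h : R e g γ) (h' : R e g' γ') : R e (g * g') (γ * γ') := fun v => by
  rw [A.mul_apply, ← h, ← h']; group

theorem R.inv (h : R e g γ) : R e g⁻¹ γ⁻¹ := fun v => by
  conv_lhs => rw [← A.self_inv γ v, ← h]
  group

/-- the elements acting through `X` -/
def pre (e : K × K × K → Ω) (X : Subgroup (A (K × K × K))) : Subgroup Ω where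
  carrier := {g | ∃ γ ∈ X, R e g γ}
  one_mem' := ⟨1, one_mem _, fun v => by rw [A.one_apply]; group⟩
  mul_mem' := fun ⟨_, h1, h2⟩ ⟨_, h3, h4⟩ => ⟨_, mul_mem h1 h3, h2.mul h4⟩
  inv_mem' := fun ⟨_, h1, h2⟩ => ⟨_, inv_mem h1, h2.inv⟩

/-- the maps that are scalar on the first layer -/
def Sc (K : Type v) [Field K] : Subgroup (A (K × K × K)) where
  carrier := {γ | ∃ l, l ≠ 0 ∧ ∀ v, (γ v).1 = l * v.1}
  one_mem' := ⟨1, one_ne_zero, fun v => (one_mul _).symm⟩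
  mul_mem' := fun ⟨l, h1, h2⟩ ⟨l', h3, h4⟩ =>
    ⟨l * l', mul_ne_zero h1 h3, fun v => by rw [A.mul_apply, h2, h4, mul_assoc]⟩
  inv_mem' := fun {γ} ⟨l, h1, h2⟩ => ⟨l⁻¹, inv_ne_zero h1, fun v => by
    rw [eq_inv_mul_iff_mul_eq₀ h1, ← h2, A.self_inv]⟩

/-- `n` swaps the first two coordinates -/
def Sw (e : K × K × K → Ω) (n : Ω) : Prop := ∀ x y w, n * e (x, y, w) * n⁻¹ = e (y, x, w)

/-- coordinates on one of the two elementary abelian subgroups -/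
structure Sd (θ : K → K → K) (S V W Y Z : Subgroup Ω) (e : K × K × K → Ω) : Prop where
  th : (∀ t x, θ t x = t ^ 2 * x) ∨ ∀ t x, θ t x = t * x ^ 2
  mem : ∀ g, g ∈ V ↔ ∃ v, g = e v
  memY : ∀ v, e v ∈ Y ↔ v.1 = 0
  memZ : ∀ v, e v ∈ Z ↔ v.1 = 0 ∧ v.2.1 = 0
  ZY : Z ≤ Y
  YV : Y ≤ V
  VS : V ≤ S
  WS : W ≤ S
  add : ∀ v v', e (v + v') = e v * e v'
  inj : Function.Injective e
  act : ∀ s ∈ S, ∃ t, ∀ x y w, s * e (x, y, w) * s⁻¹ = e (x, y + t * x, w + θ t x)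
  sur : ∀ t, ∃ s ∈ W, ∀ x y w, s * e (x, y, w) * s⁻¹ = e (x, y + t * x, w + θ t x)

def e1 (m : K → K → K → K → Ω) (v : K × K × K) : Ω := m v.1 v.2.1 v.2.2 0
def e2 (m : K → K → K → K → Ω) (v : K × K × K) : Ω := m 0 v.2.1 v.2.2 v.1

theorem split3 (γ : A (K × K × K)) (x y w : K) :
    γ (x, y, w) = γ (x, 0, 0) + γ (0, y, 0) + γ (0, 0, w) := by
  rw [← map_add, ← map_add]; simp

variable [CharP K 2]

theorem sd1 (h : Co S m) : Sd (fun t x => t ^ 2 * x) S h.V (h.Q 0) h.Y h.Z (e1 m) := by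
  have k : ∀ c' y' w' a' x y w, m c' y' w' a' * e1 m (x, y, w) * (m c' y' w' a')⁻¹ =
      e1 m (x, y + a' * x, w + a' ^ 2 * x) := fun c' y' w' a' x y w => by
    rw [e1, e1, h.conj]; congr 1 <;> simp [CharTwo.two_eq_zero]
  refine ⟨Or.inl fun _ _ => rfl, fun g => ⟨fun hg => ?_, ?_⟩, fun v => by simp [e1, h.mem_Y],
    fun v => by simp [e1, h.mem_Z], h.Z_le_Y, h.Y_le_V, h.V_le, h.Q_le 0,
    fun v v' => by simp [e1, h.mul], fun v v' r => ?_, fun s hs => ?_,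
    fun t => ⟨m 0 0 0 t, by simp [h.mem_Q], k _ _ _ _⟩⟩
  · obtain ⟨c, y, w, rfl⟩ := h.exV hg
    exact ⟨(c, y, w), rfl⟩
  · rintro ⟨v, rfl⟩; exact h.mem_V.2 rfl
  · obtain ⟨h1, h2, h3, -⟩ := h.inj r
    exact Prod.ext h1 (Prod.ext h2 h3)
  · obtain ⟨c, y, w, a, rfl⟩ := h.surj s hs
    exact ⟨a, k _ _ _ _⟩

theorem sd2 (h : Co S m) : Sd (fun t x => t * x ^ 2) S (h.Q 0) h.V h.Y h.Z (e2 m) := by
  have k : ∀ c' y' w' a' x y w, m c' y' w' a' * e2 m (x, y, w) * (m c' y' w' a')⁻¹ =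
      e2 m (x, y + c' * x, w + c' * x ^ 2) := fun c' y' w' a' x y w => by
    rw [e2, e2, h.conj]; congr 1 <;> simp [CharTwo.two_eq_zero, CharTwo.sub_eq_add, mul_comm]
  refine ⟨Or.inr fun _ _ => rfl, fun g => ⟨fun hg => ?_, ?_⟩, fun v => by simp [e2, h.mem_Y],
    fun v => by simp [e2, h.mem_Z, and_comm], h.Z_le_Y, h.Y_le_Q 0, h.Q_le 0, h.V_le,
    fun v v' => by simp [e2, h.mul, CharTwo.two_eq_zero], fun v v' r => ?_, fun s hs => ?_,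
    fun t => ⟨m t 0 0 0, by simp [h.mem_V], k _ _ _ _⟩⟩
  · obtain ⟨y, w, a, rfl⟩ := h.exQ hg
    exact ⟨(a, y, w), by rw [zero_mul]; rfl⟩
  · rintro ⟨v, rfl⟩; exact h.mem_Q.2 (zero_mul _).symm
  · obtain ⟨-, h2, h3, h1⟩ := h.inj r
    exact Prod.ext h1 (Prod.ext h2 h3)
  · obtain ⟨c, y, w, a, rfl⟩ := h.surj s hs
    exact ⟨c, k _ _ _ _⟩

theorem shift (h : Co S m) (φ ψ φ' ψ' : K →+ K) :
    Co S fun c y w a => m c (y + φ c + φ' a) (w + ψ c + ψ' a) a where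
  mem _ _ _ _ := h.mem ..
  surj g hg := by
    obtain ⟨c, y, w, a, rfl⟩ := h.surj g hg
    exact ⟨c, y - φ c - φ' a, w - ψ c - ψ' a, a, by congr 1 <;> ring⟩
  mul c y w a c' y' w' a' := by
    rw [h.mul]; congr 1 <;> simp only [map_add, CharTwo.two_eq_zero] <;> ring
  inj r := by
    obtain ⟨rfl, h2, h3, rfl⟩ := h.inj r
    exact ⟨rfl, by simpa using h2, by simpa using h3, rfl⟩

/-- the exceptional symmetry -/
theorem symm (h : Co S m) (r : K ≃+* K) (hr : ∀ x, r x ^ 2 = x) :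
    Co S fun c y w a => m a (r w + r c * a) (y + c * a) (r c) where
  mem _ _ _ _ := h.mem ..
  surj g hg := by
    obtain ⟨c, y, w, a, rfl⟩ := h.surj g hg
    refine ⟨r.symm a, w - r.symm a * c, r.symm (y - a * c), c, ?_⟩
    congr 1 <;> simp
  mul c y w a c' y' w' a' := by
    have e : r (a ^ 2) = a := by rw [map_pow, hr]
    have h2 : (2 : K) = 0 := CharTwo.two_eq_zero
    rw [h.mul]
    congr 1
    · simp only [map_add, map_mul, e, h2, zero_mul, map_zero]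
      linear_combination (-(a * r c')) * h2
    · rw [hr]; linear_combination (r c * (r w' + r c' * a') - a * c') * h2
    · rw [map_add]
  inj r' := by
    obtain ⟨rfl, h2, h3, h4⟩ := h.inj r'
    obtain rfl := r.injective h4
    exact ⟨rfl, by simpa using h3, by simpa using h2, rfl⟩

omit [CharP K 2] in
theorem exists_sw {ν : A (K × K × K)} (h1 : ν * ν = 1) (h2 : ∀ y, (ν (0, y, 0)).1 = y)
    (h3 : ∀ w, ν (0, 0, w) = (0, 0, w)) :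
    ∃ φ ψ : K →+ K, ∀ x y w, ν (x, y + φ x, w + ψ x) = (y, x + φ y, w + ψ y) := by
  have a : ∀ x y, ν (0, x + y, 0) = ν (0, x, 0) + ν (0, y, 0) := fun x y => by
    rw [← map_add]; simp
  refine ⟨AddMonoidHom.mk' (fun y => (ν (0, y, 0)).2.1) fun x y => by rw [a]; rfl,
    AddMonoidHom.mk' (fun y => (ν (0, y, 0)).2.2) fun x y => by rw [a]; rfl, fun x y w => ?_⟩
  have e : ν (ν (0, x, 0)) = (0, x, 0) := by rw [← A.mul_apply, h1, A.one_apply]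
  calc _ = ν (ν (0, x, 0) + (0, y, 0) + (0, 0, w)) := by
        congr 1
        exact Prod.ext (by simp [h2]) (Prod.ext (by simp [add_comm]) (by simp [add_comm]))
    _ = _ := by
      rw [map_add, map_add, e, h3]
      exact Prod.ext (by simp [h2]) (Prod.ext (by simp) (by simp [add_comm]))

namespace Sd
variable (h : Sd θ S V W Y Z e)
include h

omit [CharP K 2]

theorem un (h1 : R e g γ) (h2 : R e g γ') : γ = γ' :=
  LinearEquiv.ext fun v => h.inj ((h1 v).symm.trans (h2 v))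

theorem exR (hg : g ∈ Nm V) : ∃ γ, R e g γ := by
  have k : ∀ g ∈ Nm V, ∀ v, ∃ v', g * e v * g⁻¹ = e v' := fun g hg v =>
    (h.mem _).1 (conj_mem_of_Nm hg ((h.mem _).2 ⟨v, rfl⟩))
  choose f hf using k g hg
  choose f' hf' using k _ (inv_mem hg)
  exact ⟨mkA f f' (fun v v' => h.inj (by rw [h.add, ← hf, ← hf, ← hf, h.add, conj_mul]))
    (fun v => h.inj (by rw [← hf', ← hf]; group)) fun v => h.inj (by rw [← hf, ← hf']; group), hf⟩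

theorem exY (hg : g ∈ Y) : ∃ y w, g = e (0, y, w) := by
  obtain ⟨⟨x, y, w⟩, rfl⟩ := (h.mem g).1 (h.YV hg)
  obtain rfl : x = 0 := (h.memY _).1 hg
  exact ⟨y, w, rfl⟩

theorem not_nm (hn : Sw e n) : n ∉ Nm Y := fun r =>
  one_ne_zero ((h.memY _).1 (hn 0 1 0 ▸ conj_mem_of_Nm r ((h.memY (0, 1, 0)).2 rfl)))

variable [Finite Ω]

theorem py_iff (h1 : R e g γ) : PY γ ↔ g ∈ Nm Y :=
  ⟨fun r => mem_Nm_of_conj fun x hx => by
    obtain ⟨y, w, rfl⟩ := h.exY hx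
    rw [h1, h.memY]; exact r y w, fun r y w =>
    (h.memY _).1 (h1 _ ▸ conj_mem_of_Nm r ((h.memY (0, y, w)).2 rfl))⟩

theorem pz_iff (h1 : R e g γ) : PZ γ ↔ g ∈ Nm Z :=
  ⟨fun r => mem_Nm_of_conj fun x hx => by
    obtain ⟨y, w, rfl⟩ := h.exY (h.ZY hx)
    obtain rfl : y = 0 := ((h.memZ _).1 hx).2
    obtain ⟨w', e⟩ := r w
    rw [h1, e, h.memZ]; exact ⟨rfl, rfl⟩, fun r w => by
    have := (h.memZ _).1 (h1 _ ▸ conj_mem_of_Nm r ((h.memZ (0, 0, w)).2 ⟨rfl, rfl⟩))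
    exact ⟨_, Prod.ext this.1 (Prod.ext this.2 rfl)⟩⟩

theorem nm_of_sw (hn : Sw e n) : n ∈ Nm V := mem_Nm_of_conj fun x hx => by
  obtain ⟨⟨x, y, w⟩, rfl⟩ := (h.mem x).1 hx
  exact (h.mem _).2 ⟨_, hn x y w⟩

theorem S_le : S ≤ Nm V := fun s hs => mem_Nm_of_conj fun x hx => by
  obtain ⟨⟨x, y, w⟩, rfl⟩ := (h.mem x).1 hx
  obtain ⟨t, ht⟩ := h.act s hs
  exact (h.mem _).2 ⟨_, ht x y w⟩

variable [CharP K 2] (hH : H ≤ Nm V) (hp : PP 2 (S ⊔ Ct V) H) (hm : ¬ H ≤ Nm Y)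
include hH hp hm

theorem d2 : ∃ Γ U, D2 θ Γ U ∧ (∀ γ, γ ∈ Γ ↔ ∃ g ∈ H, R e g γ) ∧ ∀ γ ∈ U, ∃ s ∈ W, R e s γ := by
  have := Fact.mk Nat.prime_two
  have : Finite K := Finite.of_injective (fun x : K => e (x, 0, 0)) fun x y r =>
    congrArg Prod.fst (h.inj r)
  obtain ⟨I, hI⟩ := exists_im 2 (H := H) (R := R e) (fun g hg => h.exR (hH hg))
    (fun _ _ _ => h.un) fun _ _ _ _ _ _ => R.mul
  have hU : ∀ γ, γ ∈ I (S ⊔ Ct V) ↔ ∃ t, ∀ x y w, γ (x, y, w) = (x, y + t * x, w + θ t x) := fun γ => by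
    rw [hI.mem _ hp.1]
    constructor
    · rintro ⟨g, hg, r⟩
      obtain ⟨s, hs, c, hc, rfl⟩ := (mem_sup_Ct h.S_le).1 hg
      obtain ⟨t, ht⟩ := h.act s hs
      refine ⟨t, fun x y w => h.inj ?_⟩
      rw [← r, ← ht, ← conj_eq_of_Ct hc ((h.mem _).2 ⟨(x, y, w), rfl⟩)]
      nth_rewrite 1 [conj_eq_of_Ct hc ((h.mem _).2 ⟨(x, y, w), rfl⟩)]
      group
    · rintro ⟨t, r⟩
      obtain ⟨s, hs, ht⟩ := h.sur t
      exact ⟨s, mem_sup_left (h.WS hs), fun v => (ht _ _ _).trans (congrArg e (r _ _ _).symm)⟩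
  obtain ⟨g, hg, h1⟩ := SetLike.not_le_iff_exists.1 hm
  obtain ⟨γ, r⟩ := hI.ex g hg
  refine ⟨I H, _, ⟨h.th, hU, hI.syl le_rfl hp (isPGroup_iff_forall.2 fun γ hγ => ⟨1, ?_⟩), γ,
    (hI.mem _ le_rfl _).2 ⟨g, hg, r⟩, mt (h.py_iff r).1 h1⟩, hI.mem _ le_rfl, fun γ hγ => ?_⟩
  · obtain ⟨t, ht⟩ := (hU γ).1 hγ
    refine LinearEquiv.ext fun ⟨x, y, w⟩ => ?_
    rw [pow_one, pow_two, A.mul_apply, ht, ht, add_assoc, add_assoc, CharTwo.add_self_eq_zero,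
      CharTwo.add_self_eq_zero, add_zero, add_zero, A.one_apply]
  · obtain ⟨t, r⟩ := (hU γ).1 hγ
    obtain ⟨s, hs, ht⟩ := h.sur t
    exact ⟨s, hs, fun v => (ht _ _ _).trans (congrArg e (r _ _ _).symm)⟩

theorem line [Finite K] (hP : JobP2.{v}) :
    (H ≤ Nm Z ∧ ∀ y w, (∀ g ∈ H, g * e (0, y, w) * g⁻¹ ∈ Y) → y = 0) ∨
    ((∀ g ∈ H, ∀ y, ∃ y', g * e (0, y, 0) * g⁻¹ = e (0, y', 0)) ∧
      ∀ y w, (∀ g ∈ H, g * e (0, y, w) * g⁻¹ ∈ Y) → w = 0) := by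
  obtain ⟨Γ, U, h1, h2, -⟩ := h.d2 hH hp hm
  have k : ∀ y w, (∀ g ∈ H, g * e (0, y, w) * g⁻¹ ∈ Y) → ∀ γ ∈ Γ, (γ (0, y, w)).1 = 0 :=
    fun y w r γ hγ => by
      obtain ⟨g, hg, r'⟩ := (h2 γ).1 hγ
      exact (h.memY _).1 (r' _ ▸ r g hg)
  refine (hP K θ Γ U h1).imp (And.imp (fun r g hg => ?_) fun r y w r' => r y w (k y w r'))
    (And.imp (fun r g hg y => ?_) fun r y w r' => r y w (k y w r'))
  · obtain ⟨γ, r'⟩ := h.exR (hH hg)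
    exact (h.pz_iff r').1 (r γ ((h2 γ).2 ⟨g, hg, r'⟩))
  · obtain ⟨γ, r'⟩ := h.exR (hH hg)
    exact (r γ ((h2 γ).2 ⟨g, hg, r'⟩) y).imp fun y' e' => by rw [r', e']

theorem weyl [Finite K] (hS : JobSP.{v}) (hW : JobW.{v}) (hZ : H ≤ Nm Z) :
    (∃ n ∈ H, ∃ φ ψ : K →+ K, Sw (fun v => e (v.1, v.2.1 + φ v.1, v.2.2 + ψ v.1)) n) ∧
    (∀ n ∈ H, n ∉ Nm Y → ∀ g ∈ H, g ∈ Nm Y ∨ ∃ s ∈ W, n * s * g ∈ Nm Y) ∧
    ∀ s, s ≠ 0 → ∃ d ∈ H, ∃ δ, R e d δ ∧ (∀ x y w, (δ (x, y, w)).1 = s⁻¹ * x) ∧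
      (∀ y w, (δ (0, y, w)).2.1 = s * y) ∧ ∀ w, δ (0, 0, w) = (0, 0, w) := by
  obtain ⟨Γ, U, h1, h2, h3⟩ := h.d2 hH hp hm
  obtain ⟨ν, hν, a1, a2, a3, a4, a5⟩ := hW hS K θ Γ U h1 fun γ hγ => by
    obtain ⟨g, hg, r⟩ := (h2 γ).1 hγ
    exact (h.pz_iff r).2 (hZ hg)
  obtain ⟨n, hn, rn⟩ := (h2 ν).1 hν
  have br : ∀ g ∈ H, g ∈ Nm Y ∨ ∃ s ∈ W, n * s * g ∈ Nm Y := fun g hg => by
    obtain ⟨γ, r⟩ := h.exR (hH hg)
    refine (a4 γ ((h2 γ).2 ⟨g, hg, r⟩)).imp (h.py_iff r).1 ?_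
    rintro ⟨u, hu, r'⟩
    obtain ⟨s, hs, rs⟩ := h3 u hu
    exact ⟨s, hs, (h.py_iff ((rn.mul rs).mul r)).1 r'⟩
  refine ⟨⟨n, hn, ?_⟩, fun n' hn' r g hg => (br g hg).imp_right ?_, fun s hs => ?_⟩
  · obtain ⟨φ, ψ, r⟩ := exists_sw a1 a2 a3
    exact ⟨φ, ψ, fun x y w => (rn _).trans (congrArg e (r x y w))⟩
  · rintro ⟨s, hs, r1⟩
    obtain ⟨s', hs', r2⟩ := (br _ (inv_mem hn')).resolve_left (mt inv_mem_iff.1 r)
    refine ⟨s'⁻¹ * s, mul_mem (inv_mem hs') hs, ?_⟩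
    convert mul_mem (inv_mem r2) r1 using 1
    group
  · obtain ⟨δ, hδ, r⟩ := a5 s hs
    obtain ⟨d, hd, r'⟩ := (h2 δ).1 hδ
    exact ⟨d, hd, δ, r', r⟩

end Sd

/-- coordinates in which the Weyl elements are swaps -/
theorem exists_std [Finite K] [Finite Ω] (hS : JobSP.{v}) (hW : JobW.{v}) (h : Co S m)
    {H₁ H₂ : Subgroup Ω} (a1 : H₁ ≤ Nm h.V) (a2 : PP 2 (S ⊔ Ct h.V) H₁) (a3 : ¬ H₁ ≤ Nm h.Y)
    (a4 : H₁ ≤ Nm h.Z) (b1 : H₂ ≤ Nm (h.Q 0)) (b2 : PP 2 (S ⊔ Ct (h.Q 0)) H₂) (b3 : ¬ H₂ ≤ Nm h.Y)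
    (b4 : H₂ ≤ Nm h.Z) : ∃ (m' : K → K → K → K → Ω) (h' : Co S m'), h'.V = h.V ∧ h'.Q 0 = h.Q 0 ∧
      h'.Z = h.Z ∧ (∃ n ∈ H₁, Sw (e1 m') n) ∧ ∃ n ∈ H₂, Sw (e2 m') n := by
  obtain ⟨⟨n, hn, φ, ψ, r⟩, -⟩ := (sd1 h).weyl a1 a2 a3 hS hW a4
  obtain ⟨⟨n', hn', φ', ψ', r'⟩, -⟩ := (sd2 h).weyl b1 b2 b3 hS hW b4
  have h' := shift h φ ψ φ' ψ'
  have k : ∀ {P Q : Subgroup Ω}, P ≤ S → Q ≤ S → (∀ c y w a,
      m c (y + φ c + φ' a) (w + ψ c + ψ' a) a ∈ P ↔ m c (y + φ c + φ' a) (w + ψ c + ψ' a) a ∈ Q) →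
      P = Q := fun h1 h2 h3 => Subgroup.ext fun g => ⟨fun hg => by
        obtain ⟨c, y, w, a, rfl⟩ := h'.surj g (h1 hg)
        exact (h3 ..).1 hg, fun hg => by
        obtain ⟨c, y, w, a, rfl⟩ := h'.surj g (h2 hg)
        exact (h3 ..).2 hg⟩
  refine ⟨_, h', k h'.V_le h.V_le fun c y w a => h'.mem_V.trans h.mem_V.symm,
    k (h'.Q_le 0) (h.Q_le 0) fun c y w a => h'.mem_Q.trans h.mem_Q.symm,
    k h'.Z_le h.Z_le fun c y w a => h'.mem_Z.trans (Iff.trans ?_ h.mem_Z.symm),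
    ⟨n, hn, fun x y w => by simpa [e1] using r x y w⟩, n', hn', fun x y w => by
      simpa [e2] using r' x y w⟩
  refine and_congr_right fun e => ?_
  rw [and_comm, and_comm (b := a = 0)]
  exact and_congr_right fun e' => by simp [e, e']

end H1.F2
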