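import Cfsg.Agent.H1.F2A
import Cfsg.Agent.H9.R2Cand

/-! Tower SP4, job F2: fusion systems on the Sylow `2`-subgroup of `Sp₄(2ⁿ)` in standard form. -/

set_option autoImplicit false

namespace H1.F2
open Cfsg Cfsg.FusionSystem H92 H93 Subgroup H87.S4 H92.Es

universe u v

variable {K : Type v} [Field K] {γ δ : A (K × K × K)}

theorem mem_Sc {l : K} (h : ∀ v, (γ v).1 = l * v.1) : γ ∈ Sc K :=
  ⟨l, fun r => by simpa [r] using h (γ⁻¹ (1, 0, 0)), h⟩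

theorem ne0 (γ : A (K × K × K)) (y : K) : γ (0, y, 1) ≠ (0, 0, 0) := fun r => by
  simpa using γ.injective (r.trans (map_zero γ).symm)

theorem first (hy : PY γ) (x y w : K) : (γ (x, y, w)).1 = (γ (x, 0, 0)).1 := by
  rw [split3, add_assoc, ← map_add, Prod.fst_add]
  simpa using hy y w

theorem diag (hz : PZ γ) {α : K → K} {b : K} (hb : b ≠ 0)
    (hc : ∀ a c, γ (0, a * c, a ^ 2 * c) = (0, α a * (b * c), α a ^ 2 * (b * c))) :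
    α 1 ≠ 0 ∧ (∀ a, α a = α 1 * a) ∧ ∀ y w, γ (0, y, w) = (0, α 1 * b * y, α 1 ^ 2 * b * w) := by
  choose ω hω using hz
  have sp : ∀ y w, γ (0, y, w) = γ (0, y, 0) + (0, 0, ω w) := fun y w => by
    rw [← hω, ← map_add]; simp
  have ad : ∀ w w', ω (w + w') = ω w + ω w' := fun w w' => by
    have := map_add γ (0, 0, w) (0, 0, w')
    simpa [hω] using this
  have k1 : ∀ c, γ (0, c, 0) = (0, α 1 * b * c, α 1 ^ 2 * b * c - ω c) := fun c => by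
    have := hc 1 c
    rw [one_pow, one_mul, sp, ← eq_sub_iff_add_eq] at this
    simp [this, mul_assoc]
  have k2 : ∀ a c, α 1 * b * (a * c) = α a * (b * c) ∧
      α 1 ^ 2 * b * (a * c) - ω (a * c) + ω (a ^ 2 * c) = α a ^ 2 * (b * c) := fun a c => by
    simpa [sp _ (a ^ 2 * c), k1] using hc a c
  have k3 : ∀ a, α a = α 1 * a := fun a => mul_right_cancel₀ hb (by linear_combination -(k2 a 1).1)
  have k0 : α 1 ≠ 0 := fun r => ne0 γ 1 (by simpa [r] using hc 1 1)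
  have k4 : ∀ w, ω w = α 1 ^ 2 * b * w := fun w => by
    by_cases h : ∃ a : K, a ^ 2 - a ≠ 0
    · obtain ⟨a, ha⟩ := h
      obtain ⟨c, rfl⟩ : ∃ c, w = (a ^ 2 - a) * c := ⟨_, (mul_div_cancel₀ w ha).symm⟩
      have := (k2 a c).2
      rw [show a ^ 2 * c = (a ^ 2 - a) * c + a * c by ring, ad, k3 a] at this
      linear_combination this
    · have e : ∀ a : K, a ≠ 0 → a = 1 := fun a ha => mul_left_cancel₀ ha (by
        linear_combination not_not.1 (not_exists.1 h a))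
      by_cases hw : w = 0
      · simpa [hw] using ad 0 0
      · rw [e w hw, e b hb, e _ k0, e (ω 1) fun r => ne0 γ 0 (r ▸ hω 1)]; simp
  exact ⟨k0, k3, fun y w => by simp [sp y w, k1, k4]⟩

variable [CharP K 2]

theorem sq_scalar (hK : ∀ s : K, s ≠ 0 → s ^ 3 = 1) {β : K → K}
    (add : ∀ x y, β (x + y) = β x + β y) (mul : ∀ x y, β (x * y) * β 1 = β x * β y) (h1 : β 1 ≠ 0)
    (c : K) : β (β c) = β (β 1) * c := by
  have h2 : (2 : K) = 0 := CharTwo.two_eq_zero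
  have h0 : β 0 = 0 := by simpa using add 0 0
  have k : β (β c / β 1) = β 1 * c := by
    by_cases c0 : c = 0
    · rw [c0, h0, zero_div, h0, mul_zero]
    by_cases c1 : c = 1
    · rw [c1, div_self h1, mul_one]
    have e : c * c + c + 1 = 0 :=
      mul_left_cancel₀ (sub_ne_zero.2 c1) (by linear_combination hK c c0)
    have e' := congrArg β e
    rw [add, add, h0] at e'
    have : (β c - β 1 * c) * (β c - β 1 * (c + 1)) = 0 := by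
      linear_combination β 1 * e' - mul c c + β 1 ^ 2 * e -
        (β 1 * c * β c + β 1 * β c + β 1 ^ 2) * h2
    rcases mul_eq_zero.1 this with r | r
    · rw [sub_eq_zero.1 r, mul_div_cancel_left₀ _ h1, sub_eq_zero.1 r]
    · rw [sub_eq_zero.1 r, mul_div_cancel_left₀ _ h1, add, sub_eq_zero.1 r]
      linear_combination β 1 * h2
  have := mul (β 1) (β c / β 1)
  rw [mul_div_cancel₀ _ h1, k] at this
  exact mul_right_cancel₀ h1 (by linear_combination this)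

theorem sq_Sc (hK : ∀ s : K, s ≠ 0 → s ^ 3 = 1) (hz : PZ γ) (hy : PY γ) {α : K → K}
    (hc : ∀ a c, γ (0, a * c, a ^ 2 * c) =
      (0, α a * (γ (c, 0, 0)).1, α a ^ 2 * (γ (c, 0, 0)).1)) : γ * γ ∈ Sc K := by
  have k : ∀ a c, (γ (0, a * c, 0)).2.1 = α a * (γ (c, 0, 0)).1 := fun a c => by
    obtain ⟨w, e⟩ := hz (a ^ 2 * c)
    have := hc a c
    rw [split3, e] at this
    simpa [show ((0, 0, 0) : K × K × K) = 0 from rfl] using congrArg (·.2.1) this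
  have k0 : α 1 ≠ 0 ∧ (γ (1, 0, 0)).1 ≠ 0 := ⟨fun r => ne0 γ 1 (by simpa [r] using hc 1 1),
    fun r => ne0 γ 1 (by simpa [r] using hc 1 1)⟩
  refine mem_Sc (l := (γ ((γ (1, 0, 0)).1, 0, 0)).1) fun ⟨x, y, w⟩ => ?_
  rw [A.mul_apply, ← sq_scalar hK (β := fun c => (γ (c, 0, 0)).1) (fun x y => by
    rw [← Prod.fst_add, ← map_add]; simp) (fun x y => mul_left_cancel₀ k0.1 ?_) k0.2,
    ← first hy x y w]
  · exact first hy _ _ _
  · have e1 := k 1 (x * y)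
    have e2 := k x 1
    have e3 := k 1 x
    rw [one_mul] at e1 e3
    rw [mul_one] at e2
    linear_combination (γ (1, 0, 0)).1 * (k x y - e1) + (γ (y, 0, 0)).1 * (e3 - e2)

variable {Ω : Type u} [Group Ω] {S V W Z E : Subgroup Ω} {F F' : FusionSystem S}
  {m : K → K → K → K → Ω} {e : K × K × K → Ω} {θ : K → K → K} {g g' n n' x : Ω}
  {α β α' β' : K}

theorem pair (h : Co S m) (h1 : R (e1 m) g γ) (h2 : R (e2 m) g δ) (a c : K) :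
    γ (0, a * c, a ^ 2 * c) =
      (0, (δ (a, 0, 0)).1 * (γ (c, 0, 0)).1, (δ (a, 0, 0)).1 ^ 2 * (γ (c, 0, 0)).1) := by
  have k : ∀ u v, e2 m u * e1 m v * (e2 m u)⁻¹ = e1 m (v + (0, u.1 * v.1, u.1 ^ 2 * v.1)) :=
    fun u v => by rw [e1, e1, e2, h.conj]; congr 1 <;> simp [CharTwo.two_eq_zero]
  have := h1 ((c, 0, 0) + (0, a * c, a ^ 2 * c))
  rw [← k (a, 0, 0) (c, 0, 0), ← conj_mul, ← conj_mul, ← conj_inv, h1, h2, k, map_add] at this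
  exact (add_left_cancel ((sd1 h).inj this)).symm

theorem Y_cen (h : Co S m) : S ≤ Ct h.Y := fun x hx => mem_Ct'.2 fun _ hy => by
  obtain ⟨c, y, w, a, rfl⟩ := h.surj x hx
  obtain ⟨y', w', rfl⟩ := h.exY hy
  simp [h.comm_iff, CharTwo.two_eq_zero]

theorem Q_comm (h : Co S m) : h.Q 0 ≤ Ct (h.Q 0) := fun _ hx => mem_Ct'.2 fun _ hy => by
  obtain ⟨y, w, a, rfl⟩ := h.exQ hx
  obtain ⟨y', w', a', rfl⟩ := h.exQ hy
  simp [h.comm_iff, CharTwo.two_eq_zero]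

theorem inv_cases (h : Co S m) (hx : x ∈ S) : x * x = 1 ↔ x ∈ h.V ∨ x ∈ h.Q 0 := by
  obtain ⟨c, y, w, a, rfl⟩ := h.surj x hx
  rw [h.mul, h.eq_one, h.mem_V, h.mem_Q]
  simp only [CharTwo.add_self_eq_zero, CharTwo.two_eq_zero, zero_mul, zero_add, true_and, and_true,
    mul_eq_zero]
  exact ⟨fun r => r.1, fun r => ⟨r, r.imp_left fun r => by simp [r]⟩⟩

omit [CharP K 2] in
theorem ct_le (h : Co S m) (h1 : E ≤ S) (hx : x ∈ Ct E) (h2 : x ∉ h.Y) :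
    (x ∈ h.V → E ≤ h.V) ∧ (x ∈ h.Q 0 → E ≤ h.Q 0) := by
  refine ⟨fun r z hz => ?_, fun r z hz => ?_⟩ <;> obtain ⟨c, y, w, a, rfl⟩ := h.surj z (h1 hz)
  · obtain ⟨c', y', w', rfl⟩ := h.exV r
    have := (h.comm_iff.1 (hx _ hz)).1
    simp_all [h.mem_V, h.mem_Y]
  · obtain ⟨y', w', a', rfl⟩ := h.exQ r
    have := (h.comm_iff.1 (hx _ hz)).1
    simp_all [h.mem_Q, h.mem_Y]

variable [Finite Ω]

theorem S_St (h : Co S m) (h2 : E ≤ S) : S ≤ St E [h.Y] := fun _ hs =>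
  ⟨Tv_anti h2 _ (h.S_Tv hs), Y_cen h hs⟩

variable (hF : SatA 2 F) (h : Co S m)
include hF h

theorem ess (hE : F.IsEssential 2 E) : ¬ Aut F E ≤ Nm h.Y ∧ (E = h.V ∨ E = h.Q 0) := by
  have := Fact.mk Nat.prime_two
  have hS : E ≤ S := hE.1.1
  have hY : h.Y ≤ E := (le_inf h.Y_le (le_Ct_comm.1 (Y_cen h))).trans (cen_le hF hE)
  have hn : ¬ Aut F E ≤ Nm h.Y := fun r => (ess_lt hF hE).not_ge fun s hs =>
    mem_of_St hF hE (l := [h.Y]) (by simpa using ⟨hY, r⟩) ⟨hs, h.le_Nm hY hS hs⟩ (S_St h hS hs)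
  refine ⟨hn, ?_⟩
  obtain ⟨g, hg, h1⟩ := SetLike.not_le_iff_exists.1 hn
  obtain ⟨y, hy, h2⟩ : ∃ y ∈ h.Y, g * y * g⁻¹ ∉ h.Y := by
    simpa using mt mem_Nm_of_conj h1
  have h3 := ct_le h hS (conj_mem_of_Nm (mem_Nm_Ct hg.1)
    (Ct_anti hS (le_Ct_comm.1 (Y_cen h) hy))) h2
  have k : ∀ {V}, V ≤ S → V ≤ Ct V → E ≤ V → E = V := fun r1 r2 r3 =>
    le_antisymm r3 ((le_inf r1 (r2.trans (Ct_anti r3))).trans (centric_Ct_le hE.1))
  exact ((inv_cases h (hS (conj_mem_of_Nm hg.1 (hY hy)))).1 (by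
    rw [conj_mul, (inv_cases h (h.Y_le hy)).2 (Or.inl (h.Y_le_V hy))]; group)).imp
    (fun r => k h.V_le h.V_comm (h3.1 r)) fun r => k (h.Q_le 0) (Q_comm h) (h3.2 r)

omit h [CharP K 2] in
theorem sq_trick {B : Subgroup Ω} (hg : g ∈ Aut F S) (h1 : S ≤ B) (h2 : Ct S ≤ B) (h3 : g * g ∈ B) :
    g ∈ B := by
  have := Fact.mk Nat.prime_two
  obtain ⟨n, hn, e⟩ := PP.exists_pow_mem hF.pp_top
    (fun a ha => mem_Nm_sup ha.1 (mem_Nm_Ct ha.1)) hg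
  obtain ⟨k, rfl⟩ := Nat.coprime_two_right.1 hn
  have := mul_mem (inv_mem (pow_mem h3 k)) (sup_le h1 h2 e)
  rwa [pow_succ, pow_mul, pow_two, inv_mul_cancel_left] at this

theorem aut_nm (hg : g ∈ Aut F S) : g ∈ Nm h.V ∧ g ∈ Nm (h.Q 0) := by
  have k : ∀ {P}, P = h.V ∨ P = h.Q 0 → cj g P ≤ h.V ∨ cj g P ≤ h.Q 0 := fun {P} hP => by
    have k : ∀ x ∈ cj g P, x ∈ h.V ∨ x ∈ h.Q 0 := by
      rintro _ ⟨x, hx, rfl⟩
      have hS : x ∈ S := by rcases hP with rfl | rfl; exacts [h.V_le hx, h.Q_le 0 hx]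
      refine (inv_cases h (conj_mem_of_Nm hg.1 hS)).1 ?_
      rw [conj_mul, (inv_cases h hS).2 (hP.imp (fun r => r.le hx) fun r => r.le hx)]; group
    by_contra hc
    simp only [not_or, SetLike.not_le_iff_exists] at hc
    obtain ⟨⟨a, ha, a1⟩, b, hb, b1⟩ := hc
    rcases k _ (mul_mem ha hb) with r | r
    · exact a1 ((mul_mem_cancel_right ((k b hb).resolve_right b1)).1 r)
    · exact b1 ((mul_mem_cancel_left ((k a ha).resolve_left a1)).1 r)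
  have hS : cj g h.V ⊔ cj g (h.Q 0) = S := by
    rw [← cj_sup]
    refine (congrArg (cj g) ?_).trans (cj_eq_of_Nm hg.1)
    refine le_antisymm (sup_le h.V_le (h.Q_le 0)) fun x hx => ?_
    obtain ⟨c, y, w, a, rfl⟩ := h.surj x hx
    simpa [h.mul] using mul_mem_sup ((h.mem_V (c := c) (y := y) (w := w)).2 rfl)
      ((h.mem_Q (y := 0) (w := 0) (a := a)).2 (zero_mul _).symm)
  rcases k (Or.inl rfl) with r | r <;> rcases k (Or.inr rfl) with r' | r'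
  · simpa [h.mem_V] using (hS.ge.trans (sup_le r r')) (h.mem 0 0 0 1)
  · exact ⟨mem_Nm_of_le r, mem_Nm_of_le r'⟩
  · refine sq_trick hF (B := Nm h.V ⊓ Nm (h.Q 0)) hg
      (le_inf (sd1 h).S_le (sd2 h).S_le) (le_inf ((Ct_anti h.V_le).trans (Ct_le_Nm _))
        ((Ct_anti (h.Q_le 0)).trans (Ct_le_Nm _))) ⟨mem_Nm_of_le ?_, mem_Nm_of_le ?_⟩ <;> rw [cj_mul]
    exacts [(cj_mono g r).trans r', (cj_mono g r').trans r]
  · simpa [h.mem_Q] using (hS.ge.trans (sup_le r r')) (h.mem 1 0 0 0)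

theorem ext (h1 : h.Y ≤ V) (h2 : V ≤ S) (hg : g ∈ Aut F V) (hY : g ∈ Nm h.Y) :
    ∃ k ∈ Aut F S, g⁻¹ * k ∈ Ct V := by
  have := Fact.mk Nat.prime_two
  have hn := h.le_Nm h1 h2
  have hp := hF.pp_of_normal h2 hn
  have l : S ⊔ Ct V ≤ St V [h.Y] := sup_le (S_St h h2) fun c hc =>
    ⟨mem_Tv_of_Ct hc (Ct_le_Nm _ (Ct_anti h1 hc)), Ct_anti h1 hc⟩
  have e := (hp.mono_right (le_inf l hp.1) inf_le_right).eq_of_pMod
    (inf_le_right.trans (Aut_le_Nm_Ct F V)) le_sup_right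
    ((pMod_St (by simpa using hF.pgl h.Y_le)).mono inf_le_left le_rfl)
  obtain ⟨k, hk, r⟩ := hF.ext_aut hg (hF.fc_of_fn (fn_of_le_Nm F h2 hn)) (le_inf le_rfl hn) (by
    rw [inf_eq_left.2 hn, e, ← cj_eq_of_Nm (mem_Nm_inf (mem_Nm_St hg.1 (by simpa using hY))
      (le_Nm _ hg)), ← e]
    exact cj_mono g le_sup_left)
  rw [sup_eq_right.2 h2] at hk
  exact ⟨k, hk.mem_Aut' hk.cj_le, r⟩

theorem adj (sd : Sd θ S V W h.Y Z e) (hn : n ∈ Aut F V) (sw : Sw e n)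
    (br : ∀ g ∈ Aut F V, g ∈ Nm h.Y ∨ ∃ s ∈ W, n * s * g ∈ Nm h.Y)
    (hd : ∀ g ∈ Aut F S, ∃ l, ∀ y, g * e (0, y, 0) * g⁻¹ = e (0, l * y, 0)) (hg : g ∈ Aut F V)
    (hY : g ∈ Nm h.Y) : ∃ s ∈ W, ∃ l, ∀ y, s * g * e (y, 0, 0) * (s * g)⁻¹ = e (l * y, 0, 0) := by
  obtain ⟨s, hs, r⟩ := (br _ (mul_mem hg hn)).resolve_left fun r =>
    sd.not_nm sw ((mul_mem_cancel_left hY).1 r)
  obtain ⟨k, hk, r'⟩ := ext hF h sd.YV sd.VS (mul_mem (mul_mem hn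
    (Nm_le_Aut F V ⟨sd.WS hs, sd.S_le (sd.WS hs)⟩)) (mul_mem hg hn)) r
  obtain ⟨l, hl⟩ := hd k hk
  refine ⟨s, hs, l, fun y => ?_⟩
  have := (conj_eq_of_Ct_div r' ((sd.mem _).2 ⟨_, rfl⟩)).symm.trans (hl y)
  rw [← sw (l * y) 0 0] at this
  rw [← sw 0 y 0]
  exact Eq.trans (by group) (mul_left_cancel (a := n) ((mul_right_cancel (b := n⁻¹)
    (Eq.trans (by group) this)) : n * (s * (g * n) * e (0, y, 0) * (s * (g * n))⁻¹) = _))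

theorem side_sub (sd : Sd θ S V W h.Y Z e) (hn : n ∈ Aut F V) (sw : Sw e n) (hn' : n' ∈ Aut F' V)
    (sw' : Sw e n') (br : ∀ g ∈ Aut F V, g ∈ Nm h.Y ∨ ∃ s ∈ W, n * s * g ∈ Nm h.Y)
    (top : ∀ g ∈ Aut F S, M F' S g) : Aut F V ≤ Aut F' V := fun g hg => by
  have k : ∀ g ∈ Aut F V, g ∈ Nm h.Y → g ∈ Aut F' V := fun g hg r => by
    obtain ⟨k, hk, r'⟩ := ext hF h sd.YV sd.VS hg r
    exact (((top k hk).mono sd.VS).congr' r').mem_Aut hg.1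
  refine (br g hg).elim (k g hg) fun ⟨s, hs, r⟩ => ?_
  have h1 : s ∈ S ⊓ Nm V := ⟨sd.WS hs, sd.S_le (sd.WS hs)⟩
  refine (mul_mem_cancel_left (mul_mem (((M.of_Aut hn' sd.VS).congr (Ct_of_conj_eq fun x hx => ?_)).mem_Aut
    hn.1) (Nm_le_Aut F' V h1))).1 (k _ (mul_mem (mul_mem hn (Nm_le_Aut F V h1)) hg) r)
  obtain ⟨⟨x, y, w⟩, rfl⟩ := (sd.mem x).1 hx
  rw [sw, sw']

omit hF h

/-- `g` is diagonal -/
def Dg (m : K → K → K → K → Ω) (g : Ω) (α β : K) : Prop :=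
  ∀ c y w a, g * m c y w a * g⁻¹ = m (β * c) (α * β * y) (α ^ 2 * β * w) (α * a)

/-- the diagonal automorphism belongs to `F` -/
def D (F : FusionSystem S) (m : K → K → K → K → Ω) (α β : K) : Prop :=
  α ≠ 0 ∧ β ≠ 0 ∧ ∃ g ∈ Aut F S, Dg m g α β

omit [CharP K 2] [Finite Ω] in
theorem D.mul (h1 : D F m α β) (h2 : D F m α' β') : D F m (α * α') (β * β') := by
  obtain ⟨a1, a2, g, hg, a3⟩ := h1
  obtain ⟨b1, b2, g', hg', b3⟩ := h2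
  refine ⟨mul_ne_zero a1 b1, mul_ne_zero a2 b2, g * g', mul_mem hg hg', fun c y w a => ?_⟩
  rw [show g * g' * m c y w a * (g * g')⁻¹ = g * (g' * m c y w a * g'⁻¹) * g⁻¹ by group, b3, a3]
  congr 1 <;> ring

/-- standard form -/
structure Std (F : FusionSystem S) {m : K → K → K → K → Ω} (h : Co S m) : Prop where
  sat : SatA 2 F
  z1 : Aut F h.V ≤ Nm h.Z
  z2 : Aut F (h.Q 0) ≤ Nm h.Z
  n1 : ∃ n ∈ Aut F h.V, Sw (e1 m) n
  n2 : ∃ n ∈ Aut F (h.Q 0), Sw (e2 m) n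

namespace Std
variable [Finite K] {h : Co S m} (hS : JobSP.{v}) (hW : JobW.{v}) (s : Std F h)
include hS hW s

theorem w1 : (∀ n ∈ Aut F h.V, n ∉ Nm h.Y → ∀ g ∈ Aut F h.V, g ∈ Nm h.Y ∨
    ∃ s ∈ h.Q 0, n * s * g ∈ Nm h.Y) ∧ ∀ s, s ≠ 0 → ∃ k ∈ Aut F S, ∃ δ, R (e1 m) k δ ∧
      (∀ x y w, (δ (x, y, w)).1 = s⁻¹ * x) ∧ (∀ y w, (δ (0, y, w)).2.1 = s * y) ∧
      ∀ w, δ (0, 0, w) = (0, 0, w) := by
  have := Fact.mk Nat.prime_two
  obtain ⟨n, hn, sw⟩ := s.n1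
  obtain ⟨-, h1, h2⟩ := (sd1 h).weyl (Aut_le_Nm F _) (s.sat.pp_of_normal h.V_le (sd1 h).S_le)
    (fun r => (sd1 h).not_nm sw (r hn)) hS hW s.z1
  refine ⟨h1, fun t ht => ?_⟩
  obtain ⟨d, hd, δ, r, r'⟩ := h2 t ht
  obtain ⟨k, hk, e⟩ := ext s.sat h h.Y_le_V h.V_le hd
    (((sd1 h).py_iff r).1 fun y w => by rw [r'.1, mul_zero])
  exact ⟨k, hk, δ, fun v => (conj_eq_of_Ct_div e (((sd1 h).mem _).2 ⟨v, rfl⟩)).trans (r v), r'⟩

theorem w2 : ∀ n ∈ Aut F (h.Q 0), n ∉ Nm h.Y → ∀ g ∈ Aut F (h.Q 0), g ∈ Nm h.Y ∨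
    ∃ s ∈ h.V, n * s * g ∈ Nm h.Y := by
  have := Fact.mk Nat.prime_two
  obtain ⟨n, hn, sw⟩ := s.n2
  exact ((sd2 h).weyl (Aut_le_Nm F _) (s.sat.pp_of_normal (h.Q_le 0) (sd2 h).S_le)
    (fun r => (sd2 h).not_nm sw (r hn)) hS hW s.z2).2.1

theorem cube (t : K) (ht : t ≠ 0) : t ^ 3 = 1 := by
  obtain ⟨k, hk, δ, r, a1, a2, a3⟩ := (s.w1 hS hW).2 t ht
  obtain ⟨ε, r'⟩ := (sd2 h).exR (aut_nm s.sat h hk).2
  obtain ⟨-, -, h1⟩ := diag (α := fun a => (ε (a, 0, 0)).1) (fun w => ⟨w, a3 w⟩) (inv_ne_zero ht)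
    fun a c => by rw [pair h r r', a1]
  have e1 := a2 1 0
  have e2 := congrArg (·.2.2) (a3 1)
  simp only [h1, mul_one] at e1 e2
  rw [mul_inv_eq_iff_eq_mul₀ ht] at e1 e2
  rw [e1] at e2
  exact mul_right_cancel₀ ht (by linear_combination e2)

theorem b0 (hg : g ∈ Aut F S) : ∃ α β, α ≠ 0 ∧ β ≠ 0 ∧
    (∀ c, ∃ y w, g * m c 0 0 0 * g⁻¹ = m (β * c) y w 0) ∧
    (∀ a, ∃ y w, g * m 0 0 0 a * g⁻¹ = m 0 y w (α * a)) ∧
    ∀ y w, g * m 0 y w 0 * g⁻¹ = m 0 (α * β * y) (α ^ 2 * β * w) 0 := by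
  obtain ⟨n1, n2⟩ := aut_nm s.sat h hg
  obtain ⟨γ, r⟩ := (sd1 h).exR n1
  obtain ⟨δ, r'⟩ := (sd2 h).exR n2
  have hz := ((sd1 h).pz_iff r).2 (s.z1 (mem_Aut_of_le hg le_rfl h.V_le n1))
  have hy := ((sd1 h).py_iff r).2 (h.V_inf_Q 0 ▸ mem_Nm_inf n1 n2)
  obtain ⟨γ', ⟨b, hb, h1⟩, r1⟩ := sq_trick s.sat (B := pre (e1 m) (Sc K)) hg (fun x hx => by
      obtain ⟨ε, r2⟩ := (sd1 h).exR ((sd1 h).S_le hx)
      obtain ⟨t, ht⟩ := (sd1 h).act x hx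
      exact ⟨ε, mem_Sc (l := 1) fun ⟨x, y, w⟩ => by
        rw [(sd1 h).inj ((r2 _).symm.trans (ht x y w)), one_mul], r2⟩)
    (fun x hx => ⟨1, one_mem _, fun v => conj_eq_of_Ct hx (h.mem ..)⟩)
    ⟨_, sq_Sc (s.cube hS hW) hz hy (pair h r r'), r.mul r⟩
  obtain rfl := (sd1 h).un r r1
  obtain ⟨a1, a2, a3⟩ := diag (α := fun a => (δ (a, 0, 0)).1) hz hb fun a c => by
    rw [pair h r r', h1]
  exact ⟨_, b, a1, hb, fun c => ⟨_, _, (r (c, 0, 0)).trans (by rw [e1, h1])⟩,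
    fun a => ⟨_, _, (r' (a, 0, 0)).trans (by rw [e2, a2])⟩,
    fun y w => (r (0, y, w)).trans (by rw [a3]; rfl)⟩

theorem b (hg : g ∈ Aut F S) : ∃ t ∈ S, ∃ α β, α ≠ 0 ∧ β ≠ 0 ∧ Dg m (t * g) α β := by
  obtain ⟨n, hn, sw⟩ := s.n1
  obtain ⟨n', hn', sw'⟩ := s.n2
  have hd : ∀ g ∈ Aut F S, ∃ l, ∀ y, g * m 0 y 0 0 * g⁻¹ = m 0 (l * y) 0 0 := fun g hg => by
    obtain ⟨α, β, -, -, -, -, r⟩ := s.b0 hS hW hg
    exact ⟨α * β, fun y => by rw [r, mul_zero]⟩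
  have k : ∀ g ∈ Aut F S, g ∈ Aut F h.V ∧ g ∈ Aut F (h.Q 0) ∧ g ∈ Nm h.Y := fun g hg =>
    have r := aut_nm s.sat h hg
    ⟨mem_Aut_of_le hg le_rfl h.V_le r.1, mem_Aut_of_le hg le_rfl (h.Q_le 0) r.2,
      h.V_inf_Q 0 ▸ mem_Nm_inf r.1 r.2⟩
  obtain ⟨t, ht, l, r⟩ := adj s.sat h (sd1 h) hn sw ((s.w1 hS hW).1 n hn ((sd1 h).not_nm sw)) hd
    (k g hg).1 (k g hg).2.2
  have h1 := mul_mem (le_Aut F le_rfl (h.Q_le 0 ht)) hg
  obtain ⟨t', ht', l', r'⟩ := adj s.sat h (sd2 h) hn' sw' (s.w2 hS hW n' hn' ((sd2 h).not_nm sw'))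
    hd (k _ h1).2.1 (k _ h1).2.2
  obtain ⟨α, β, a1, a2, a3, a4, a5⟩ := s.b0 hS hW (mul_mem (le_Aut F le_rfl (h.V_le ht')) h1)
  have r2 : ∀ c, t' * (t * g) * m c 0 0 0 * (t' * (t * g))⁻¹ = m (l * c) 0 0 0 := fun c => by
    rw [← conj_eq_of_Ct (h.V_comm ht') ((h.mem_V (c := l * c) (y := 0) (w := 0)).2 rfl)]
    exact Eq.trans (by simp only [e1]; group) (congrArg (fun x => t' * x * t'⁻¹) (r c))
  obtain ⟨_, _, e1⟩ := a3 1
  obtain ⟨_, _, e2⟩ := a4 1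
  obtain rfl : l = β := by simpa using (h.inj ((r2 1).symm.trans e1)).1
  obtain rfl : l' = α := by simpa using (h.inj ((r' 1).symm.trans e2)).2.2.2
  refine ⟨t' * t, mul_mem (h.V_le ht') (h.Q_le 0 ht), l', l, a1, a2, fun c y w a => ?_⟩
  rw [mul_assoc t', show m c y w a = m c 0 0 0 * m 0 y w 0 * m 0 0 0 a by simp [h.mul], ← conj_mul,
    ← conj_mul, r2, a5, show _ * m 0 0 0 a * _ = m 0 0 0 (l' * a) from r' a]
  simp [h.mul]

theorem c (t : K) (ht : t ≠ 0) : D F m t t := by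
  obtain ⟨k, hk, δ, r, a1, -, a3⟩ := (s.w1 hS hW).2 t⁻¹ (inv_ne_zero ht)
  obtain ⟨u, hu, α, β, b1, b2, b3⟩ := s.b hS hW hk
  obtain ⟨l, hl⟩ := (sd1 h).act u hu
  have e : ∀ v, u * k * e1 m v * (u * k)⁻¹ = u * e1 m (δ v) * u⁻¹ := fun v => by rw [← r]; group
  have e1 := (h.inj ((b3 1 0 0 0).symm.trans ((e (1, 0, 0)).trans (hl _ _ _)))).1
  have e2 := (h.inj ((b3 0 0 1 0).symm.trans ((e (0, 0, 1)).trans (a3 1 ▸ hl _ _ _)))).2.2.1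
  obtain rfl : β = t := by simpa [a1] using e1
  obtain rfl : α = β := mul_left_cancel₀ (pow_ne_zero 2 b1) (by
    linear_combination s.cube hS hW α b1 - e2)
  exact ⟨b1, b2, _, mul_mem (le_Aut F le_rfl hu) hk, b3⟩

theorem all (hn : ¬ Aut F S ≤ Ct h.Z) : (∃ t : K, t ≠ 0 ∧ t ≠ 1) ∧
    ∀ α β : K, α ≠ 0 → β ≠ 0 → D F m α β := by
  obtain ⟨g, hg, h1⟩ := SetLike.not_le_iff_exists.1 hn
  obtain ⟨u, hu, α, β, b1, b2, b3⟩ := s.b hS hW hg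
  have h2 := D.mul ⟨b1, b2, _, mul_mem (le_Aut F le_rfl hu) hg, b3⟩ (s.c hS hW _ (inv_ne_zero b1))
  have h3 : β * α⁻¹ ≠ 1 := fun r => h1 ((mul_mem_cancel_left (h.Z_cen hu)).1 (mem_Ct.2 fun x hx => by
    obtain ⟨w, rfl⟩ := h.exZ hx
    rw [b3, (mul_inv_eq_one₀ b1).1 r, ← pow_succ, s.cube hS hW α b1]; simp))
  rw [mul_inv_cancel₀ b1] at h2
  generalize β * α⁻¹ = t at h2 h3
  refine ⟨⟨t, h2.2.1, h3⟩, fun α β a1 a2 => ?_⟩
  have k : ∀ d : K, d ≠ 0 → D F m 1 d := fun d hd => by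
    have : (d - 1) * (d - t) * (d - t * t) * (t - 1) = 0 := by
      linear_combination (t - 1) * s.cube hS hW d hd + (d * t - d ^ 2 - t + 1) * s.cube hS hW t h2.2.1
    simp only [mul_eq_zero, sub_eq_zero, h3, or_false] at this
    rcases this with (rfl | rfl) | rfl
    exacts [s.c hS hW 1 hd, h2, by simpa using h2.mul h2]
  simpa [a1] using (s.c hS hW α a1).mul (k (α⁻¹ * β) (mul_ne_zero (inv_ne_zero a1) a2))

theorem sub (s' : Std F' h) (ty : Aut F' S ≤ Ct h.Z → Aut F S ≤ Ct h.Z) :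
    ∀ P g, M F P g → M F' P g := by
  have := Fact.mk Nat.prime_two
  have top : ∀ g ∈ Aut F S, M F' S g := fun g hg => by
    obtain ⟨u, hu, α, β, b1, b2, b3⟩ := s.b hS hW hg
    obtain ⟨-, -, k, hk, r⟩ : D F' m α β := by
      by_cases hc : Aut F' S ≤ Ct h.Z
      · have := (h.inj ((b3 0 0 1 0).symm.trans (conj_eq_of_Ct (mul_mem (h.Z_cen hu) (ty hc hg))
          (by simp [h.mem_Z])))).2.2.1
        obtain rfl : α = β := mul_left_cancel₀ (pow_ne_zero 2 b1) (by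
          linear_combination s.cube hS hW α b1 - this)
        exact s'.c hS hW α b1
      · exact (s'.all hS hW hc).2 α β b1 b2
    simpa using ((M.of_Aut hk le_rfl).congr (Ct_of_conj_eq (h := u * g) fun x hx => by
      obtain ⟨c, y, w, a, rfl⟩ := h.surj x hx
      rw [b3, r])).mem_mul (inv_mem hu)
  refine s.sat.alperin' (fun P g => M F' P g) (fun _ _ _ _ _ h1 h2 h3 => (h1.mono h2).congr h3)
    (fun _ _ _ _ _ h1 _ h2 h3 => h1.mul h2 h3) ?_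
  rintro P (rfl | hP) - g hg
  · exact top g hg
  obtain ⟨n, hn, sw⟩ := s.n1
  obtain ⟨n', hn', sw'⟩ := s'.n1
  obtain ⟨k, hk, sv⟩ := s.n2
  obtain ⟨k', hk', sv'⟩ := s'.n2
  rcases (ess s.sat h hP).2 with rfl | rfl
  · exact M.of_Aut (side_sub s.sat h (sd1 h) hn sw hn' sw'
      ((s.w1 hS hW).1 n hn ((sd1 h).not_nm sw)) top hg) h.V_le
  · exact M.of_Aut (side_sub s.sat h (sd2 h) hk sv hk' sv'
      (s.w2 hS hW k hk ((sd2 h).not_nm sv)) top hg) (h.Q_le 0)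

end Std

end H1.F2
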