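import Cfsg.Agent.H1.F2B

/-! Tower SP4, job F2: comparison with the models. -/

set_option autoImplicit false

namespace H1.F2
open Cfsg Cfsg.FusionSystem H92 H93 Subgroup H87.S4 H92.Es

universe u v

variable {K : Type v} [Field K] [CharP K 2] [Finite K] (hS : JobSP.{v}) (hW : JobW.{v})
include hS hW

theorem mod_std {ty : Prop} (hM : Mod K ty) : ∃ (G : Type) (_ : Group G) (_ : Finite G)
    (T : Sylow 2 G) (m : K → K → K → K → G) (h : Co (T : Subgroup G) m), (∀ g, g ∈ Nm h.Z) ∧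
    (ty ↔ ∀ g, g ∈ Ct h.Z) ∧ (∃ n, Sw (e1 m) n) ∧ ∃ n, Sw (e2 m) n := by
  have := Fact.mk Nat.prime_two
  obtain ⟨G, _, _, T, m, h, a1, a2, ⟨g, b1, y, w, c', y', w', b2, b3⟩,
    k, d1, z, x, z', x', a', d2, d3⟩ := hM
  have hZ : ∀ g, g ∈ Nm h.Z := fun g => mem_Nm_of_conj fun x hx => by
    obtain ⟨w, rfl⟩ := h.exZ hx
    obtain ⟨w', e⟩ := a1 g w
    simp [e, h.mem_Z]
  have pp : ∀ {V : Subgroup G}, (T : Subgroup G) ≤ Nm V → PP 2 (T ⊔ Ct V) (Nm V) := fun r =>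
    ((PP.of_sylIn (sylIn_top T)).mono_left le_sup_left le_top).mono_right
      (sup_le r (Ct_le_Nm _)) le_top
  obtain ⟨m', h', -, -, e, ⟨n, -, r⟩, n', -, r'⟩ := exists_std hS hW h le_rfl (pp (sd1 h).S_le)
    (fun r => b2 (h.mem_Y.1 (b3 ▸ conj_mem_of_Nm (r (mem_Nm_of_conj fun x hx => by
      obtain ⟨c, y, w, rfl⟩ := h.exV hx
      obtain ⟨_, _, _, e⟩ := b1 c y w
      simp [e, h.mem_V])) (h.mem_Y.2 ⟨rfl, rfl⟩))).1) (fun g _ => hZ g) le_rfl (pp (sd2 h).S_le)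
    (fun r => d2 (h.mem_Y.1 (d3 ▸ conj_mem_of_Nm (r (mem_Nm_of_conj fun x hx => by
      obtain ⟨y, w, a, rfl⟩ := h.exQ hx
      obtain ⟨_, _, _, e⟩ := d1 y w a
      simp [e, h.mem_Q])) (h.mem_Y.2 ⟨rfl, rfl⟩))).2) fun g _ => hZ g
  refine ⟨G, _, ‹_›, T, m', h', e ▸ hZ, e ▸ a2.trans (forall_congr' fun g => ⟨fun r => mem_Ct.2
    fun x hx => ?_, fun r w => conj_eq_of_Ct r (by simp [h.mem_Z])⟩), ⟨n, r⟩, n', r'⟩
  obtain ⟨w, rfl⟩ := h.exZ hx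
  exact r w

variable {Ω : Type u} [Group Ω] [Finite Ω] {S : Subgroup Ω} {F : FusionSystem S}
  {m : K → K → K → K → Ω} {h : Co S m}

theorem Std.real (s : Std F h) (hM : Mod K (Aut F S ≤ Ct h.Z)) : F.IsRealizable 2 := by
  have := Fact.mk Nat.prime_two
  obtain ⟨G, _, _, T, m', h', a1, a2, ⟨n1, a3⟩, n2, a4⟩ := mod_std hS hW hM
  obtain ⟨ι, i1, i2, i3⟩ := h.exists_hom h'
  obtain ⟨E, e1', e2'⟩ := H9.exists_pull i1 T i2.symm
  have ex : ∀ c y w a, ext1 ι (m c y w a) = m' c y w a := fun c y w a =>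
    (ext1_of_mem ι _).trans (i3 ..)
  have inj : ∀ x ∈ S, ∀ y ∈ S, ext1 ι x = ext1 ι y → x = y := fun x hx y hy r => by
    rw [ext1_of_mem ι hx, ext1_of_mem ι hy] at r
    exact congrArg Subtype.val (i1 r)
  have lift : ∀ P ≤ S, ∀ γ : G, (∀ x ∈ P, γ * ext1 ι x * γ⁻¹ ∈ (T : Subgroup G)) →
      ∃ g, M E P g ∧ ∀ x ∈ P, ext1 ι (g * x * g⁻¹) = γ * ext1 ι x * γ⁻¹ := fun P hP γ r => by
    obtain ⟨f, hf, r1⟩ := H9.exists_mor_of_realized e2' hP (g := γ) (i2 ▸ r)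
    obtain ⟨g, hg, r2⟩ := s.sat.amb.mor hf
    exact ⟨g, hg, fun x hx => r2 x hx ▸ r1 x hx⟩
  have down : ∀ P g, M E P g → h.Z ≤ P → ∃ γ, ∀ w, ∀ w', γ * m' 0 0 w 0 * γ⁻¹ = m' 0 0 w' 0 →
      g * m 0 0 w 0 * g⁻¹ = m 0 0 w' 0 := fun P g hg hP => by
    obtain ⟨γ, r⟩ := ((H94.realized_mor_iff e2').1 hg).2.2
    have hw : ∀ w, m 0 0 w 0 ∈ P := fun w => hP (by simp [h.mem_Z])
    exact ⟨γ, fun w w' r' => inj _ (hg.mem (hw w)) _ (h.mem ..) (by rw [r _ (hw w), ex, ex, r'])⟩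
  have z : ∀ P ≤ S, h.Z ≤ P → Aut E P ≤ Nm h.Z := fun P h1 h2 g hg => mem_Nm_of_conj fun x hx => by
    obtain ⟨w, rfl⟩ := h.exZ hx
    obtain ⟨γ, r⟩ := down P g (M.of_Aut hg h1) h2
    obtain ⟨w', e⟩ := h'.exZ (conj_mem_of_Nm (a1 γ) (h'.mem_Z (w := w).2 ⟨rfl, rfl, rfl⟩))
    simp [r w w' e, h.mem_Z]
  have sw : ∀ {θ : K → K → K} {V W e}, Sd θ S V W h.Y h.Z e → ∀ n, Sw (fun v => ext1 ι (e v)) n →
      ∃ g ∈ Aut E V, Sw e g := fun {θ V W e} sd n r => by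
    have k : ∀ v, e v ∈ V := fun v => (sd.mem _).2 ⟨v, rfl⟩
    obtain ⟨g, hg, r'⟩ := lift V sd.VS n fun x hx => by
      obtain ⟨⟨x, y, w⟩, rfl⟩ := (sd.mem x).1 hx
      rw [r x y w, ← i2]
      exact ⟨_, (ext1_of_mem ι (sd.VS (k _))).symm⟩
    have r2 : Sw e g := fun x y w => inj _ (hg.mem (k _)) _ (sd.VS (k _)) ((r' _ (k _)).trans (r x y w))
    exact ⟨g, hg.mem_Aut (sd.nm_of_sw r2), r2⟩
  have s' : Std E h := ⟨⟨s.sat.amb, s.sat.pg, e1'⟩, z _ h.V_le (h.Z_le_Y.trans h.Y_le_V),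
    z _ (h.Q_le 0) (h.Z_le_Y.trans (h.Y_le_Q 0)),
    sw (sd1 h) n1 fun x y w => by simpa only [e1, ex] using a3 x y w,
    sw (sd2 h) n2 fun x y w => by simpa only [e2, ex] using a4 x y w⟩
  have t1 : Aut F S ≤ Ct h.Z → Aut E S ≤ Ct h.Z := fun r g hg => mem_Ct.2 fun x hx => by
    obtain ⟨w, rfl⟩ := h.exZ hx
    obtain ⟨γ, r'⟩ := down S g (M.of_Aut hg le_rfl) h.Z_le
    exact r' w w (conj_eq_of_Ct (a2.1 r γ) (by simp [h'.mem_Z]))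
  have t2 : Aut E S ≤ Ct h.Z → Aut F S ≤ Ct h.Z := fun r => a2.2 fun γ => by
    obtain ⟨n, hn, r1⟩ := ((sylIn_top T).mono h'.Z_cen le_top).frattini (B := ⊤)
      (fun b _ n hn => conj_mem_of_Nm (mem_Nm_Ct (a1 b)) hn) (mem_top γ)
    obtain ⟨g, hg, r2⟩ := lift S le_rfl (n * γ) fun x hx => by
      obtain ⟨c, y, w, a, rfl⟩ := h.surj x hx
      exact r1 _ (ex c y w a ▸ h'.mem ..)
    refine (mul_mem_cancel_left hn).1 (mem_Ct.2 fun x hx => ?_)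
    obtain ⟨w, rfl⟩ := h'.exZ hx
    rw [← ex, ← r2 _ (h.mem ..), conj_eq_of_Ct (r (hg.mem_Aut' hg.cj_le)) (by simp [h.mem_Z])]
  obtain rfl : F = E := s.sat.amb.fs_ext fun P g => ⟨s.sub hS hW s' t2 P g, s'.sub hS hW s t1 P g⟩
  exact H9.isRealizable_of e2' T i2.symm

theorem both (h2 : JobM2.{v}) (h4 : JobM4.{v}) (hF : SatA 2 F) (h : Co S m)
    (a1 : ¬ Aut F h.V ≤ Nm h.Y) (a2 : ¬ Aut F (h.Q 0) ≤ Nm h.Y) (b1 : Aut F h.V ≤ Nm h.Z)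
    (b2 : Aut F (h.Q 0) ≤ Nm h.Z) : F.IsRealizable 2 := by
  have := Fact.mk Nat.prime_two
  obtain ⟨m', h', e1, e2, e3, r1, r2⟩ := exists_std hS hW h (Aut_le_Nm F _)
    (hF.pp_of_normal h.V_le (sd1 h).S_le) a1 b1 (Aut_le_Nm F _)
    (hF.pp_of_normal (h.Q_le 0) (sd2 h).S_le) a2 b2
  have s : Std F h' := ⟨hF, e1 ▸ e3 ▸ b1, e2 ▸ e3 ▸ b2, e1 ▸ r1, e2 ▸ r2⟩
  have hc : Nat.card Kˣ = 1 ∨ Nat.card Kˣ = 3 := (Nat.dvd_prime Nat.prime_three).1 (by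
    rw [← IsCyclic.exponent_eq_card]
    exact Monoid.exponent_dvd_of_forall_pow_eq_one fun t => Units.ext (s.cube hS hW t t.ne_zero))
  have hp := Nat.card_pos (α := K)
  refine s.real hS hW ?_
  by_cases hz : Aut F S ≤ Ct h'.Z
  · rw [eq_true hz]
    rw [Nat.card_units] at hc
    exact hc.elim (fun r => h2 K (by omega)) fun r => (h4 K (by omega)).1
  · rw [eq_false hz]
    obtain ⟨t, t0, t1⟩ := (s.all hS hW hz).1
    have := hc.resolve_left fun r => t1 (congrArg Units.val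
      ((Nat.card_eq_one_iff_unique.1 r).1.elim (Units.mk0 t t0) 1))
    rw [Nat.card_units] at this
    exact (h4 K (by omega)).2

omit hS hW [Finite K] [CharP K 2]

theorem jobF2 : JobF2.{u, v} := by
  intro hS hP hW h2 h4 K _ _ _ Ω _ _ S F m hF h hc
  have := Fact.mk Nat.prime_two
  have one : ∀ {V W}, V ≤ S → S ⊓ Ct V ≤ V → Aut F S ≤ Nm V →
      (∀ P, F.IsEssential 2 P → P = V ∨ P = W) → ¬ F.IsEssential 2 W → F.IsRealizable 2 :=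
    fun h1 h2 h3 h4 h5 => H9.isRealizable_of_isNormal hF.pg hF.sat (normal_of_ess hF (by
      rintro P (rfl | hP)
      · exact ⟨h1, h3⟩
      · obtain rfl := (h4 P hP).resolve_right fun r => h5 (r ▸ hP)
        exact ⟨le_rfl, Aut_le_Nm F _⟩)) h2
  by_cases e2 : F.IsEssential 2 (h.Q 0)
  swap
  · exact one h.V_le ((ct_le h inf_le_left (x := m 1 0 0 0) (le_Ct_comm.1 inf_le_right
      (by simp [h.mem_V])) (by simp [h.mem_Y])).1 (by simp [h.mem_V]))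
      (fun _ hg => (aut_nm hF h hg).1) (fun P hP => (ess hF h hP).2) e2
  by_cases e1 : F.IsEssential 2 h.V
  swap
  · exact one (h.Q_le 0) ((ct_le h inf_le_left (x := m 0 0 0 1) (le_Ct_comm.1 inf_le_right
      (by simp [h.mem_Q])) (by simp [h.mem_Y])).2 (by simp [h.mem_Q]))
      (fun _ hg => (aut_nm hF h hg).2) (fun P hP => (ess hF h hP).2.symm) e1
  have hn := isNormal_core F
  have l1 := le_of_normal_of_essential hF.pg hF.sat hn e1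
  have l2 := le_of_normal_of_essential hF.pg hF.sat hn e2
  have lY := (le_inf l1 l2).trans (h.V_inf_Q 0).le
  obtain ⟨⟨x, hx⟩, x1⟩ := ne_bot_iff_exists_ne_one.1 hc
  obtain ⟨y, w, rfl⟩ := h.exY (lY hx)
  have k : ¬ (y = 0 ∧ w = 0) := fun r => x1 (Subtype.ext (h.eq_one.2 ⟨rfl, r.1, r.2, rfl⟩))
  have k1 : ∀ g ∈ Aut F h.V, g * H1.F2.e1 m (0, y, w) * g⁻¹ ∈ h.Y := fun g hg =>
    lY (conj_mem_of_Nm (Aut_le_Nm_of_normal hF hn h.V_le l1 hg) hx)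
  have k2 : ∀ g ∈ Aut F (h.Q 0), g * H1.F2.e2 m (0, y, w) * g⁻¹ ∈ h.Y := fun g hg =>
    lY (conj_mem_of_Nm (Aut_le_Nm_of_normal hF hn (h.Q_le 0) l2 hg) hx)
  rcases (sd1 h).line (Aut_le_Nm F _) (hF.pp_of_normal h.V_le (sd1 h).S_le) (ess hF h e1).1 hP
    with r | r <;> rcases (sd2 h).line (Aut_le_Nm F _) (hF.pp_of_normal (h.Q_le 0) (sd2 h).S_le)
    (ess hF h e2).1 hP with r' | r'
  · exact both hS hW h2 h4 hF h (ess hF h e1).1 (ess hF h e2).1 r.1 r'.1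
  · exact (k ⟨r.2 y w k1, r'.2 y w k2⟩).elim
  · exact (k ⟨r'.2 y w k2, r.2 y w k1⟩).elim
  let ρ := (frobeniusEquiv K 2).symm
  have h' := symm h ρ fun x => (frobeniusEquiv K 2).apply_symm_apply x
  have q : ∀ {P Q : Subgroup Ω}, P ≤ S → Q ≤ S → (∀ c y w a,
      m a (ρ w + ρ c * a) (y + c * a) (ρ c) ∈ P ↔ m a (ρ w + ρ c * a) (y + c * a) (ρ c) ∈ Q) →
      P = Q := fun h1 h2 h3 => Subgroup.ext fun g => ⟨fun hg => by
        obtain ⟨c, y, w, a, rfl⟩ := h'.surj g (h1 hg)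
        exact (h3 ..).1 hg, fun hg => by
        obtain ⟨c, y, w, a, rfl⟩ := h'.surj g (h2 hg)
        exact (h3 ..).2 hg⟩
  have q1 : h'.V = h.Q 0 := q h'.V_le (h.Q_le 0) fun c y w a =>
    h'.mem_V.trans (by simp [h.mem_Q])
  have q2 : h'.Q 0 = h.V := q (h'.Q_le 0) h.V_le fun c y w a =>
    h'.mem_Q.trans (by simp [h.mem_V])
  have q3 : ∀ g, (∀ y, ∃ y', g * m 0 y 0 0 * g⁻¹ = m 0 y' 0 0) → g ∈ Nm h'.Z := fun g hg =>
    mem_Nm_of_conj fun x hx => by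
      obtain ⟨w, rfl⟩ := h'.exZ hx
      obtain ⟨y', e⟩ := hg (ρ w)
      simpa [e] using (h'.mem_Z (w := ρ.symm y')).2 ⟨rfl, rfl, rfl⟩
  exact both hS hW h2 h4 hF h' (ess hF h' (q1 ▸ e2)).1 (ess hF h' (q2 ▸ e1)).1
    (q1 ▸ fun g hg => q3 g (r'.1 g hg)) (q2 ▸ fun g hg => q3 g (r.1 g hg))

end H1.F2
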