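import Cfsg.Agent.H13.ZJ3Inv
import Cfsg.Agent.H5.ThompsonFpf
import Cfsg.Agent.H5.FrobCompl
import Cfsg.Agent.H5.Part2
import Cfsg.Agent.H5.CK
import Cfsg.Agent.H2.PrimeCore
import Cfsg.Agent.H4.HallBasic
import Cfsg.Agent.H42.OddOrder
import Cfsg.Agent.H88.ElemCent

/-! Groups with a disconnected prime graph (Gruenberg and Kegel). -/

set_option autoImplicit false

open Cfsg Subgroup

namespace H1.GK

universe u

/-- `ρ` is a union of components of the prime graph. -/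
def Cl (ρ : Set ℕ) (G : Type*) [Group G] : Prop :=
  ∀ g : G, ∀ a b : ℕ, a.Prime → b.Prime → a ∣ orderOf g → b ∣ orderOf g → a ∈ ρ → b ∈ ρ

variable {ρ : Set ℕ} {G : Type u} [Group G]

theorem Cl.sub (h : Cl ρ G) (K : Subgroup G) : Cl ρ K := fun g a b ha hb h1 h2 =>
  h g a b ha hb (by simpa using h1) (by simpa using h2)

theorem Cl.quot (h : Cl ρ G) (N : Subgroup G) [N.Normal] : Cl ρ (G ⧸ N) := fun g a b ha hb h1 h2 => by
  obtain ⟨x, rfl⟩ := QuotientGroup.mk'_surjective N g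
  exact h x a b ha hb (h1.trans (orderOf_map_dvd _ x)) (h2.trans (orderOf_map_dvd _ x))

variable [Finite G]

theorem Cl.comm (h : Cl ρ G) {g k : G} (c : Commute g k) {a b : ℕ} (ha : a.Prime) (hb : b.Prime)
    (h1 : a ∣ orderOf g) (h2 : b ∣ orderOf k) (hρ : a ∈ ρ) : b ∈ ρ := by
  by_cases e : a = b
  · exact e ▸ hρ
  have e1 := orderOf_pow_orderOf_div (orderOf_pos g).ne' h1
  have e2 := orderOf_pow_orderOf_div (orderOf_pos k).ne' h2
  have e3 := (c.pow_pow (orderOf g / a) (orderOf k / b)).orderOf_mul_eq_mul_orderOf_of_coprime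
    (by rw [e1, e2]; exact (Nat.coprime_primes ha hb).2 e)
  rw [e1, e2] at e3
  exact h _ a b ha hb (e3 ▸ dvd_mul_right a b) (e3 ▸ dvd_mul_left b a) hρ

omit [Finite G] in
theorem ex_prime {g : G} (h : g ≠ 1) : ∃ a : ℕ, a.Prime ∧ a ∣ orderOf g :=
  Nat.exists_prime_and_dvd (mt orderOf_eq_one_iff.1 h)

/-- an involution inverts every subgroup it normalizes that centralizes a `ρ`-element -/
theorem Cl.inv (h : Cl ρ G) (h2 : 2 ∉ ρ) {t u : G} (ht : orderOf t = 2) {a : ℕ} (ha : a.Prime)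
    (hu : a ∣ orderOf u) (hρ : a ∈ ρ) {H : Subgroup G} (hn : ∀ x ∈ H, t * x * t⁻¹ ∈ H)
    (hc : ∀ x ∈ H, Commute u x) : ∀ x ∈ H, t * x * t⁻¹ = x⁻¹ := by
  refine H88.inverts_of_fpf (by rw [← pow_two, ← ht, pow_orderOf_eq_one]) hn fun x hx e => ?_
  by_contra h1
  obtain ⟨b, hb, hbx⟩ := ex_prime h1
  exact h2 (h.comm (g := x) (k := t) (mul_inv_eq_iff_eq_mul.1 e).symm hb Nat.prime_two hbx (ht ▸ dvd_rfl)
    (h.comm (hc x hx) ha hb hu hbx hρ))

/-- Thompson: a normal `ρ'`-subgroup is nilpotent -/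
theorem Cl.nil (h : Cl ρ G) {x : G} {a : ℕ} (ha : a.Prime) (hx : a ∣ orderOf x) (hρ : a ∈ ρ)
    (D : Subgroup G) [D.Normal] (hD : ∀ d ∈ D, ∀ b : ℕ, b.Prime → b ∣ orderOf d → b ∉ ρ) :
    Group.IsNilpotent D := by
  have e1 := orderOf_pow_orderOf_div (orderOf_pos x).ne' hx
  refine H5.isNilpotent_of_fpf_elem (x := x ^ (orderOf x / a)) (e1.symm ▸ ha)
    (by rw [normalizer_eq_top]; trivial) (eq_bot_iff.2 fun d hd => ?_)
  by_contra h1
  obtain ⟨b, hb, hbd⟩ := ex_prime (mt mem_bot.2 h1)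
  exact hD d hd.1 b hb hbd (h.comm (mem_centralizer_singleton_iff.1 hd.2).symm ha hb (e1.symm ▸ dvd_rfl) hbd hρ)

omit [Finite G] in
theorem prime_eq {q b : ℕ} [hq : Fact q.Prime] {N : Subgroup G} (hN : IsPGroup q N) {x : G} (hx : x ∈ N)
    (hb : b.Prime) (h : b ∣ orderOf x) : b = q := by
  obtain ⟨k, hk⟩ := hN ⟨x, hx⟩
  exact (Nat.prime_dvd_prime_iff_eq hb hq.out).1 (hb.dvd_of_dvd_pow
    (h.trans (orderOf_dvd_of_pow_eq_one (congrArg Subtype.val hk))))

/-- no involution, if there is a normal `ρ`-subgroup and a proper quotient of `ρ`-elements -/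
theorem no_inv (h : Cl ρ G) (h2 : 2 ∉ ρ) {G0 N : Subgroup G} [hG : G0.Normal] [hN : N.Normal] (h0 : G0 ≠ ⊤)
    (ho : ∀ x ∉ G0, ∀ a : ℕ, a.Prime → a ∣ orderOf x → a ∈ ρ) {n : G} (hn : n ∈ N) {q : ℕ}
    (hq : q.Prime) (hqn : q ∣ orderOf n) (hρ : q ∈ ρ) (hc : ∀ x ∈ N, Commute n x) {t : G}
    (ht : orderOf t = 2) : False := by
  have htt : t * t = 1 := by rw [← pow_two, ← ht, pow_orderOf_eq_one]
  have hC : ∀ x, Commute x t → x ∈ G0 := fun x c => by
    by_contra hx
    obtain ⟨b, hb, hbx⟩ := ex_prime (g := x) fun e => hx (e ▸ one_mem _)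
    exact h2 (h.comm c hb Nat.prime_two hbx (ht ▸ dvd_rfl) (ho x hx b hb hbx))
  refine h0 (eq_top_iff.2 fun g _ => ?_)
  set s := g * t * g⁻¹ with hs
  have hs2 : orderOf s = 2 := by rw [hs, ← MulAut.conj_apply, MulEquiv.orderOf_eq, ht]
  have hss : s * s = 1 := by rw [← pow_two, ← hs2, pow_orderOf_eq_one]
  have i1 := h.inv h2 ht hq hqn hρ (fun x hx => hN.conj_mem x hx t) hc _ (inv_mem hn)
  have i2 := h.inv h2 hs2 hq hqn hρ (fun x hx => hN.conj_mem x hx s) hc n hn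
  have c1 : Commute n (t * s) := by
    have : t * s * n * (t * s)⁻¹ = n := by
      rw [show t * s * n * (t * s)⁻¹ = t * (s * n * s⁻¹) * t⁻¹ by group, i2, i1, inv_inv]
    exact (mul_inv_eq_iff_eq_mul.1 this).symm
  obtain ⟨m, hm⟩ : Odd (orderOf (t * s)) := Nat.not_even_iff_odd.1 fun e =>
    h2 (h.comm c1 hq Nat.prime_two hqn e.two_dvd hρ)
  have hts : t * s ∈ G0 := mul_mem (hC t rfl) (hG.conj_mem t (hC t rfl) g)
  have ti : t⁻¹ = t := inv_eq_of_mul_eq_one_right htt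
  have si : s⁻¹ = s := inv_eq_of_mul_eq_one_right hss
  have k1 : t * (t * s)⁻¹ * t⁻¹ = t * s := by rw [mul_inv_rev, si, ti, mul_assoc, mul_assoc, htt, mul_one]
  have k2 : t * ((t * s) ^ m)⁻¹ * t⁻¹ = (t * s) ^ m := by rw [← inv_pow, ← conj_pow, k1]
  have k3 : (t * s) ^ m * (t * s) ^ m = (t * s)⁻¹ := by
    rw [eq_inv_iff_mul_eq_one, ← pow_add, ← pow_succ, ← two_mul, ← hm, pow_orderOf_eq_one]
  have k4 : (t * s) ^ m * t * ((t * s) ^ m)⁻¹ = s := by
    rw [show (t * s) ^ m * t * ((t * s) ^ m)⁻¹ = (t * s) ^ m * (t * ((t * s) ^ m)⁻¹ * t⁻¹) * t by group, k2,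
      k3, mul_inv_rev, si, ti, mul_assoc, htt, mul_one]
  have k5 : Commute (g⁻¹ * (t * s) ^ m) t := by
    have : g⁻¹ * (t * s) ^ m * t * (g⁻¹ * (t * s) ^ m)⁻¹ = t := by
      rw [show g⁻¹ * (t * s) ^ m * t * (g⁻¹ * (t * s) ^ m)⁻¹ =
        g⁻¹ * ((t * s) ^ m * t * ((t * s) ^ m)⁻¹) * g by group, k4, hs]
      group
    exact mul_inv_eq_iff_eq_mul.1 this
  simpa using inv_mem (mul_mem (hC _ k5) (inv_mem (pow_mem hts m)))

omit [Finite G] in
theorem two_closed (h2 : 2 ∉ ρ) (n : ℕ) : ∀ (G : Type u) [Group G] [Finite G], Nat.card G = n → Cl ρ G →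
    ∀ G0 : Subgroup G, G0.Normal → G0 ≠ ⊤ → (∀ x ∉ G0, ∀ a : ℕ, a.Prime → a ∣ orderOf x → a ∈ ρ) →
    ∀ P : Sylow 2 G, (P : Subgroup G).Normal := by
  induction n using Nat.strong_induction_on with
  | _ n ih =>
  intro G _ _ hn h G0 hG h0 ho
  have := Fact.mk Nat.prime_two
  by_cases hN : ∃ (q : ℕ) (_ : Fact q.Prime) (N : Subgroup G), q ≠ 2 ∧ N.Normal ∧ N ≠ ⊥ ∧ IsPGroup q N ∧
      IsMulCommutative N
  · obtain ⟨q, hq, N, hq2, hNn, hN1, hNq, hNc⟩ := hN
    intro P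
    obtain ⟨⟨x, hx⟩, hx1⟩ := ne_bot_iff_exists_ne_one.1 hN1
    obtain ⟨b, hb, hbx⟩ := ex_prime (g := x) fun e => hx1 (Subtype.ext e)
    obtain rfl := prime_eq hNq hx hb hbx
    by_cases hρ : b ∈ ρ
    · by_cases hP : (P : Subgroup G) = ⊥
      · rw [hP]; infer_instance
      obtain ⟨t, ht⟩ := exists_prime_orderOf_dvd_card' 2
        (P.2.card_eq_or_dvd.resolve_left fun e => hP (card_eq_one.1 e))
      exact (no_inv h h2 h0 ho hx hb hbx hρ (fun y hy => congrArg Subtype.val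
        (hNc.is_comm.comm ⟨x, hx⟩ ⟨y, hy⟩)) (t := t) (by simpa using ht)).elim
    have hle : N ≤ G0 := fun y hy => by
      by_contra hy0
      obtain ⟨c, hc, hcy⟩ := ex_prime (g := y) fun e => hy0 (e ▸ one_mem _)
      exact hρ (prime_eq hNq hy hc hcy ▸ ho y hy0 c hc hcy)
    have hs := QuotientGroup.mk'_surjective N
    have hb' := ih _ (hn ▸ H4.card_quotient_lt N hN1) (G ⧸ N) rfl (h.quot N) (G0.map (QuotientGroup.mk' N))
      (hG.map _ hs) (fun e => h0 (by
        have := congrArg (comap (QuotientGroup.mk' N)) e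
        rwa [comap_map_eq, QuotientGroup.ker_mk', sup_eq_left.2 hle, comap_top] at this))
      (fun y hy a ha hay => by
        obtain ⟨z, rfl⟩ := hs y
        exact ho z (fun e => hy ⟨z, e, rfl⟩) a ha (hay.trans (orderOf_map_dvd _ z))) (P.mapSurjective hs)
    set D := (P.mapSurjective hs : Subgroup (G ⧸ N)).comap (QuotientGroup.mk' N) with hD
    obtain ⟨y, hy⟩ : ∃ y, y ∉ G0 := by
      by_contra! e
      exact h0 (eq_top_iff.2 fun y _ => e y)
    obtain ⟨a, ha, hay⟩ := ex_prime (g := y) fun e => hy (e ▸ one_mem _)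
    have hnil := h.nil ha hay (ho y hy a ha hay) D fun d hd c hc hcd hcρ => by
      obtain ⟨k, hk⟩ := (P.mapSurjective hs).2 ⟨_, hd⟩
      have h1 : d ^ 2 ^ k ∈ N := (QuotientGroup.eq_one_iff _).1 (congrArg Subtype.val hk)
      obtain ⟨j, hj⟩ := hNq ⟨_, h1⟩
      have h3 : orderOf d ∣ 2 ^ k * b ^ j := orderOf_dvd_of_pow_eq_one (by
        rw [pow_mul]; exact congrArg Subtype.val hj)
      rcases (Nat.Prime.dvd_mul hc).1 (hcd.trans h3) with e | e
      · exact h2 ((Nat.prime_dvd_prime_iff_eq hc Nat.prime_two).1 (hc.dvd_of_dvd_pow e) ▸ hcρ)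
      · exact hρ ((Nat.prime_dvd_prime_iff_eq hc hb).1 (hc.dvd_of_dvd_pow e) ▸ hcρ)
    have hPD : (P : Subgroup G) ≤ D := le_comap_map _ _
    have h4 : ((P : Subgroup G).subgroupOf D).Normal :=
      Sylow.normal_of_normalizerCondition Group.normalizerCondition_of_isNilpotent (P.subtype hPD)
    rw [← normalizer_eq_top_iff, ← Sylow.normalizer_sup_eq_top' P hPD]
    exact (sup_eq_left.2 ((normal_subgroupOf_iff_le_normalizer hPD).1 h4)).symm
  refine H13.two_closed_of_zj fun q hq hq2 T x hx h1 g hg e => h1 ?_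
  rw [H13.centerThompsonAOf_eq] at hg
  set K := normalizer (H13.zj 0 (T : Subgroup G) : Set G) with hK
  have hTK := H13.normalizer_le_normalizer_zj 0 (T : Subgroup G)
  have hK1 : K ≠ ⊤ := fun e => hN ⟨q, hq, _, hq2, normalizer_eq_top_iff.1 e,
    H13.zj_ne_bot (dvd_zero q) T.2 fun e => h1 (mem_bot.1 (e ▸ hx)), T.2.to_le (H13.zj_le 0 _),
    (H13.isEA_zj 0 _).1⟩
  have hb := ih _ (hn ▸ lt_of_le_of_ne (card_le_card_group K) fun e => hK1 (eq_top_of_card_eq K e)) K rfl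
    (h.sub K) (G0.subgroupOf K) inferInstance (fun e => h0 (by
      have h3 : K ≤ G0 := subgroupOf_eq_top.1 e
      rw [← Sylow.normalizer_sup_eq_top' T (le_normalizer.trans (hTK.trans h3))]
      exact (sup_eq_right.2 (hTK.trans h3)).symm))
    fun y hy a ha hay => ho y hy a ha (by simpa using hay)
  obtain ⟨k, hk⟩ := T.2 ⟨x, hx⟩
  exact congrArg Subtype.val (H13.eq_one_of_inv_of_two_closed hb (x := ⟨x, hTK (le_normalizer hx)⟩)
    (g := ⟨g, hg⟩) (by
      rw [Subgroup.orderOf_mk]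
      exact ((hq.out.odd_of_ne_two hq2).pow).of_dvd_nat (orderOf_dvd_of_pow_eq_one (congrArg Subtype.val hk)))
    (Subtype.ext e))

theorem solv_of_two_closed (h : ∀ P : Sylow 2 G, (P : Subgroup G).Normal) : Group.IsSolvable G := by
  have := Fact.mk Nat.prime_two
  let P : Sylow 2 G := default
  have := h P
  have := P.2.isNilpotent
  have : Group.IsSolvable (G ⧸ (P : Subgroup G)) :=
    H42.odd_order (Nat.not_even_iff_odd.1 fun e => P.not_dvd_index e.two_dvd)
  exact Group.isSolvable_of_ker_le_range (P : Subgroup G).subtype (QuotientGroup.mk' P) (by simp)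

theorem ex_inv (hs : ¬ Group.IsSolvable G) : ∃ t : G, orderOf t = 2 :=
  have := Fact.mk Nat.prime_two
  exists_prime_orderOf_dvd_card' 2 (Nat.not_odd_iff_even.1 fun e => hs (H42.odd_order e)).two_dvd

/-- above a nonsolvable normal subgroup no prime of `ρ` occurs -/
theorem quot_notin (h : Cl ρ G) (h2 : 2 ∉ ρ) (M : Subgroup G) [hM : M.Normal] (hs : ¬ Group.IsSolvable M)
    {p : ℕ} (hp : p.Prime) (hd : p ∣ M.index) : p ∉ ρ := fun hρ => by
  have := Fact.mk hp
  obtain ⟨y, hy⟩ := exists_prime_orderOf_dvd_card' (G := G ⧸ M) p hd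
  set L := (zpowers y).comap (QuotientGroup.mk' M) with hL
  have hML : M ≤ L := fun x hx => by
    rw [hL, mem_comap, QuotientGroup.mk'_apply, (QuotientGroup.eq_one_iff x).2 hx]
    exact one_mem _
  have hsol := solv_of_two_closed (two_closed h2 _ L rfl (h.sub L) (M.subgroupOf L) inferInstance
    (fun e => by
      obtain ⟨z, rfl⟩ := QuotientGroup.mk'_surjective M y
      have : z ∈ M := subgroupOf_eq_top.1 e (mem_comap.2 (mem_zpowers _))
      rw [QuotientGroup.mk'_apply, (QuotientGroup.eq_one_iff z).2 this, orderOf_one] at hy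
      exact hp.ne_one hy.symm)
    fun x hx a ha hax => by
      have h1 : orderOf (QuotientGroup.mk' M x) = p :=
        ((Nat.dvd_prime hp).1 (hy ▸ orderOf_dvd_of_mem_zpowers x.2)).resolve_left fun e =>
          hx ((QuotientGroup.eq_one_iff (N := M) (x : G)).1 (orderOf_eq_one_iff.1 e))
      exact h x p a hp ha (h1 ▸ orderOf_map_dvd _ _) (by simpa using hax) hρ)
  exact hs (Group.isSolvable_of_isSolvable_injective (f := inclusion hML) (inclusion_injective hML))

/-- a nonsolvable minimal normal subgroup is simple -/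
theorem simple (h : Cl ρ G) (h2 : 2 ∉ ρ) (hO : piCore ρᶜ G = ⊥) (M : Subgroup G) [hM : M.Normal]
    (hM1 : M ≠ ⊥) (hmin : ∀ K : Subgroup G, K.Normal → K ≤ M → K = ⊥ ∨ K = M)
    (hs : ¬ Group.IsSolvable M) : IsSimpleGroup M := by
  have := (nontrivial_iff_ne_bot M).2 hM1
  have := Fact.mk Nat.prime_two
  refine ⟨fun K hK => ?_⟩
  by_contra! hne
  obtain ⟨S, hS, hS1, hSK, hSm⟩ := H4.exists_minimal_normal_le K hne.1
  have hinj := M.subtype_injective
  obtain ⟨g, hg⟩ : ∃ g : G, S.map (MulAut.conjNormal (H := M) g).toMonoidHom ≠ S := by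
    by_contra! e
    have hn : (S.map M.subtype).Normal := ⟨by
      rintro _ ⟨x, hx, rfl⟩ g
      exact ⟨MulAut.conjNormal g x, e g ▸ mem_map_of_mem _ hx, rfl⟩⟩
    rcases hmin _ hn (map_subtype_le S) with e' | e'
    · exact hS1 ((map_eq_bot_iff_of_injective _ hinj).1 e')
    · refine hne.2 (eq_top_iff.2 (le_trans (fun x _ => ?_) hSK))
      obtain ⟨y, hy, e''⟩ : (x : G) ∈ S.map M.subtype := e'.symm ▸ x.2
      exact hinj e'' ▸ hy
  set φ := MulAut.conjNormal (H := M) g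
  set S2 := S.map φ.toMonoidHom with hS2
  have hn2 : S2.Normal := hS.map _ φ.surjective
  have hc2 : Nat.card S2 = Nat.card S := card_map_of_injective φ.injective
  have hd : Disjoint S S2 := disjoint_iff.2 ((hSm _ inferInstance inf_le_left).resolve_right fun e =>
    hg (eq_of_le_of_card_ge (inf_eq_left.1 e) hc2.le).symm)
  by_cases he : 2 ∣ Nat.card S
  · obtain ⟨u, hu⟩ := exists_prime_orderOf_dvd_card' 2 he
    have h3 : S2 ≤ piCore ρᶜ M := H2.le_piCore fun p hp hpd hρ => by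
      have := Fact.mk hp
      obtain ⟨v, hv⟩ := exists_prime_orderOf_dvd_card' p hpd
      exact h2 ((h.sub M).comm (commute_of_normal_of_disjoint S S2 hS hn2 hd u v u.2 v.2).symm hp
        Nat.prime_two (by simp [hv]) (by simp [hu]) hρ)
    have h4 := (map_mono h3).trans ((H2.map_piCore_subtype_le (π := ρᶜ) M).trans hO.le)
    rw [le_bot_iff, map_eq_bot_iff_of_injective _ hinj] at h4
    exact hS1 (card_eq_one.1 (by rw [← hc2, h4, card_bot]))
  · have h3 : S ≤ pPrimeCore 2 M := H2.le_pPrimeCore_of_not_dvd he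
    rcases hmin ((pPrimeCore 2 M).map M.subtype) inferInstance (map_subtype_le _) with e | e
    · exact hS1 (eq_bot_iff.2 (h3.trans ((map_eq_bot_iff_of_injective _ hinj).1 e).le))
    · exact hs (H42.odd_order (Nat.coprime_two_right.1 (e ▸ H2.coprime_card_map_pPrimeCore_subtype M)))

/-- the centralizer of a normal abelian `ρ`-subgroup is an abelian Frobenius kernel -/
theorem frob (h : Cl ρ G) (h2 : 2 ∉ ρ) {t : G} (ht : orderOf t = 2) {B : Subgroup G} [B.Normal] {b : G}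
    (hb : b ∈ B) {p : ℕ} (hp : p.Prime) (hpb : p ∣ orderOf b) (hρ : p ∈ ρ) :
    t ∉ centralizer (B : Set G) ∧ (∀ x ∈ centralizer (B : Set G), ∀ y ∈ centralizer (B : Set G), x * y = y * x) ∧
      ∀ y ∉ centralizer (B : Set G), ∀ k ∈ centralizer (B : Set G), Commute k y → k = 1 := by
  have hc : ∀ x ∈ centralizer (B : Set G), Commute b x := fun x hx => hx b hb
  have ab : ∀ H : Subgroup G, (∀ x ∈ H, t * x * t⁻¹ = x⁻¹) → ∀ x ∈ H, ∀ y ∈ H, x * y = y * x :=
    fun H hH x hx y hy => by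
      have := hH _ (mul_mem hx hy)
      rw [show t * (x * y) * t⁻¹ = t * x * t⁻¹ * (t * y * t⁻¹) by group, hH x hx, hH y hy, ← mul_inv_rev,
        inv_inj] at this
      exact this.symm
  have i1 := h.inv h2 ht hp hpb hρ (fun x hx => (inferInstance : (centralizer (B : Set G)).Normal).conj_mem x hx t) hc
  refine ⟨fun e => h2 (h.comm (hc t e) hp Nat.prime_two hpb (ht ▸ dvd_rfl) hρ), ab _ i1, fun y hy k hk c => ?_⟩
  by_contra h1
  obtain ⟨a, ha, hak⟩ := ex_prime h1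
  have i2 := h.inv h2 ht ha hak (h.comm (hc k hk) hp ha hpb hak hρ) (H := centralizer {k}) (fun x hx => by
    rw [mem_centralizer_singleton_iff] at hx ⊢
    have e : k = t * k⁻¹ * t⁻¹ := by rw [i1 _ (inv_mem hk), inv_inv]
    have c' : Commute x k⁻¹ := Commute.inv_right hx
    rw [e, conj_mul, conj_mul, c'.eq]) fun x hx => (mem_centralizer_singleton_iff.1 hx).symm
  exact hy fun z hz => ab _ i2 z (mem_centralizer_singleton_iff.2 (hk z hz)) y
    (mem_centralizer_singleton_iff.2 c.symm)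

theorem main (h : Cl ρ G) (h2 : 2 ∉ ρ) {r : ℕ} (hr : r.Prime) (hrd : r ∣ Nat.card G) (hρ : r ∈ ρ)
    (hs : ¬ Group.IsSolvable G) : (∃ C : Subgroup G, IsFrobeniusComplement C) ∨
    ∃ (N M : Subgroup G) (_ : N.Normal) (_ : M.Normal), N ≤ M ∧ (∀ p : ℕ, p.Prime → p ∣ Nat.card N → p ∉ ρ) ∧
      (∀ p : ℕ, p.Prime → p ∣ Nat.card (G ⧸ M) → p ∉ ρ) ∧
      IsSimpleGroup (M ⧸ N.subgroupOf M) ∧ ¬ IsMulCommutative (M ⧸ N.subgroupOf M) := by
  have := Fact.mk hr
  obtain ⟨x, hx⟩ := exists_prime_orderOf_dvd_card' r hrd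
  set N := piCore ρᶜ G with hN
  have hNρ : ∀ d ∈ N, ∀ b : ℕ, b.Prime → b ∣ orderOf d → b ∉ ρ := fun d hd b hb hbd =>
    H2.mem_of_dvd_card_piCore ρᶜ G b hb (hbd.trans (N.orderOf_dvd_natCard hd))
  have hnil := h.nil (x := x) hr hx.symm.dvd hρ N hNρ
  have hsj := QuotientGroup.mk'_surjective N
  have hX : ¬ Group.IsSolvable (G ⧸ N) := fun e =>
    hs (Group.isSolvable_of_ker_le_range N.subtype (QuotientGroup.mk' N) (by simp))
  have hO : piCore ρᶜ (G ⧸ N) = ⊥ := H2.piCore_quotient_piCore _ _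
  obtain ⟨t, ht⟩ := ex_inv hX
  obtain ⟨B, hB, hB1, -, hmin⟩ := H4.exists_minimal_normal_le (⊤ : Subgroup (G ⧸ N)) fun e => by
    have : t = 1 := mem_bot.1 (e ▸ mem_top t)
    simp [this] at ht
  let f := (QuotientGroup.mk' N).subgroupComap B
  have hf : Function.Surjective f := (QuotientGroup.mk' N).subgroupComap_surjective_of_surjective B hsj
  by_cases hBs : Group.IsSolvable B
  · left
    obtain ⟨p, hp, hpB⟩ := H4.minimal_normal_exponent hB1 hmin
    have hBc := H4.minimal_normal_comm hB1 hmin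
    have := Fact.mk hp
    have hBp : IsPGroup p B := fun y => ⟨1, Subtype.ext (by simpa using hpB y y.2)⟩
    have hpρ : p ∈ ρ := by
      by_contra e
      refine hB1 (eq_bot_iff.2 (hO ▸ H2.le_piCore fun q hq hd => ?_))
      obtain ⟨k, hk⟩ := IsPGroup.iff_card.1 hBp
      rwa [(Nat.prime_dvd_prime_iff_eq hq hp).1 (hq.dvd_of_dvd_pow (hk ▸ hd))]
    obtain ⟨⟨b, hb⟩, hb1⟩ := ne_bot_iff_exists_ne_one.1 hB1
    obtain ⟨a, ha, hab⟩ := ex_prime (g := b) fun e => hb1 (Subtype.ext e)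
    obtain rfl := prime_eq hBp hb ha hab
    obtain ⟨k1, k2, k3⟩ := frob (h.quot N) h2 ht hb hp hab hpρ
    by_cases hN1 : N = ⊥
    · refine H5.exists_frob_of_fpf ((centralizer (B : Set (G ⧸ N))).comap (QuotientGroup.mk' N)) (fun e => ?_)
        (fun e => ?_) fun y hy k hk c => mem_bot.1 (hN1 ▸ (QuotientGroup.eq_one_iff k).1 
          (k3 _ hy _ hk (c.map (QuotientGroup.mk' N))))
      · obtain ⟨z, rfl⟩ := hsj b
        have : z ∈ (⊥ : Subgroup G) := e ▸ fun y hy => congrArg Subtype.val (hBc.is_comm.comm ⟨y, hy⟩ ⟨_, hb⟩)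
        exact hb1 (Subtype.ext (by simp [mem_bot.1 this]))
      · obtain ⟨z, rfl⟩ := hsj t
        exact k1 (mem_comap.1 (e ▸ mem_top z))
    exfalso
    let P : Sylow a (B.comap (QuotientGroup.mk' N)) := default
    have hP : IsPGroup a ((P : Subgroup _).map (B.comap (QuotientGroup.mk' N)).subtype) := P.2.map _
    have hc := (H5.isCyclic_or_quaternion_of_fpf hN1 (by rw [normalizer_eq_top]; exact le_top)
      (fun y hy hy1 => eq_bot_iff.2 fun d hd => by
        by_contra h1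
        obtain ⟨c, hc, hcd⟩ := ex_prime (mt mem_bot.2 h1)
        obtain ⟨c', hc', hcy⟩ := ex_prime hy1
        exact hNρ d hd.1 c hc hcd (h.comm (mem_centralizer_singleton_iff.1 hd.2).symm hc' hc hcy hcd
          (prime_eq hP hy hc' hcy ▸ hpρ))) hP).resolve_right fun e => h2 (e.1 ▸ hpρ)
    have hc1 : IsCyclic P := isCyclic_of_surjective _ ((P : Subgroup _).equivMapOfInjective _
      (B.comap (QuotientGroup.mk' N)).subtype_injective).symm.surjective
    have htop : (P : Subgroup _).map f = ⊤ :=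
      ((P.mapSurjective hf).is_maximal' (hBp.to_subgroup ⊤) le_top).symm
    have hc2 : IsCyclic B := isCyclic_of_surjective (f.comp (P : Subgroup _).subtype) fun y => by
      obtain ⟨z, hz, rfl⟩ : y ∈ (P : Subgroup _).map f := htop ▸ mem_top y
      exact ⟨⟨z, hz⟩, rfl⟩
    have h3 := H5.commutator_le_centralizer_of_cyclic B
    refine hX ⟨2, eq_bot_iff.2 ?_⟩
    rw [derivedSeries_succ, derivedSeries_one, commutator_le]
    intro y hy z hz
    exact mem_bot.2 (commutatorElement_eq_one_iff_mul_comm.2 (k2 y (h3 hy) z (h3 hz)))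
  right
  have hsim := simple (h.quot N) h2 hO B hB1 hmin hBs
  have hk : f.ker = N.subgroupOf (B.comap (QuotientGroup.mk' N)) := by
    ext y
    rw [MonoidHom.mem_ker, mem_subgroupOf, Subtype.ext_iff]
    exact QuotientGroup.eq_one_iff _
  let e := (QuotientGroup.quotientMulEquivOfEq hk.symm).trans (QuotientGroup.quotientKerEquivOfSurjective f hf)
  refine ⟨N, B.comap (QuotientGroup.mk' N), inferInstance, inferInstance, fun y hy => ?_,
    H2.mem_of_dvd_card_piCore ρᶜ G, fun p hp hd => quot_notin (h.quot N) h2 B hBs hp ?_, e.isSimpleGroup,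
    fun hc => hBs ?_⟩
  · rw [mem_comap, QuotientGroup.mk'_apply, (QuotientGroup.eq_one_iff y).2 hy]
    exact one_mem _
  · rwa [← index_comap_of_surjective B hsj]
  · exact Group.isSolvable_of_comm fun a b => e.symm.injective (by rw [map_mul, map_mul, hc.is_comm.comm])

end H1.GK
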