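import Cfsg.Agent.H1.HN3Ua

/-! `blueprints/HN3L.md` §15: the Sylow `2`-subgroup of `C(t) / ⟨t⟩`. -/

set_option autoImplicit false
set_option maxRecDepth 100000

namespace H1.HN3U

open Cfsg Subgroup H98 H42.L3 H16.HN3
open H32.HS (U ei gq gr u2 ea ez)
open scoped commutatorElement

universe u

local notation "Ce" => H56.L3.Ce

attribute [local instance high] List.decidableBAll List.decidableBEx

variable {G : Type u} [Group G] {ψ : A →* G} {n P Q R : G}

theorem zp_t {g : G} : g ∈ zpowers (ψ t) ↔ g = 1 ∨ g = ψ t := by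
  have h2 : ψ t * ψ t = 1 := by
    rw [← map_mul, show t * t = 1 by to_code; decide +kernel, map_one]
  refine ⟨fun ⟨k, hk⟩ => ?_, by rintro (rfl | rfl); exacts [one_mem _, mem_zpowers _]⟩
  rw [← hk]
  rcases Int.even_or_odd' k with ⟨m, rfl | rfl⟩
  · exact .inl (by simp only [zpow_mul, zpow_ofNat, sq, h2, one_zpow])
  · exact .inr (by simp only [zpow_add, zpow_mul, zpow_ofNat, sq, h2, one_zpow, one_mul, pow_one])

theorem CF.comm {g : G} (h : CF ψ g) {f : A} (hf : f ∈ lF) : Commute g (ψ f) := by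
  obtain ⟨i, -, j, -, k, -, rfl⟩ := lF_word hf
  simp only [map_mul, map_pow, x3]
  exact ((h.1.pow_right _).mul_right (h.2.2.pow_right _)).mul_right
    ((h.2.1.mul_right h.2.2).pow_right _)

theorem cf_mul {g h : G} (hg : CF ψ g) (hh : CF ψ h) : CF ψ (g * h) :=
  ⟨hg.1.mul_left hh.1, hg.2.1.mul_left hh.2.1, hg.2.2.mul_left hh.2.2⟩

theorem cf_pow {g : G} (hg : CF ψ g) (k : ℕ) : CF ψ (g ^ k) :=
  ⟨hg.1.pow_left _, hg.2.1.pow_left _, hg.2.2.pow_left _⟩

theorem cf_V {w : A} (hw : w ∈ lV) : CF ψ (ψ w) := by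
  have : Commute w s ∧ Commute w x1 ∧ Commute w x2 := by
    revert hw
    to_code
    generalize code w = x
    revert x
    decide +kernel
  exact ⟨this.1.map ψ, this.2.1.map ψ, this.2.2.map ψ⟩

theorem conj_psi (a b c : A) (h : a * b * a⁻¹ = c) : IsConj (ψ b) (ψ c) :=
  isConj_iff.2 ⟨ψ a, by rw [← h, map_mul, map_mul, map_inv]⟩

theorem s_conj {f : A} (hf : f ∈ lF) (h1 : f ≠ 1) : IsConj (ψ s) (ψ f) := by
  obtain ⟨i, -, e⟩ := lF_th hf h1
  exact conj_psi _ _ _ e

theorem InA.inv {g : G} (h : InA ψ g) : ψ c * g * (ψ c)⁻¹ = g⁻¹ := by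
  have := h.2.2.1
  rw [commutatorElement_def, mul_assoc, mul_assoc, mul_right_inj] at this
  rw [eq_inv_iff_mul_eq_one]
  conv_lhs => enter [2]; rw [this]
  group

theorem t_conj (m : Md ψ P Q R) {f : A} (hf : f ∈ lF) : IsConj (ψ t) (ψ (t * f)) := by
  by_cases h1 : f = 1
  · rw [h1, mul_one]
  obtain ⟨i, -, e⟩ := lF_th hf h1
  have h2 : IsConj (ψ c) (ψ (s * c)) := isConj_iff.2 ⟨P, by
    rw [map_mul, ← m.PP, m.aP.2.2.1, commutatorElement_def, inv_mul_cancel_right]⟩
  refine ((conj_psi (e1 * e1) t c (by to_code; decide +kernel)).trans h2).trans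
    ((conj_psi e1 _ (t * s) (by to_code; decide +kernel)).trans (conj_psi (th ^ i) _ _ ?_))
  rw [← e, ← conj_mul, ((show Commute th t by to_code; decide +kernel).pow_left i).eq,
    mul_inv_cancel_right]

theorem jobU : JobU.{u} := by
  intro T1 G _ _ ψ n P Q R hi b1 full m
  let π : Ce (ψ t) →* Kb (ψ t) := QuotientGroup.mk' _
  have π1 : ∀ g, π g = 1 ↔ (g : G) ∈ zpowers (ψ t) := fun g => QuotientGroup.eq_one_iff g
  have πe : ∀ g h, π g = π h ↔ (g : G) * (h : G)⁻¹ ∈ zpowers (ψ t) := fun g h => by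
    rw [← mul_inv_eq_one, ← map_inv, ← map_mul, π1]; rfl
  have πs : ∀ x, ∃ g, π g = x := QuotientGroup.mk'_surjective _
  let lf (a : A) (h : Commute a t) : Ce (ψ t) := ⟨ψ a, mem_Ce.2 (h.map ψ)⟩
  let P' : Ce (ψ t) := ⟨P, mem_Ce.2 m.aP.2.1⟩
  let Q' : Ce (ψ t) := ⟨Q, mem_Ce.2 m.aQ.2.1⟩
  let R' : Ce (ψ t) := ⟨R, mem_Ce.2 m.aR.2.1⟩
  have four : ∀ (g : Ce (ψ t)) (a : A), a * a = 1 → (g : G) * g = ψ a → π g ^ 4 = 1 :=
    fun g a ha e => by
      rw [← map_pow, show g ^ 4 = 1 from Subtype.ext (by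
        rw [coe_pow, show 4 = 2 * 2 from rfl, pow_mul, sq (g : G), e, sq, ← map_mul, ha, map_one,
          coe_one]), map_one]
  have cm : ∀ g h : Ce (ψ t), Commute (g : G) h → Commute (π g) (π h) := fun g h e =>
    Commute.map (show Commute g h from Subtype.ext e.eq) π
  have d1 : dA 1 = c' := by simp [dA]
  have d4 : dA 4 = r' := by simp [dA]
  have rel : ∀ (d : ℕ) (g h : Ce (ψ t)), ψ (dA d) * g * (ψ (dA d))⁻¹ * (h : G)⁻¹ ∈ zpowers (ψ t) →
      π (lf _ (dA_t d)) * π g * (π (lf _ (dA_t d)))⁻¹ = π h := fun d g h e => by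
    rw [← map_inv, ← map_mul, ← map_mul, πe]; exact e
  obtain ⟨φ, hφ⟩ := exists_hom (p := π P') (q := π Q') (r := π R')
    (D := fun d => π (lf _ (dA_t d))) (cm _ _ m.PQ) (cm _ _ m.PR) (cm _ _ m.QR)
    (four _ s (by to_code; decide +kernel) m.PP) (four _ x2 (by to_code; decide +kernel) m.QQ)
    (four _ x3 (by to_code; decide +kernel) m.RR)
    ((π1 _).2 (by simp [lf, dA]))
    (fun d hd f hf => by
      rw [← map_mul]
      exact congrArg π (Subtype.ext ((congrArg ψ (dA_dm d hd f hf)).trans (map_mul ψ _ _))))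
    (rel 1 P' P' (d1 ▸ m.yP)) ((rel 1 Q' Q'⁻¹ (by simpa [d1] using m.yQ)).trans (map_inv π _))
    ((rel 1 R' (P' ^ 3 * Q' ^ 2 * R' ^ 3) (d1 ▸ m.yR)).trans (by simp only [map_mul, map_pow]))
    ((rel 4 P' P'⁻¹ (by simpa [d4] using m.rP)).trans (map_inv π _))
    (rel 4 Q' R' (d4 ▸ m.rQ)) (rel 4 R' Q' (d4 ▸ m.rR))
  have D0 : π (lf _ (dA_t 0)) = 1 := (π1 _).2 (by simp [lf, dA])
  have φp : φ ei = π P' := by rw [hφ, show ei.n = 1 from rfl]; simp [aw, D0]
  have φq : φ gq = π Q' := by rw [hφ, show gq.n = 4 from rfl]; simp [aw, D0]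
  have φr : φ gr = π R' := by rw [hφ, show gr.n = 16 from rfl]; simp [aw, D0]
  have φd : ∀ d < 8, φ (H32.HS.el (64 * d)) = π (lf _ (dA_t d)) := fun d hd => by
    have h1 : (H32.HS.el (64 * d)).n = 64 * d := Nat.mod_eq_of_lt (by omega)
    rw [hφ, h1, Nat.mul_mod_right, Nat.mul_div_cancel_left _ (by decide)]
    simp [aw]
  have ct : Commute c t := by to_code; decide +kernel
  have hinj : Function.Injective φ := inj_of φ (by
    rw [(by decide +kernel : ez = ei * ei), map_mul, φp, ← map_mul, Ne, π1, zp_t, coe_mul, m.PP,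
      ← map_one ψ, hi.eq_iff, hi.eq_iff]
    to_code
    decide +kernel)
  have kA : ∀ a ∈ [ei, gq, gr], π (lf c ct) * φ a * (π (lf c ct))⁻¹ = (φ a)⁻¹ := by
    have : ∀ g : Ce (ψ t), InA ψ g → π (lf c ct) * π g * (π (lf c ct))⁻¹ = (π g)⁻¹ := fun g h => by
      rw [← map_inv, ← map_inv, ← map_mul, ← map_mul]
      exact congrArg π (Subtype.ext (InA.inv h))
    simp only [List.forall_mem_cons, φp, φq, φr]
    exact ⟨this _ m.aP, this _ m.aQ, this _ m.aR, by simp⟩
  have sy : Sy φ (π (lf c ct)) := by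
    refine ⟨hinj, ?_, ?_, kA, ?_⟩
    · rw [← map_mul, π1, coe_mul, ← map_mul, show c * c = 1 by to_code; decide +kernel, map_one]
      exact one_mem _
    · rintro ⟨u, e⟩
      simp only [← e, ← map_inv, ← map_mul, hinj.eq_iff, List.forall_mem_cons] at kA
      exact no_inv u kA.1 kA.2.1 kA.2.2.1
    · simp only [List.forall_mem_cons]
      refine ⟨φd 1 (by decide) ▸ cm _ _ (Commute.map ?_ ψ),
        φd 4 (by decide) ▸ cm _ _ (Commute.map ?_ ψ), by simp⟩
      · rw [d1]; to_code; decide +kernel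
      · rw [d4]; to_code; decide +kernel
  have wd : ∀ i j k : ℕ, φ ((ei * ei) ^ i * (gq * gq) ^ j * (gr * gr) ^ k) =
      π ((P' * P') ^ i * (Q' * Q') ^ j * (R' * R') ^ k) := fun i j k => by
    simp only [map_mul, map_pow, φp, φq, φr]
  have wd' : ∀ i j k : ℕ, (((P' * P') ^ i * (Q' * Q') ^ j * (R' * R') ^ k : Ce (ψ t)) : G) =
      ψ (s ^ i * x2 ^ j * x3 ^ k) := fun i j k => by
    simp only [map_mul, map_pow, coe_mul, coe_pow, P', Q', R', m.PP, m.QQ, m.RR]
  have memV : ∀ g, π g ∈ H32.HS.V.map φ ↔ ∃ f ∈ lF, (g : G) = ψ f ∨ (g : G) = ψ (t * f) := by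
    intro g
    constructor
    · rintro ⟨v, hv, e⟩
      obtain ⟨i, hi, j, hj, k, hk, rfl⟩ := V_word v hv
      rw [wd, eq_comm, πe, wd', zp_t, mul_inv_eq_one, mul_inv_eq_iff_eq_mul, ← map_mul] at e
      exact ⟨_, word_lF i hi j hj k hk, e⟩
    · rintro ⟨f, hf, e⟩
      obtain ⟨i, hi, j, hj, k, hk, rfl⟩ := lF_word hf
      refine ⟨_, word_V i hi j hj k hk, ?_⟩
      rw [wd, eq_comm, πe, wd', zp_t, mul_inv_eq_one, mul_inv_eq_iff_eq_mul, ← map_mul]
      exact e
  have nV : ∀ g : Ce (ψ t), π g ∈ nr (H32.HS.V.map φ) → ∃ i j k : ℕ, ∃ w ∈ lV, ∃ a ∈ lL,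
      (g : G) = P ^ i * Q ^ j * R ^ k * ψ w * ψ a := by
    intro g hg
    have k1 : ∀ f ∈ lF, f ≠ 1 → ∃ f' ∈ lF, (g : G)⁻¹ * ψ f * g = ψ f' := fun f hf h1 => by
      have ft : Commute f t := by
        revert hf
        to_code
        generalize code f = x
        revert x
        decide +kernel
      obtain ⟨f', hf', e | e⟩ := (memV (g⁻¹ * lf f ft * g⁻¹⁻¹)).1 (by
        rw [map_mul, map_mul, map_inv π g⁻¹]
        exact conj_mem_of_mem_normalizer (by rw [map_inv]; exact inv_mem hg)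
          ((memV _).2 ⟨f, hf, .inl rfl⟩))
      · exact ⟨f', hf', by simpa using e⟩
      · exact absurd ((t_conj m hf').trans (((s_conj hf h1).trans
          (isConj_iff.2 ⟨(g : G)⁻¹, e⟩)).symm)) b1.ts
    obtain ⟨a, ha, ea⟩ := k1 s (by simp [lF]) (by to_code; decide +kernel)
    obtain ⟨b, hb, eb⟩ := k1 x1 (by simp [lF]) (by to_code; decide +kernel)
    obtain ⟨d, hd, ed⟩ := k1 x2 (by simp [lF]) (by to_code; decide +kernel)
    have ne : ∀ {x y x' y' : A}, (g : G)⁻¹ * ψ x * g = ψ x' → (g : G)⁻¹ * ψ y * g = ψ y' → x ≠ y →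
        x' ≠ y' := fun e1 e2 h e => h (hi (by
      rw [e, ← e2] at e1
      simpa using e1))
    have e0 : (g : G)⁻¹ * ψ 1 * g = ψ 1 := by simp
    obtain ⟨l, hl, l1, l2, l3⟩ := lL_aut ha hb hd (ne ea e0 (by to_code; decide +kernel))
      (ne eb e0 (by to_code; decide +kernel)) (ne eb ea (by to_code; decide +kernel))
      (ne ed e0 (by to_code; decide +kernel)) (ne ed ea (by to_code; decide +kernel))
      (ne ed eb (by to_code; decide +kernel)) (ne (y := s * x1) ed (by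
        rw [map_mul, map_mul, ← ea, ← eb]; group) (by to_code; decide +kernel))
    have k2 : ∀ {x x' : A}, (g : G)⁻¹ * ψ x * g = ψ x' → l * x = x' * l →
        Commute ((g : G) * ψ l) (ψ x) := fun e1 e2 => by
      rw [Commute, SemiconjBy, mul_assoc, ← map_mul, e2, map_mul, ← e1]
      group
    have h2 : Commute ((g : G) * ψ l) (ψ t) :=
      (show Commute (g : G) (ψ t) from mem_Ce.1 g.2).mul_left ((lL_t hl).map ψ)
    obtain ⟨i, j, k, w, hw, e⟩ := m.span _ (full _ ⟨k2 ea l1, k2 eb l2, k2 ed l3⟩ h2) h2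
    exact ⟨i, j, k, w, hw, l⁻¹, lL_inv hl, by rw [← e, map_inv, mul_inv_cancel_right]⟩
  have inT : ∀ u, φ u ∈ φ.range ⊔ zpowers (π (lf c ct)) := fun u => mem_sup_left ⟨u, rfl⟩
  have kT : π (lf c ct) ∈ φ.range ⊔ zpowers (π (lf c ct)) := mem_sup_right (mem_zpowers _)
  have same : ∀ (a : A) (h : Commute a t), π (lf a h) ∈ φ.range ⊔ zpowers (π (lf c ct)) →
      ∃ d < 8, Same a (dA d) := by
    intro a h ha
    have : ∃ d < 8, ∃ x, CF ψ x ∧ ψ a = x * ψ (dA d) := by
      have cP := m.aP.1.1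
      have cQ := m.aQ.1.1
      have cR := m.aR.1.1
      have cc : CF ψ (ψ c) := cf_V (by simp [lV])
      have cz : ∀ x ∈ zpowers (ψ t), CF ψ x := fun x hx => by
        rcases zp_t.1 hx with rfl | rfl
        exacts [map_one ψ ▸ cf_V (by simp [lV]), cf_V (by simp [lV])]
      obtain ⟨u, e | e⟩ := H17.HN3T.mem_T sy ha
      · rw [hφ, aw, ← map_pow, ← map_pow, ← map_pow, ← map_mul, ← map_mul, ← map_mul, πe] at e
        refine ⟨u.n / 64, by have := u.lt; omega, _, cf_mul (cz _ e) (cf_mul (cf_mul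
          (cf_pow cP (u.n % 64 % 4)) (cf_pow cQ (u.n % 64 / 4 % 4))) (cf_pow cR (u.n % 64 / 16 % 4))),
          ?_⟩
        simp only [coe_mul, coe_pow, lf, P', Q', R']
        group
      · rw [← H17.HN3T.k_inv sy, eq_mul_inv_iff_mul_eq, hφ, aw, ← map_pow, ← map_pow, ← map_pow,
          ← map_mul, ← map_mul, ← map_mul, ← map_mul, πe] at e
        have cd : Commute (ψ c) (ψ (dA (u.n / 64))) := Commute.map (Commute.symm
          ((((show Commute c' c by to_code; decide +kernel).pow_left _).mul_left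
            ((show Commute (r' * c' * r') c by to_code; decide +kernel).pow_left _)).mul_left
            ((show Commute r' c by to_code; decide +kernel).pow_left _))) ψ
        refine ⟨u.n / 64, by have := u.lt; omega, _, cf_mul (cf_mul (cz _ e) (cf_mul (cf_mul
          (cf_pow cP (u.n % 64 % 4)) (cf_pow cQ (u.n % 64 / 4 % 4)))
          (cf_pow cR (u.n % 64 / 16 % 4)))) cc, ?_⟩
        have c2 : ψ c * ψ c = 1 := by
          rw [← map_mul, show c * c = 1 by to_code; decide +kernel, map_one]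
        simp only [coe_mul, coe_pow, lf, P', Q', R']
        rw [mul_assoc _ (ψ c) (ψ (dA _)), cd.eq, ← mul_assoc, mul_assoc _ _ (ψ (dA _)),
          inv_mul_cancel_right, mul_assoc, c2, mul_one]
    obtain ⟨d, hd, x, hx, e⟩ := this
    refine ⟨d, hd, fun f hf => hi ?_⟩
    have h1 : dA d * f * (dA d)⁻¹ ∈ lF := by
      clear e
      revert f
      simp only [List.forall_mem_cons, List.not_mem_nil, false_imp_iff, implies_true]
      to_code
      rw [code_dA d hd]
      revert d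
      decide +kernel
    have h2 := (CF.comm hx h1).eq
    simp only [map_mul, map_inv] at h2 ⊢
    rw [e, mul_inv_rev, ← mul_assoc, mul_inv_eq_iff_eq_mul, ← h2]
    group
  have nT : nr (φ.range ⊔ zpowers (π (lf c ct))) ≤ φ.range ⊔ zpowers (π (lf c ct)) := by
    intro x hx
    obtain ⟨g, rfl⟩ := πs x
    obtain ⟨i, j, k, w, hw, a, ha, e⟩ := nV g (T1 _ φ _ sy hx)
    have wt : Commute w t := by
      revert hw
      to_code
      generalize code w = x
      revert x
      decide +kernel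
    have e1 : π g = φ (ei ^ i * gq ^ j * gr ^ k) * π (lf w wt) * π (lf a (lL_t ha)) := by
      simp only [map_mul, map_pow, φp, φq, φr]
      simp only [← map_mul, ← map_pow]
      exact congrArg π (Subtype.ext e)
    have h1 : π (lf w wt) ∈ φ.range ⊔ zpowers (π (lf c ct)) := by
      have h0 : ∀ h, π (lf t h) = 1 := fun h => (π1 _).2 (mem_zpowers _)
      simp only [lV, List.mem_cons, List.not_mem_nil, or_false] at hw
      rcases hw with rfl | rfl | rfl | rfl
      · rw [(π1 (lf 1 wt)).2 (by simp [lf])]; exact one_mem _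
      · rw [h0 wt]; exact one_mem _
      · exact kT
      · rw [show lf _ wt = lf t (.refl t) * lf c ct from Subtype.ext (map_mul ψ _ _), map_mul,
          h0 (.refl t), one_mul]
        exact kT
    have h2 := mul_mem (inT (ei ^ i * gq ^ j * gr ^ k)) h1
    rw [e1, (nr _).mul_mem_cancel_left (le_normalizer h2)] at hx
    have h3 : ∀ d < 8, ∃ e < 8, Same (a * dA d * a⁻¹) (dA e) := fun d hd =>
      same _ (((lL_t ha).mul_left (dA_t d)).mul_left (lL_t ha).inv_left) (by
        have := conj_mem_of_mem_normalizer hx (inT (H32.HS.el (64 * d)))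
        rw [φd d hd, ← map_inv, ← map_mul, ← map_mul] at this
        exact (congrArg π (Subtype.ext (by simp [lf]))).subst (motive := (· ∈ _)) this)
    obtain ⟨d, hd, h4⟩ := h3 4 (by decide)
    obtain ⟨d', hd', h5⟩ := h3 1 (by decide)
    obtain ⟨f, hf, rfl⟩ := lL_nor ha hd hd' (d4 ▸ h4) (d1 ▸ h5)
    rw [e1]
    exact mul_mem h2 (φd f hf ▸ inT _)
  have : Fact (Nat.Prime 2) := ⟨Nat.prime_two⟩
  refine ⟨φ, π (lf c ct), sy, ⟨le_top, isPGroup_iff_forall.2 fun x hx => ?_, fun S hS h1 _ => ?_⟩,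
    fun g e => congrArg π (Subtype.ext e.symm), ?_, fun g hg => ?_, fun x hx => ?_⟩
  · have p : ∀ u : U, u ^ 2 ^ 9 = 1 := fun u => by
      rw [show 2 ^ 9 = 512 from rfl, ← H32.HS.card, pow_card_eq_one']
    obtain ⟨u, rfl | rfl⟩ := H17.HN3T.mem_T sy hx
    · exact ⟨9, by rw [← map_pow, p, map_one]⟩
    · exact ⟨10, by rw [pow_succ', pow_mul, sq, H17.HN3T.kk_mul sy, ← map_pow, p, map_one]⟩
  · by_contra h2
    exact (lt_inf_normalizer hS (lt_of_le_of_ne h1 (Ne.symm h2))).not_ge (inf_le_right.trans nT)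
  · simp only [List.forall_mem_cons]
    refine ⟨fun g e => φp.trans (congrArg π (Subtype.ext e.symm)),
      fun g e => φq.trans (congrArg π (Subtype.ext e.symm)),
      fun g e => φr.trans (congrArg π (Subtype.ext e.symm)),
      fun g e => (φd 1 (by decide)).trans (congrArg π (Subtype.ext ?_)),
      fun g e => (φd 4 (by decide)).trans (congrArg π (Subtype.ext ?_)), by simp⟩
    · rw [e, ← d1]
    · rw [e, ← d4]
  · obtain ⟨i, j, k, w, hw, a, ha, e⟩ := nV g hg
    exact ⟨i, j, k, w, hw, a, lL_fix ha, e⟩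
  · obtain ⟨g, rfl⟩ := πs x
    rw [← map_inv, ← map_mul, ← map_mul, memV] at hx
    have k : ∀ {w f : A}, IsConj (ψ t) (ψ w) → w ≠ 1 → f ∈ lF → (g : G) * ψ w * (g : G)⁻¹ ≠ ψ f :=
      fun h1 h2 hf e => b1.ts ((h1.trans (isConj_iff.2 ⟨_, e⟩)).trans (s_conj hf fun e' => h2 (hi (by
        rw [e', map_one, conj_eq_one_iff] at e
        rw [e, map_one]))).symm)
    obtain ⟨f, hf, e | e⟩ := hx
    · exact k (conj_psi (e1 * e1) t c (by to_code; decide +kernel)) (by to_code; decide +kernel) hf e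
    · refine k (w := t * c) (conj_psi e1 t _ (by to_code; decide +kernel))
        (by to_code; decide +kernel) hf ?_
      rw [map_mul, ← conj_mul, mem_Ce'.1 g.2, show (g : G) * ψ c * (g : G)⁻¹ = _ from e, ← map_mul,
        ← mul_assoc, show t * t = 1 by to_code; decide +kernel, one_mul]

end H1.HN3U
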