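import Cfsg.Agent.H16.HN3K
import Cfsg.Agent.H17.HN3T
import Cfsg.Agent.H2.MinNormal

/-! `blueprints/HN3L.md` §15: computations for `JobU`. -/

set_option autoImplicit false
set_option maxRecDepth 100000

namespace H1.HN3U

open Cfsg Subgroup H16.HN3
open H32.HS (U add act dm ei gq gr u2 ea ez mul_n mulN_eq add_lt act_lt)

attribute [local instance high] List.decidableBAll List.decidableBEx

/-- the complement `L₃(2)` -/
def lL : List A := (List.range 7).flatMap fun i => [1, t', c', t' * c'].flatMap fun u =>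
  [1, p, p * p, r', p * r', p * p * r'].map fun q => th ^ i * u * q

def cL : List ℕ := [0xba9876543210, 0x76ba98543210, 0x9876ba543210, 0x98ba76543210, 0xba7698543210, 0x7698ba543210,
  0xba8967543210, 0x67ba89543210, 0x8967ba543210, 0x89ba67543210, 0xba6789543210, 0x6789ba543210,
  0xab9867543210, 0x67ab98543210, 0x9867ab543210, 0x98ab67543210, 0xab6798543210, 0x6798ab543210,
  0xab8976543210, 0x76ab89543210, 0x8976ab543210, 0x89ab76543210, 0xab7689543210, 0x7689ab543210,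
  0x9b57a8643210, 0xa89b57643210, 0x57a89b643210, 0x579ba8643210, 0x9ba857643210, 0xa8579b643210,
  0x9b758a643210, 0x8a9b75643210, 0x758a9b643210, 0x759b8a643210, 0x9b8a75643210, 0x8a759b643210,
  0xb9578a643210, 0x8ab957643210, 0x578ab9643210, 0x57b98a643210, 0xb98a57643210, 0x8a57b9643210,
  0xb975a8643210, 0xa8b975643210, 0x75a8b9643210, 0x75b9a8643210, 0xb9a875643210, 0xa875b9643210,
  0x596ab7843210, 0xb7596a843210, 0x6ab759843210, 0x6a59b7843210, 0x59b76a843210, 0xb76a59843210,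
  0x59a67b843210, 0x7b59a6843210, 0xa67b59843210, 0xa6597b843210, 0x597ba6843210, 0x7ba659843210,
  0x956a7b843210, 0x7b956a843210, 0x6a7b95843210, 0x6a957b843210, 0x957b6a843210, 0x7b6a95843210,
  0x95a6b7843210, 0xb795a6843210, 0xa6b795843210, 0xa695b7843210, 0x95b7a6843210, 0xb7a695843210,
  0x658b9a743210, 0x9a658b743210, 0x8b9a65743210, 0x8b659a743210, 0x659a8b743210, 0x9a8b65743210,
  0x65b8a9743210, 0xa965b8743210, 0xb8a965743210, 0xb865a9743210, 0x65a9b8743210, 0xa9b865743210,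
  0x568ba9743210, 0xa9568b743210, 0x8ba956743210, 0x8b56a9743210, 0x56a98b743210, 0xa98b56743210,
  0x56b89a743210, 0x9a56b8743210, 0xb89a56743210, 0xb8569a743210, 0x569ab8743210, 0x9ab856743210,
  0x86795ba43210, 0x5b8679a43210, 0x795b86a43210, 0x79865ba43210, 0x865b79a43210, 0x5b7986a43210,
  0x8697b5a43210, 0xb58697a43210, 0x97b586a43210, 0x9786b5a43210, 0x86b597a43210, 0xb59786a43210,
  0x6879b5a43210, 0xb56879a43210, 0x79b568a43210, 0x7968b5a43210, 0x68b579a43210, 0xb57968a43210,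
  0x68975ba43210, 0x5b6897a43210, 0x975b68a43210, 0x97685ba43210, 0x685b97a43210, 0x5b9768a43210,
  0x78a569b43210, 0x6978a5b43210, 0xa56978b43210, 0xa57869b43210, 0x7869a5b43210, 0x69a578b43210,
  0x785a96b43210, 0x96785ab43210, 0x5a9678b43210, 0x5a7896b43210, 0x78965ab43210, 0x965a78b43210,
  0x87a596b43210, 0x9687a5b43210, 0xa59687b43210, 0xa58796b43210, 0x8796a5b43210, 0x96a587b43210,
  0x875a69b43210, 0x69875ab43210, 0x5a6987b43210, 0x5a8769b43210, 0x87695ab43210, 0x695a87b43210,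
  0xa7b685943210, 0x85a7b6943210, 0xb685a7943210, 0xb6a785943210, 0xa785b6943210, 0x85b6a7943210,
  0xa76b58943210, 0x58a76b943210, 0x6b58a7943210, 0x6ba758943210, 0xa7586b943210, 0x586ba7943210,
  0x7ab658943210, 0x587ab6943210, 0xb6587a943210, 0xb67a58943210, 0x7a58b6943210, 0x58b67a943210,
  0x7a6b85943210, 0x857a6b943210, 0x6b857a943210, 0x6b7a85943210, 0x7a856b943210, 0x856b7a943210]

theorem code_lL : lL.map code = cL := by decide +kernel

theorem mem_lL {a : A} : a ∈ lL ↔ code a ∈ cL := code_lL ▸ mem_code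

/-- `D₈ = ⟨c', r'⟩` -/
def dA (d : ℕ) : A := c' ^ (d % 2) * (r' * c' * r') ^ (d / 2 % 2) * r' ^ (d / 4 % 2)

def cD (d : ℕ) : ℕ := [0xba9876543210, 0xab9867543210, 0xba8967543210, 0xab8976543210,
  0x98ba76543210, 0x98ab67543210, 0x89ba67543210, 0x89ab76543210].getD d 0

theorem code_dA : ∀ d < 8, code (dA d) = cD d := by decide +kernel

theorem dA_dm : ∀ d ∈ [1, 4], ∀ f < 8, dA (dm d f) = dA d * dA f := by decide +kernel

theorem dA_t (d : ℕ) : Commute (dA d) t :=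
  (((show Commute c' t by to_code; decide +kernel).pow_left _).mul_left
    ((show Commute (r' * c' * r') t by to_code; decide +kernel).pow_left _)).mul_left
    ((show Commute r' t by to_code; decide +kernel).pow_left _)

theorem lL_fix {a : A} (ha : a ∈ lL) (x : Fin 12) (hx : x.val < 4) : a.1 x = x := by
  refine Fin.ext ?_
  rw [← dg_code]
  exact (by decide +kernel : ∀ n ∈ cL, ∀ i < 4, dg n i = i) _ (mem_lL.1 ha) _ hx

theorem lL_t {a : A} (ha : a ∈ lL) : Commute a t := by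
  rw [mem_lL] at ha
  revert ha
  to_code
  generalize code a = x
  revert x
  decide +kernel

theorem lL_inv {a : A} (ha : a ∈ lL) : a⁻¹ ∈ lL := by
  rw [mem_lL] at ha ⊢
  rw [code_inv]
  exact (by decide +kernel : ∀ n ∈ cL, invC n ∈ cL) _ ha

/-- every automorphism of `F` is induced by the complement -/
theorem lL_aut {a b c : A} (ha : a ∈ lF) (hb : b ∈ lF) (hc : c ∈ lF) (h1 : a ≠ 1) (h2 : b ≠ 1)
    (h3 : b ≠ a) (h4 : c ≠ 1) (h5 : c ≠ a) (h6 : c ≠ b) (h7 : c ≠ a * b) :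
    ∃ k ∈ lL, k * s = a * k ∧ k * x1 = b * k ∧ k * x2 = c * k := by
  have key : ∀ x ∈ cF, ¬ x = oneC → ∀ y ∈ cF, ¬ y = oneC → ¬ y = x → ∀ z ∈ cF, ¬ z = oneC →
      ¬ z = x → ¬ z = y → ¬ z = mulC x y → ∃ k ∈ cL, mulC k 0xab8967453210 = mulC x k ∧
        mulC k 0x98ba54763210 = mulC y k ∧ mulC k 0x7654ba983210 = mulC z k := by decide +kernel
  rw [mem_lF] at ha hb hc
  simp only [Ne, code_eq, code_one, code_mul] at h1 h2 h3 h4 h5 h6 h7
  obtain ⟨k, hk, e⟩ := key _ ha h1 _ hb h2 h3 _ hc h4 h5 h6 h7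
  obtain ⟨l, hl, e'⟩ := List.mem_map.1 (code_lL.symm ▸ hk)
  refine ⟨l, hl, ?_⟩
  to_code
  rw [e']
  exact e

/-- `x` and `y` act in the same way on `F` -/
def Same (x y : A) : Prop := ∀ f ∈ [s, x1, x2], x * f * x⁻¹ = y * f * y⁻¹

/-- `D₈` is self-normalising in the complement -/
theorem lL_nor {a : A} (ha : a ∈ lL) {d e : ℕ} (hd : d < 8) (he : e < 8)
    (h1 : Same (a * r' * a⁻¹) (dA d)) (h2 : Same (a * c' * a⁻¹) (dA e)) : ∃ f < 8, a = dA f := by
  have key : ∀ x ∈ cL, ∀ u, u = mulC (mulC x 0x98ba76543210) (invC x) →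
      ∀ w, w = mulC (mulC x 0xab9867543210) (invC x) →
      (∃ d < 8, ∀ f ∈ [0xab8967453210, 0x98ba54763210, 0x7654ba983210],
        mulC (mulC u f) (invC u) = mulC (mulC (cD d) f) (invC (cD d))) →
      (∃ d < 8, ∀ f ∈ [0xab8967453210, 0x98ba54763210, 0x7654ba983210],
        mulC (mulC w f) (invC w) = mulC (mulC (cD d) f) (invC (cD d))) → ∃ f < 8, x = cD f := by
    simp only [forall_eq]
    decide +kernel
  have k2 : ∀ {x : A} {d : ℕ}, d < 8 → Same x (dA d) →
      ∀ f ∈ [0xab8967453210, 0x98ba54763210, 0x7654ba983210],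
        mulC (mulC (code x) f) (invC (code x)) = mulC (mulC (cD d) f) (invC (cD d)) := by
    intro x d hd h
    simpa only [Same, List.forall_mem_cons, code_eq, code_mul, code_inv, code_s, code_x1, code_x2,
      code_dA d hd, List.not_mem_nil, false_imp_iff, implies_true] using h
  obtain ⟨f, hf, e⟩ := key _ (mem_lL.1 ha) (code (a * r' * a⁻¹)) (by to_code)
    (code (a * c' * a⁻¹)) (by to_code) ⟨d, hd, k2 hd h1⟩ ⟨e, he, k2 he h2⟩
  exact ⟨f, hf, code_eq.2 (e.trans (code_dA f hf).symm)⟩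

theorem lF_th {f : A} (hf : f ∈ lF) (h1 : f ≠ 1) : ∃ i < 7, th ^ i * s * (th ^ i)⁻¹ = f := by
  revert hf h1
  to_code
  generalize code f = x
  revert x
  decide +kernel

theorem lF_word {f : A} (hf : f ∈ lF) : ∃ i < 2, ∃ j < 2, ∃ k < 2, f = s ^ i * x2 ^ j * x3 ^ k := by
  revert hf
  to_code
  generalize code f = x
  revert x
  decide +kernel

theorem word_lF : ∀ i < 2, ∀ j < 2, ∀ k < 2, s ^ i * x2 ^ j * x3 ^ k ∈ lF := by
  to_code
  decide +kernel

theorem V_word : ∀ v ∈ H32.HS.V, ∃ i < 2, ∃ j < 2, ∃ k < 2,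
    v = (ei * ei) ^ i * (gq * gq) ^ j * (gr * gr) ^ k := by decide +kernel

theorem word_V : ∀ i < 2, ∀ j < 2, ∀ k < 2,
    (ei * ei) ^ i * (gq * gq) ^ j * (gr * gr) ^ k ∈ H32.HS.V := by decide +kernel

theorem no_inv : ∀ u : U, u * ei * u⁻¹ = ei⁻¹ → u * gq * u⁻¹ = gq⁻¹ → u * gr * u⁻¹ ≠ gr⁻¹ := by
  decide +kernel

section hom
variable {X : Type*} [Group X] {p q r : X} {D : ℕ → X}

/-- the word `p ^ x q ^ y r ^ z` -/
def aw (p q r : X) (u : ℕ) : X := p ^ (u % 4) * q ^ (u / 4 % 4) * r ^ (u / 16 % 4)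

theorem aw_add (pq : Commute p q) (pr : Commute p r) (qr : Commute q r) (p4 : p ^ 4 = 1)
    (q4 : q ^ 4 = 1) (r4 : r ^ 4 = 1) {u w : ℕ} (hu : u < 64) (hw : w < 64) :
    aw p q r (add u w) = aw p q r u * aw p q r w := by
  obtain ⟨h1, h2, h3⟩ := (by decide +kernel : ∀ u < 64, ∀ w < 64,
    add u w % 4 = (u % 4 + w % 4) % 4 ∧ add u w / 4 % 4 = (u / 4 % 4 + w / 4 % 4) % 4 ∧
      add u w / 16 % 4 = (u / 16 % 4 + w / 16 % 4) % 4) u hu w hw
  rw [aw, h1, h2, h3, ← pow_eq_pow_mod _ p4, ← pow_eq_pow_mod _ q4, ← pow_eq_pow_mod _ r4, aw, aw,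
    pow_add, pow_add, pow_add, (pq.pow_pow _ _).mul_mul_mul_comm,
    ((pr.pow_pow _ _).mul_left (qr.pow_pow _ _)).mul_mul_mul_comm]

theorem exists_hom (pq : Commute p q) (pr : Commute p r) (qr : Commute q r) (p4 : p ^ 4 = 1)
    (q4 : q ^ 4 = 1) (r4 : r ^ 4 = 1) (d0 : D 0 = 1)
    (hD : ∀ d ∈ [1, 4], ∀ f < 8, D (dm d f) = D d * D f)
    (yp : D 1 * p * (D 1)⁻¹ = p) (yq : D 1 * q * (D 1)⁻¹ = q⁻¹)
    (yr : D 1 * r * (D 1)⁻¹ = p ^ 3 * q ^ 2 * r ^ 3) (ap : D 4 * p * (D 4)⁻¹ = p⁻¹)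
    (aq : D 4 * q * (D 4)⁻¹ = r) (ar : D 4 * r * (D 4)⁻¹ = q) :
    ∃ φ : U →* X, ∀ s, φ s = aw p q r (s.n % 64) * D (s.n / 64) := by
  have i4 : ∀ {x : X}, x ^ 4 = 1 → x⁻¹ = x ^ 3 := fun h =>
    inv_eq_of_mul_eq_one_right (by rw [← pow_succ', h])
  have a0 : aw p q r 0 = 1 := by simp [aw]
  have ad := fun {u w : ℕ} => aw_add pq pr qr p4 q4 r4 (u := u) (w := w)
  have ac : ∀ d ∈ [1, 4], ∀ u < 64, aw p q r (act d u) * D d = D d * aw p q r u := by
    intro d hd u
    have g : ∀ g ∈ [1, 4, 16], aw p q r (act d g) * D d = D d * aw p q r g := by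
      simp only [List.mem_cons, List.not_mem_nil, or_false] at hd
      rcases hd with rfl | rfl <;>
        simp only [List.forall_mem_cons, List.not_mem_nil, false_imp_iff, implies_true, and_true,
          ← eq_mul_inv_iff_mul_eq]
      · rw [show act 1 1 = 1 by decide +kernel, show act 1 4 = 12 by decide +kernel,
          show act 1 16 = 59 by decide +kernel]
        simp [aw, yp, yq, yr, i4 q4]
      · rw [show act 4 1 = 3 by decide +kernel, show act 4 4 = 16 by decide +kernel,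
          show act 4 16 = 4 by decide +kernel]
        simp [aw, ap, aq, ar, i4 p4]
    have d8 : d < 8 := (by decide : ∀ d ∈ [1, 4], d < 8) d hd
    induction u using Nat.strong_induction_on with
    | _ u ih =>
    intro hu
    rcases (by decide +kernel : ∀ u < 64, u = 0 ∨ ∃ g ∈ [1, 4, 16], g < 64 ∧ ∃ w < u, u = add g w)
      u hu with rfl | ⟨k, hk, k1, w, hw, rfl⟩
    · rw [(by decide +kernel : ∀ d < 8, act d 0 = 0) d d8, a0, one_mul, mul_one]
    · have w1 := hw.trans hu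
      rw [H32.HS.act_add d d8 k k1 w w1, ad (act_lt _ _) (act_lt _ _), ad k1 w1, mul_assoc,
        ih w hw w1, ← mul_assoc, g k hk, mul_assoc]
  let fn (s : U) : X := aw p q r (s.n % 64) * D (s.n / 64)
  have fm : ∀ g s : U, fn (g * s) =
      aw p q r (add g.n (act (g.n / 64) (s.n % 64))) * D (dm (g.n / 64) (s.n / 64)) := fun g s => by
    have := add_lt g.n (act (g.n / 64) (s.n % 64))
    have h1 : (g * s).n % 64 = add g.n (act (g.n / 64) (s.n % 64)) := by
      rw [mul_n, mulN_eq]; omega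
    have h2 : (g * s).n / 64 = dm (g.n / 64) (s.n / 64) := by rw [mul_n, mulN_eq]; omega
    simp only [fn, h1, h2]
  have fg : ∀ g ∈ [ei, gq, gr, u2, ea], ∀ s : U, fn (g * s) = fn g * fn s := by
    intro g hg s
    have m : s.n % 64 < 64 := Nat.mod_lt _ (by decide)
    have d : s.n / 64 < 8 := by have := s.lt; omega
    have k1 : ∀ g : U, g.n < 64 → fn (g * s) = fn g * fn s := fun g hg => by
      rw [fm, Nat.div_eq_of_lt hg, (by decide +kernel : ∀ u < 64, act 0 u = u) _ m,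
        (by decide +kernel : ∀ f < 8, dm 0 f = f) _ d, ad hg m]
      simp only [fn, Nat.div_eq_of_lt hg, Nat.mod_eq_of_lt hg, d0, mul_one, mul_assoc]
    have k2 : ∀ g : U, ∀ e ∈ [1, 4], g.n = 64 * e → fn (g * s) = fn g * fn s := fun g e he hg => by
      have h1 : g.n / 64 = e ∧ g.n % 64 = 0 := by omega
      rw [fm, h1.1, hD e he _ d, ← H32.HS.add_mod, h1.2, ad (by decide) (act_lt _ _), a0, one_mul,
        ← mul_assoc, ac e he _ m]
      simp only [fn, h1.1, h1.2, a0, one_mul, mul_assoc]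
    simp only [List.mem_cons, List.not_mem_nil, or_false] at hg
    rcases hg with rfl | rfl | rfl | rfl | rfl
    exacts [k1 _ (by decide), k1 _ (by decide), k1 _ (by decide), k2 _ 1 (by decide) rfl,
      k2 _ 4 (by decide) rfl]
  have f1 : fn 1 = 1 := show aw p q r 0 * D 0 = 1 by rw [a0, d0, mul_one]
  refine ⟨⟨⟨fn, f1⟩, fun s t => ?_⟩, fun _ => rfl⟩
  induction s using H32.HS.induction with
  | h1 => simp only [one_mul, f1]
  | hm g hg s ih =>
    simp only at ih ⊢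
    rw [mul_assoc, fg g hg, ih, fg g hg, mul_assoc (fn g)]

theorem inj_of (φ : U →* X) (h : φ ez ≠ 1) : Function.Injective φ := by
  have : Fact (Nat.Prime 2) := ⟨Nat.prime_two⟩
  have := (IsPGroup.of_card (p := 2) (n := 9) H32.HS.card).isNilpotent
  refine (MonoidHom.ker_eq_bot_iff _).1 (by_contra fun h0 => ?_)
  obtain ⟨⟨s, h1, h2⟩, h3⟩ := ne_bot_iff_exists_ne_one.1
    (H2.inf_center_ne_bot_of_isNilpotent φ.ker h0)
  rcases (by decide +kernel : ∀ s : U, (∀ g ∈ [ei, gq, gr, u2, ea], g * s = s * g) →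
    s = 1 ∨ s = ez) s fun g _ => mem_center_iff.1 h2 g with rfl | rfl
  exacts [h3 rfl, h h1]

end hom

end H1.HN3U
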