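import Cfsg.Agent.H1.HRL
import Cfsg.Agent.H14.PElem
import Cfsg.Agent.H18.Misc2
import Cfsg.Agent.S0058

/-! HR tower, job Bad. -/

set_option autoImplicit false

namespace H1.HRB

open MulAction Cfsg Subgroup H89.K H98 H82.HR H1.HRL

universe u v

variable {G : Type u} {Ω : Type v} [Group G] [MulAction G Ω]

theorem relIndex_stab (C : Subgroup G) (b : Ω) :
    (stabilizer G b).relIndex C = {c | ∃ g ∈ C, g • b = c}.ncard := by
  have e : orbit C b = {c | ∃ g ∈ C, g • b = c} := by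
    ext c
    exact ⟨fun ⟨g, hg⟩ => ⟨g, g.2, hg⟩, fun ⟨g, hg, e⟩ => ⟨⟨g, hg⟩, e⟩⟩
  rw [← e, ← index_stabilizer]
  rfl

theorem relIndex_mul_card (A C : Subgroup G) : A.relIndex C * Nat.card ↥(A ⊓ C) = Nat.card C := by
  rw [← index_mul_card (A.subgroupOf C), ← inf_subgroupOf_right,
    Nat.card_congr (subgroupOfEquivOfLe (inf_le_right : A ⊓ C ≤ C)).toEquiv, inf_subgroupOf_right]
  rfl

theorem dvd_of_orbits [Finite Ω] (D : Subgroup G) (S : Set Ω) (hS : ∀ g ∈ D, ∀ c ∈ S, g • c ∈ S)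
    {d : ℕ} (hd : ∀ c ∈ S, (stabilizer G c).relIndex D = d) : d ∣ S.ncard := by
  classical
  let T : SubMulAction D Ω := ⟨S, fun x {c} hc => hS x x.2 c hc⟩
  have := Fintype.ofFinite (orbitRel.Quotient D T)
  have e : S.ncard = Nat.card T := rfl
  rw [e, Nat.card_congr (selfEquivSigmaOrbits' D T), Nat.card_sigma]
  refine Finset.dvd_sum fun ω _ => ?_
  induction ω using Quotient.inductionOn' with
  | h c =>
    rw [orbitRel.Quotient.orbit_mk, Nat.card_coe_set_eq, ← index_stabilizer, ← hd c c.2]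
    refine dvd_of_eq (congrArg index ?_)
    ext g
    exact (Subtype.ext_iff (a1 := g • c) (a2 := c)).symm

variable [Finite G]

theorem card_le_sq {U Z : Subgroup G} {x : G} (hU : ∀ y ∈ U, y * y = 1) (hx : x ∈ nor U)
    (h2 : x * x = 1) (hZ : Z ≤ U) (hc : ∀ y ∈ U, y * x = x * y ↔ y ∈ Z) :
    Nat.card U ≤ Nat.card Z * Nat.card Z := by
  have hm : ∀ y ∈ U, x * y * x⁻¹ ∈ U := fun y hy => conj_mem_of_mem_normalizer hx hy
  let c : U →* G := MonoidHom.mk' (fun y => x * y * x⁻¹ * y) fun y w => by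
    have := H82.TP.comm_of_sq hU y.2 (hm w w.2)
    calc x * (y * w) * x⁻¹ * (y * w) = x * y * x⁻¹ * (x * w * x⁻¹ * y) * w := by group
      _ = _ := by rw [← this]; group
  have h1 : c.ker = Z.subgroupOf U := by
    ext y
    show x * y * x⁻¹ * y = 1 ↔ (y : G) ∈ Z
    rw [← hc y y.2, mul_eq_one_iff_eq_inv, H82.TP.inv_of_sq (hU y y.2), mul_inv_eq_iff_eq_mul,
      eq_comm]
  have h3 : c.range ≤ Z := by
    rintro _ ⟨y, rfl⟩
    refine (hc _ (mul_mem (hm y y.2) y.2)).1 ?_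
    show x * y * x⁻¹ * y * x = x * (x * y * x⁻¹ * y)
    rw [← H82.TP.comm_of_sq hU y.2 (hm y y.2), H82.TP.inv_of_sq h2]
    calc (y : G) * (x * y * x) * x = y * x * y * (x * x) := by group
      _ = (x * x) * y * x * y := by rw [h2]; group
      _ = x * (x * y * x⁻¹ * y) := by rw [H82.TP.inv_of_sq h2]; group
      _ = _ := by rw [← H82.TP.comm_of_sq hU y.2 (hm y y.2), H82.TP.inv_of_sq h2]
  rw [← index_mul_card c.ker, index_ker, h1, Nat.card_congr (subgroupOfEquivOfLe hZ).toEquiv]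
  exact Nat.mul_le_mul_right _ (card_le_of_le h3)

theorem keep {U A K B Z : Subgroup G} (hA : A ≤ nor U) (hK : K ≤ nor U) (hAK : A ≤ nor K)
    (hsq : ∀ x ∈ A, x * x = 1) (h3 : 2 < Nat.card A)
    (hc : ∀ x ∈ A, x ≠ 1 → ∀ y ∈ U, y * x = x * y ↔ y ∈ Z) (hne : ¬ U ≤ Z) (hBK : B ≤ K)
    (hKB : K ≤ nor B) (ho : Odd ((cen U).relIndex B)) {d y : G} (hd : d ∈ B) (hy : y ∈ U)
    (hyZ : y ∈ Z) : d * y * d⁻¹ ∈ Z := by
  let φ := U.normalizerMonoidHom
  let bar : Subgroup G → Subgroup (MulAut U) := fun X => (X.subgroupOf (nor U)).map φ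
  have hφ : ∀ (g : nor U) (w : U), ((φ g w : U) : G) = g * w * (g : G)⁻¹ := fun _ _ => rfl
  have hn : ∀ X Y : Subgroup G, X ≤ nor Y → bar X ≤ nor (bar Y) := fun X Y h =>
    map_le_normalizer_map φ (comap_le_normalizer_comap _ h)
  have hcard : ∀ X : Subgroup G, X ≤ nor U → Nat.card (bar X) = (cen U).relIndex X := fun X h => by
    rw [← relIndex_ker, normalizerMonoidHom_ker, relIndex_subgroupOf h]
  have hA1 : cen U ⊓ A = ⊥ := eq_bot_iff.2 fun x hx => by_contra fun h1 =>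
    hne fun w hw => (hc x hx.2 h1 w hw).1 (hx.1 w hw)
  have hcA : Nat.card (bar A) = Nat.card A := by
    rw [hcard A hA, ← inf_relIndex_right, hA1, relIndex_bot_left]
  have hsq' : ∀ α ∈ bar A, α * α = 1 := by
    rintro _ ⟨x, hx, rfl⟩
    rw [← map_mul, ← map_one φ]
    exact congrArg φ (Subtype.ext (hsq x hx))
  have : IsMulCommutative (bar A) := ⟨⟨fun α β => Subtype.ext (H82.TP.comm_of_sq hsq' α.2 β.2)⟩⟩
  have hcyc : ¬ IsCyclic (bar A) := fun h => by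
    obtain ⟨g, hg⟩ := IsCyclic.exists_ofOrder_eq_natCard (α := bar A)
    have := Nat.le_of_dvd two_pos (orderOf_dvd_of_pow_eq_one (x := g) (n := 2)
      (Subtype.ext (by simpa [sq] using hsq' g g.2)))
    omega
  obtain ⟨k, hk⟩ := IsPGroup.iff_card.1 (H82.TP.two_of_sq hsq')
  have hO := Cfsg.Agent.S0058.result (bar A) (H14.opp 2 (bar K)) hcyc
    ((hn A K hAK).trans (H14.normalizer_le_normalizer_opp _))
    (hk ▸ (H14.coprime_card_opp _).symm.pow_left k)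
  let S : Subgroup (MulAut U) :=
    { carrier := {α | ∀ w : U, (w : G) ∈ Z ↔ ((α w : U) : G) ∈ Z}
      one_mem' := fun _ => Iff.rfl
      mul_mem' := fun {α β} ha hb w => (hb w).trans (ha _)
      inv_mem' := fun {α} ha w => by simpa using (ha (α⁻¹ w)).symm }
  have hS : H14.opp 2 (bar K) ≤ S := by
    rw [← hO]
    refine iSup₂_le ?_
    rintro _ ⟨⟨x, hx, rfl⟩, h1⟩ α hα w
    have x1 : (x : G) ≠ 1 := fun e => h1 (by rw [(Subtype.ext e : x = 1), map_one])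
    have key : ∀ w : U, (w : G) ∈ Z ↔ φ x w = w := fun w => by
      rw [← hc x hx x1 w w.2, Subtype.ext_iff, hφ, mul_inv_eq_iff_eq_mul, eq_comm]
    have e : φ x (α w) = α (φ x w) :=
      (DFunLike.congr_fun (mem_centralizer_singleton_iff.1 hα.2) w).symm
    rw [key, key, e, α.injective.eq_iff]
  have hB : bar B ≤ H14.opp 2 (bar K) := H14.le_opp (map_mono (comap_mono hBK)) (hn K B hKB) (by
    rw [hcard B (hBK.trans hK)]
    exact Nat.coprime_two_right.2 ho)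
  exact (hS (hB ⟨⟨d, hK (hBK hd)⟩, hd, rfl⟩) ⟨y, hy⟩).1 hyZ

omit [Finite G] in
theorem arith {q f d e : ℕ} (h1 : f ∣ q) (h2 : 2 ≤ f) (h3 : f < q) (h4 : d ∣ f - 1)
    (h5 : d * e = q - 1) (h6 : e + 1 ≤ f) : False := by
  obtain ⟨s, rfl⟩ := h1
  obtain ⟨f, rfl⟩ : ∃ f', f = f' + 1 := ⟨f - 1, by omega⟩
  obtain ⟨s, rfl⟩ : ∃ s', s = s' + 1 := ⟨s - 1, by
    rcases s with _ | s
    · simp at h3
    · simp⟩
  have hs : 0 < s := Nat.pos_of_ne_zero (by rintro rfl; simp at h3)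
  have e1 : (f + 1) * (s + 1) - 1 = f * (s + 1) + s := by
    rw [add_mul, one_mul]
    rfl
  rw [Nat.add_sub_cancel] at h4
  rw [e1] at h5
  have h7 : d ≤ s := Nat.le_of_dvd hs ((Nat.dvd_add_right (h4.mul_right _)).1 (Dvd.intro _ h5))
  have := Nat.mul_le_mul h7 (by omega : e ≤ f)
  nlinarith

theorem jobBad (kP : JobPR.{u}) : JobBad.{u, v} := by
  intro G Ω _ _ _ N q f H L hfq
  have := H.t2.finite
  have hZ : ∀ {c : Ω} {U V : Subgroup G}, BF (N c) U V q → U ≤ ZZ U := fun {c U V} hb =>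
    (eq_of_le_of_card_ge ZZ_le (by rw [hb.card, L.cU U ⟨c, hb.sylU⟩])).ge
  obtain ⟨a, -⟩ := H.t2.big
  obtain ⟨U, V, hb⟩ := H.bg a
  have hU : Ln N U := ⟨a, hb.sylU⟩
  have hq := hb.q4
  have hf2 := L.two
  have hf : f < q := lt_of_le_of_ne (Nat.le_of_dvd (by omega) L.dvd) hfq
  obtain ⟨z, hz, -, -, z1, -⟩ := hb.two
  obtain ⟨U', hU', hne, hz'⟩ := Set.nonempty_of_ncard_ne_zero
    (s := {U' | Ln N U' ∧ U' ≠ U ∧ z ∈ nor U'}) fun e => by
      have := L.par U hU z hz z1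
      rw [e, mul_zero, eq_comm, mul_eq_zero] at this
      omega
  have hzZ : z ∈ U ⊓ nor U' := ⟨ZZ_le hz, hz'⟩
  have h0 : U ⊓ nor U' ≠ ⊥ := fun e => z1 (mem_bot.1 (e ▸ hzZ))
  obtain ⟨-, hA0, hdvd, hcen⟩ := L.adj U U' hU hU' hne.symm h0
  obtain ⟨-, -, -, hcen'⟩ := L.adj U' U hU' hU hne hA0
  obtain ⟨a', hs'⟩ := id hU'
  obtain ⟨V', hb'⟩ := H.frame hs'
  have hUsq : ∀ y ∈ U, y * y = 1 := fun y hy => (hZ hb hy).2.1
  have hAsq : ∀ y ∈ U' ⊓ nor U, y * y = 1 := fun y hy => (hZ hb' hy.1).2.1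
  rcases kP G (N a) U V (N a') U' V' q hb hb' (by rw [L.cU U hU, L.cU U' hU']) h0 hA0 hcen hcen'
    with ⟨-, h1, h2⟩ | ⟨h1, -⟩ | ⟨-, -, h1, -⟩
  rotate_left
  · rw [inf_eq_left.2 h1, L.cU U hU] at hdvd
    exact absurd (Nat.le_of_dvd (by omega) hdvd) (by omega)
  · exact (h1 (hZ hb)).elim
  by_cases h3 : Nat.card ↥(U' ⊓ nor U) ≤ 2
  · obtain ⟨⟨x, hx⟩, x1⟩ := ne_bot_iff_exists_ne_one.1 hA0
    have h4 := card_le_sq (Z := U ⊓ nor U') hUsq hx.2 (hAsq x hx) inf_le_left fun y hy =>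
      (hcen x hx (fun e => x1 (Subtype.ext e)) y hy).trans ⟨fun h => ⟨hy, h⟩, fun h => h.2⟩
    rw [L.cU U hU, h2] at h4
    obtain rfl : q = 4 := le_antisymm (h4.trans (Nat.mul_le_mul h3 h3)) hq
    have := L.dvd
    refine ⟨rfl, ?_⟩
    interval_cases f <;> omega
  exfalso
  have ha : a ∈ Fx Ω U := (L.syl U hU a).1 hb.sylU
  obtain ⟨b, hbF, hba⟩ := Set.exists_ne_of_one_lt_ncard (s := Fx Ω U)
    (by rw [L.cF U hU]; omega) a
  set D := DD (N a) U V
  set K := fixingSubgroup G (Fx Ω U)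
  have hK : ∀ k ∈ K, ∀ c ∈ Fx Ω U, k • c = c := fun k hk => (mem_fixingSubgroup_iff G).1 hk
  have hKU : K ≤ nor U := fun k hk => L.nor2 U hU k a ha b hbF hba.symm
    (by rwa [hK k hk a ha]) (by rwa [hK k hk b hbF])
  have hrel : ∀ c ∈ Fx Ω U \ {a}, (stabilizer G c).relIndex D *
      Nat.card ↥(N a ⊓ stabilizer G b) = Nat.card ↥(N a ⊓ nor U) := by
    rintro c ⟨hc, hca⟩
    have hca' : a ≠ c := Ne.symm hca
    have e1 : stabilizer G c ⊓ (N a ⊓ nor U) = N a ⊓ stabilizer G c := le_antisymm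
      (fun g hg => ⟨hg.2.1, hg.1⟩) fun g hg => ⟨hg.2, hg.1, hb.le_nor inf_le_left
        (le_inf hb.sylU.le fun x hx => hc x hx) (fun e => H.not_le hca' (inf_eq_left.1 e)) hg⟩
    rw [← relIndex_mul_card (stabilizer G c) (N a ⊓ nor U), e1, H.card_A hba.symm hca',
      relIndex_stab, relIndex_stab]
    congr 2
    ext e
    refine ⟨fun ⟨g, hg, e⟩ => ⟨g, hg.1, e⟩, ?_⟩
    rintro ⟨g, hg, rfl⟩
    obtain ⟨x, hx, h4⟩ := hb.bor (le_normalizer hg.1) hg.2
    refine ⟨x⁻¹ * g, ⟨⟨(N a).mul_mem ((N a).inv_mem (hb.sylU.le hx)) hg.1,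
      (nor U).mul_mem ((nor U).inv_mem (le_normalizer hx)) hg.2⟩, h4⟩, ?_⟩
    rw [mul_smul, smul_mem_Fx hg.2 hc _ (inv_mem hx)]
  have hd : ∀ c ∈ Fx Ω U \ {a}, (stabilizer G c).relIndex D = (stabilizer G b).relIndex D :=
    fun c hc => Nat.eq_of_mul_eq_mul_right Nat.card_pos
      ((hrel c hc).trans (hrel b ⟨hbF, hba⟩).symm)
  have h4 := dvd_of_orbits D (Fx Ω U \ {a}) (fun g hg c hc => ⟨smul_mem_Fx hg.1.2 hc.1, fun e => hc.2
    (smul_left_cancel g (e.trans (H.le a hg.1.1).symm))⟩) hd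
  rw [Set.ncard_sdiff_singleton_of_mem ha, L.cF U hU] at h4
  have h5 := relIndex_mul_card (stabilizer G b) D
  have hD0 : stabilizer G b ⊓ D ≤ N a ⊓ K := fun g hg => ⟨hg.2.1.1,
    (mem_fixingSubgroup_iff G).2 fun c hc => by
      by_cases hca : c = a
      · rw [hca]
        exact H.le a hg.2.1.1
      · have e1 := relIndex_mul_card (stabilizer G c) D
        rw [hd c ⟨hc, hca⟩, ← h5] at e1
        have e2 := H18.eq_of_isCyclic_of_card_eq hb.cyc inf_le_right inf_le_right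
          (Nat.eq_of_mul_eq_mul_left (Nat.pos_of_ne_zero fun e => by
            rw [e, zero_mul] at h5
            exact Nat.card_pos.ne h5) e1)
        exact (e2 ▸ hg : g ∈ stabilizer G c ⊓ D).1⟩
  have hkeep : ∀ d ∈ N a ⊓ K, d * z * d⁻¹ ∈ nor U' := fun d hd =>
    keep (A := U' ⊓ nor U) (K := K) inf_le_right hKU (fun x hx => nor_fixing hx.2) hAsq
      (by omega) hcen h1 inf_le_right
      (le_normalizer_inf (fun k hk => H.nor_N (hK k hk a ha)) le_normalizer) (by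
        have e1 : U ≤ N a ⊓ K := le_inf hb.sylU.le fun x hx =>
          (mem_fixingSubgroup_iff G).2 fun c hc => hc x hx
        refine Odd.of_dvd_nat ?_ (relIndex_dvd_of_le_left (H := U) _
          fun x hx y hy => (hZ hb hx).2.2 y hy)
        rw [← Nat.not_even_iff_odd, even_iff_two_dvd]
        exact (hb.sylU.of_le e1 inf_le_left).not_dvd_relIndex) hd (ZZ_le hz) hz'
  have h6 : Nat.card ↥(stabilizer G b ⊓ D) < Nat.card ↥(U ⊓ nor U') := by
    have := Fintype.ofFinite ↥(stabilizer G b ⊓ D)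
    have := Fintype.ofFinite ↥(U ⊓ nor U')
    rw [Nat.card_eq_fintype_card, Nat.card_eq_fintype_card]
    refine Fintype.card_lt_of_injective_of_notMem
      (fun d : ↥(stabilizer G b ⊓ D) => (⟨d * z * (d : G)⁻¹,
        conj_mem_of_mem_normalizer d.2.2.1.2 (ZZ_le hz), hkeep d (hD0 d.2)⟩ : ↥(U ⊓ nor U')))
      (fun d e hde => ?_) (b := 1) ?_
    · have e1 : (d : G) * z * (d : G)⁻¹ = e * z * (e : G)⁻¹ := congrArg Subtype.val hde
      have := hb.DD_free (hZ hb) (mul_mem (inv_mem e.2.2) d.2.2) (ZZ_le hz) z1 (by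
        calc (e : G)⁻¹ * d * z = (e : G)⁻¹ * (d * z * (d : G)⁻¹) * d := by group
          _ = _ := by rw [e1]; group)
      exact Subtype.ext (inv_mul_eq_one.1 this).symm
    · rintro ⟨d, hd⟩
      exact z1 (by simpa using congrArg Subtype.val hd)
  rw [hb.card_DD (hZ hb)] at h5
  exact arith L.dvd hf2 hf h4 h5 (h6.trans_le (Nat.le_of_dvd (by omega) hdvd))

end H1.HRB
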