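import Cfsg.Agent.H82.HRKit
import Cfsg.Agent.H98.Core

/-! HR tower, jobs LU and LZ: lines. -/

set_option autoImplicit false

namespace H1.HRL

open MulAction Cfsg Subgroup H89.K H98 H82.HR

universe u v

variable {G : Type u} {Ω : Type v} [Group G] [MulAction G Ω] {N : Ω → Subgroup G} {q : ℕ}
  {ω : Subgroup G → Subgroup G} {a b c d e : Ω} {U U' : Subgroup G} {g x : G}

/-- `ω = id` or `ω = ZZ`. -/
structure Om (ω : Subgroup G → Subgroup G) : Prop where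
  le : ∀ U, ω U ≤ U
  ge : ∀ U, ZZ U ≤ ω U
  cj : ∀ g U, cj g (ω U) = ω (cj g U)
  alt : (∀ U, ω U = U) ∨ ∀ U, ∀ x ∈ ω U, x * x = 1

theorem om_id : Om (fun U : Subgroup G => U) :=
  ⟨fun _ => le_rfl, fun _ => ZZ_le, fun _ _ => rfl, Or.inl fun _ => rfl⟩

theorem om_ZZ : Om (ZZ : Subgroup G → Subgroup G) :=
  ⟨fun _ => ZZ_le, fun _ => le_rfl, fun g _ => cj_ZZ g, Or.inr fun _ _ hx => hx.2.1⟩

/-- `U` is the Sylow subgroup attached to the pair `c`, `d`. -/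
def Rl (N : Ω → Subgroup G) (ω : Subgroup G → Subgroup G) (c d : Ω) (U : Subgroup G) : Prop :=
  IsSyl 2 U (N c) ∧ ω U ≤ stabilizer G d ∧ N c ⊓ stabilizer G d ≤ nor U

theorem smul_mem_Fx (hg : g ∈ nor U) (hc : c ∈ Fx Ω U) : g • c ∈ Fx Ω U := fun x hx => by
  have := hc _ (conj_mem_of_mem_normalizer' hg hx)
  rwa [mul_smul, mul_smul, inv_smul_eq_iff] at this

theorem nor_fixing (hg : g ∈ nor U) : g ∈ nor (fixingSubgroup G (Fx Ω U)) := by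
  have key : ∀ g ∈ nor U, ∀ k ∈ fixingSubgroup G (Fx Ω U), g * k * g⁻¹ ∈ fixingSubgroup G (Fx Ω U) :=
    fun g hg k hk => (mem_fixingSubgroup_iff G).2 fun c hc => by
      rw [mul_smul, mul_smul, (mem_fixingSubgroup_iff G).1 hk _ (smul_mem_Fx (inv_mem hg) hc),
        smul_inv_smul]
  exact mem_normalizer_iff.2 fun k => ⟨key g hg k, fun hk => by
    simpa [mul_assoc] using key _ (inv_mem hg) _ hk⟩

structure Set0 (N : Ω → Subgroup G) (q : ℕ) (ω : Subgroup G → Subgroup G) : Prop where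
  H : Hy N q
  om : Om ω
  ex : ∀ c d : Ω, c ≠ d → ∃ U, Rl N ω c d U

namespace Set0

variable [Finite G] (h : Set0 N q ω)
include h

theorem key (hU : IsSyl 2 U (N c)) (hx : x ∈ U) (h1 : x ≠ 1) (he : x • e = e)
    (h2 : Rl N ω c e U') : U' = U :=
  let ⟨_, hb⟩ := h.H.frame hU
  hb.eq_of_mem h2.1 hx h1 (h2.2.2 ⟨hU.le hx, he⟩)

theorem exz (hU : IsSyl 2 U (N c)) : ∃ z ∈ ZZ U, z ≠ 1 :=
  let ⟨_, hb⟩ := h.H.frame hU
  let ⟨z, hz, _, _, h1, _⟩ := hb.two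
  ⟨z, hz, h1⟩

theorem of_fix (hU : IsSyl 2 U (N c)) (hx : x ∈ U) (h1 : x ≠ 1) (he : x • e = e) (hce : c ≠ e) :
    Rl N ω c e U :=
  let ⟨_, h2⟩ := h.ex c e hce
  h.key hU hx h1 he h2 ▸ h2

theorem of_mem (hU : IsSyl 2 U (N c)) (he : e ∈ Fx Ω (ω U)) (hce : c ≠ e) : Rl N ω c e U :=
  let ⟨z, hz, h1⟩ := h.exz hU
  h.of_fix hU (ZZ_le hz) h1 (he z (h.om.ge U hz)) hce

theorem uniq (h1 : Rl N ω c d U) (h2 : Rl N ω c d U') : U' = U :=
  let ⟨_, hz, h3⟩ := h.exz h1.1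
  h.key h1.1 (ZZ_le hz) h3 (h1.2.1 (h.om.ge U hz)) h2

omit [Finite G] in
theorem conj (h1 : Rl N ω c d U) (g : G) : Rl N ω (g • c) (g • d) (cj g U) := by
  refine ⟨h.H.equi g c ▸ h1.1.cj g, fun x hx => ?_, ?_⟩
  · rw [← h.om.cj, mem_cj] at hx
    have : (g⁻¹ * x * g) • d = d := h1.2.1 hx
    rwa [mul_smul, mul_smul, inv_smul_eq_iff] at this
  · rw [← h.H.cj_A]
    exact (cj_mono g h1.2.2).trans (cj_normalizer g U).le

theorem mem_nor (h1 : Rl N ω c d U) (hc : g • c = c) (hd : g • d = d) : g ∈ nor U := by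
  have := h.conj h1 g
  rw [hc, hd] at this
  exact cj_eq_self_iff.1 (h.uniq h1 this)

omit [Finite G] in
theorem self_mem (hU : IsSyl 2 U (N c)) : c ∈ Fx Ω (ω U) := fun _ hx =>
  h.H.le c (hU.le (h.om.le U hx))

omit [Finite G] in
theorem nor_om (hg : g ∈ nor U) : g ∈ nor (ω U) :=
  cj_eq_self_iff.1 (by rw [h.om.cj, cj_eq_self hg])

theorem w1 (hU : IsSyl 2 U (N a)) (hg : g ∈ cen (N a)) (hf : ∀ c ∈ Fx Ω (ω U), g • c = c) :
    g = 1 := by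
  refine h.H.t2.faith g fun e => ?_
  by_cases hae : a = e
  · exact hf e (hae ▸ h.self_mem hU)
  · obtain ⟨U₁, h1⟩ := h.ex a e hae
    obtain ⟨k, hk, rfl⟩ := h1.1.exists_cj_eq hU
    have := hf _ fun x hx => (h.conj h1 k).2.1 hx
    rwa [← mul_smul, ← hg k hk, mul_smul, smul_left_cancel_iff] at this

theorem inv_mem (h1 : Rl N ω c d U) (hx : x ∈ N c) (hd : x • d = d) (h2 : x * x = 1) :
    x ∈ ZZ U := by
  obtain ⟨V, hb⟩ := h.H.frame h1.1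
  refine hb.cent x (h1.1.le_of_le_normalizer' (isPGroup_zpowers (k := 1) (by
    rw [pow_one, sq, h2])) (zpowers_le.2 hx) (zpowers_le.2 (h1.2.2 ⟨hx, hd⟩)) (mem_zpowers x)) h2

theorem lines (kA : JobKA.{u}) (h1 : Rl N ω a b U) (h2 : Rl N ω b a U') (hx : x ∈ ω U)
    (hx' : x ∈ ω U') (h3 : x ≠ 1) : ω U' ≤ ω U := by
  obtain ⟨V, hb⟩ := h.H.frame h1.1
  set K := fixingSubgroup G (Fx Ω (ω U))
  have hK : ∀ k ∈ K, k • a = a ∧ k • b = b := fun k hk =>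
    ⟨(mem_fixingSubgroup_iff G).1 hk a (h.self_mem h1.1),
      (mem_fixingSubgroup_iff G).1 hk b fun y hy => h1.2.1 hy⟩
  have hP : ω U' ≤ K := fun y hy => (mem_fixingSubgroup_iff G).2 fun e he => by
    by_cases hbe : b = e
    · exact hbe ▸ h.self_mem h2.1 y hy
    · exact (h.of_fix h2.1 (h.om.le _ hx') h3 (he x hx) hbe).2.1 hy
  have hR : ω U' ≤ pCoreOf 2 K := le_pCoreOf (h2.1.isPGroup.to_le (h.om.le _)) hP fun k hk =>
    h.nor_om (h.mem_nor h2 (hK k hk).2 (hK k hk).1)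
  intro r hr
  obtain ⟨y, hy, hw⟩ := (kA G (N a) U V q hb).2 (pCoreOf 2 K) (isPGroup_pCoreOf K)
    (fun k hk => h.H.nor_N (hK k (pCoreOf_le K hk)).1)
    (fun k hk => h.mem_nor h1 (hK k (pCoreOf_le K hk)).1 (hK k (pCoreOf_le K hk)).2)
    (le_normalizer_pCoreOf fun k hk => nor_fixing (h.nor_om hk.1.2)) r (hR hr)
  have hy' : y ∈ ω U := by
    rcases h.om.alt with e | e
    · rwa [e]
    · refine h.om.ge U (hb.cent y hy ?_)
      have hyN := h1.1.le hy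
      have e1 : y * y * (y⁻¹ * r * (y⁻¹ * r)) = 1 := by
        calc y * y * (y⁻¹ * r * (y⁻¹ * r)) = y * (y * (y⁻¹ * r)) * (y⁻¹ * r) := by group
          _ = r * r := by rw [hw y hyN]; group
          _ = 1 := e _ r hr
      have e2 : y * y ∈ N a ⊓ cen (N a) := ⟨mul_mem hyN hyN, by
        rw [eq_inv_of_mul_eq_one_left e1]
        exact Subgroup.inv_mem _ (mul_mem hw hw)⟩
      rwa [hb.inf_cen, mem_bot] at e2
  have e3 := h.w1 h1.1 hw fun c hc => by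
    rw [mul_smul, (mem_fixingSubgroup_iff G).1 (hP hr) c hc, inv_smul_eq_iff, hc y hy']
  rwa [← inv_mul_eq_one.1 e3]

theorem lines' (kA : JobKA.{u}) (hI : Even (Nat.card ↥(N a ⊓ N b))) (h1 : Rl N ω a b U)
    (h2 : Rl N ω b a U') : ω U' = ω U := by
  obtain ⟨⟨x, hx⟩, h3⟩ := exists_prime_orderOf_dvd_card' 2 hI.two_dvd
  rw [orderOf_mk] at h3
  have h4 := H82.TP.sq_of_ord h3
  have h5 := h.om.ge _ (h.inv_mem h1 hx.1 (h.H.le b hx.2) h4)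
  have h6 := h.om.ge _ (h.inv_mem h2 hx.2 (h.H.le a hx.1) h4)
  exact le_antisymm (h.lines kA h1 h2 h5 h6 (H82.TP.ne_of_ord h3))
    (h.lines kA h2 h1 h6 h5 (H82.TP.ne_of_ord h3))

end Set0

theorem jobLZ (kA : JobKA.{u}) : JobLZ.{u, v} := by
  intro G Ω _ _ _ N q H hZ hI c d z hz z2 hc
  have h : Set0 N q ZZ := ⟨H, om_ZZ, hZ⟩
  by_cases hcd : c = d
  · rwa [hcd]
  · obtain ⟨U, h1⟩ := h.ex c d hcd
    obtain ⟨U', h2⟩ := h.ex d c (Ne.symm hcd)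
    exact h1.1.le (ZZ_le (h.lines' kA (hI c d hcd) h1 h2 ▸ h.inv_mem h2 hz hc z2))

section Odd

variable [Finite G] (kA : JobKA.{u}) (h : Set0 N q fun U => U)
  (hI : ∀ c d : Ω, c ≠ d → Odd (Nat.card ↥(N c ⊓ N d)))
include h hI

omit h [Finite G] [MulAction G Ω] in
theorem odd_eq_one (hcd : c ≠ d) (h1 : x ∈ N c) (h2 : x ∈ N d) {k : ℕ} (h3 : x ^ 2 ^ k = 1) :
    x = 1 :=
  orderOf_eq_one_iff.1 (Nat.eq_one_of_dvd_coprimes (Nat.Coprime.pow_left k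
    (Nat.coprime_two_left.2 (hI c d hcd))) (orderOf_dvd_of_pow_eq_one h3)
    (orderOf_dvd_natCard (N c ⊓ N d) ⟨h1, h2⟩))

include kA

theorem lemA (hab : a ≠ b) (h1 : Rl N (fun U => U) a b U) (h2 : Rl N (fun U => U) b a U')
    (hg : g ∈ ZZ U) (g1 : g ≠ 1) : ∃ y ∈ U', y ≠ 1 ∧ y⁻¹ * g ∈ cen (N b) := by
  obtain ⟨V, hb⟩ := h.H.frame h2.1
  have hgU := ZZ_le hg
  have hga : g • a = a := h.H.le a (h1.1.le hgU)
  have hgb : g • b = b := h1.2.1 hgU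
  have hn := h.mem_nor h2 hgb hga
  have hc : ∀ y ∈ U', g * y * g⁻¹ * y⁻¹ = 1 := fun y hy => by
    have e1 : g * y * g⁻¹ * y⁻¹ ∈ U' := mul_mem (conj_mem_of_mem_normalizer hn hy) (inv_mem hy)
    have e2 : g * (y * g⁻¹ * y⁻¹) ∈ U := mul_mem hgU (conj_mem_of_mem_normalizer
      (h.mem_nor h1 (h2.2.1 hy) (h.H.le b (h2.1.le hy))) (inv_mem hgU))
    obtain ⟨k, hk⟩ := isPGroup_iff_forall.1 h2.1.isPGroup _ e1
    exact odd_eq_one hI hab (h1.1.le (by simpa [mul_assoc] using e2)) (h2.1.le e1) hk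
  obtain ⟨y, hy, hw⟩ := (kA G (N b) U' V q hb).1 g (h.H.nor_N hgb) hn (fun z hz => by
    have := hc z (ZZ_le hz)
    rw [mul_inv_eq_one, mul_inv_eq_iff_eq_mul] at this
    exact this.symm) fun y hy => by
      rw [hc y hy]
      exact one_mem _
  refine ⟨y, hy, ?_, hw⟩
  rintro rfl
  rw [inv_one, one_mul] at hw
  refine h.H.not_le hab.symm fun x hx => by_contra fun hxa => g1 ?_
  have e1 := h.H.conj_mem x (h1.1.le hgU)
  rw [hw x hx, mul_inv_cancel_right] at e1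
  exact odd_eq_one hI (Ne.symm hxa) (h1.1.le hgU) e1 (k := 1) (by rw [pow_one, sq, hg.2.1])

theorem lemB (hab : a ≠ b) (h1 : Rl N (fun U => U) a b U) (h2 : Rl N (fun U => U) b a U') :
    Fx Ω U ⊆ Fx Ω U' := by
  obtain ⟨g, hg, g1⟩ := h.exz h1.1
  obtain ⟨y, hy, y1, hw⟩ := lemA kA h hI hab h1 h2 hg g1
  obtain ⟨V, hb⟩ := h.H.frame h2.1
  intro c hc
  by_cases hbc : b = c
  · exact hbc ▸ h.self_mem h2.1
  · obtain ⟨W, h3⟩ := h.ex b c hbc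
    have e1 := h.mem_nor h3 (h1.2.1 (ZZ_le hg)) (hc g (ZZ_le hg))
    have e2 : y⁻¹ * g ∈ nor W := centralizer_le_normalizer _ (centralizer_anti h3.1.le hw)
    have e3 := hb.eq_of_mem h3.1 hy y1 (by simpa using mul_mem e1 (inv_mem e2))
    exact fun x hx => h3.2.1 (e3 ▸ hx)

theorem not_odd : False := by
  obtain ⟨a, b, -, hab, -⟩ := h.H.t2.big
  obtain ⟨U, h1⟩ := h.ex a b hab
  obtain ⟨U', h2⟩ := h.ex b a hab.symm
  obtain ⟨g, hg, g1⟩ := h.exz h1.1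
  obtain ⟨y, hy, y1, hw⟩ := lemA kA h hI hab h1 h2 hg g1
  have e := h.w1 h2.1 hw fun c hc => by
    rw [mul_smul, lemB kA h hI hab.symm h2 h1 hc g (ZZ_le hg), inv_smul_eq_iff, hc y hy]
  rw [inv_mul_eq_one] at e
  exact g1 (odd_eq_one hI hab (h1.1.le (ZZ_le hg)) (h2.1.le (e ▸ hy)) (k := 1)
    (by rw [pow_one, sq, hg.2.1]))

end Odd

theorem jobLU (kA : JobKA.{u}) : JobLU.{u, v} := by
  intro G Ω _ _ _ N q H hS c d hcd
  have h : Set0 N q fun U => U := ⟨H, om_id, fun c d hcd => by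
    obtain ⟨U, h1, h2⟩ := hS c d hcd
    obtain ⟨V, hb⟩ := H.frame h1
    exact ⟨U, h1, h2, hb.le_nor inf_le_left (le_inf h1.le h2) fun e =>
      H.not_le hcd (inf_eq_left.1 e)⟩⟩
  obtain ⟨U, h1⟩ := h.ex c d hcd
  obtain ⟨U', h2⟩ := h.ex d c hcd.symm
  by_cases hI : Even (Nat.card ↥(N c ⊓ N d))
  · have e : U' = U := h.lines' kA hI h1 h2
    exact ⟨U, h1.1, e ▸ h2.1⟩
  · exact (not_odd kA h fun a b hab => by
      rw [H.card_I hcd hab]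
      exact Nat.not_even_iff_odd.1 hI).elim

end H1.HRL
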