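import Cfsg.Agent.H63.KgvSpec

/-! Values of `gam` for an induced character (job JVL of the KGV tower). -/

set_option autoImplicit false

namespace H1.KgvVL

open Finset Cfsg H63.Kgv

universe u

theorem indep {α : Type} [Fintype α] (v : α → ℂ) (hv : Function.Injective v) (c : α → ℂ)
    (h : ∀ k : ℕ, ∑ u, c u * v u ^ k = 0) : ∀ u, c u = 0 := by
  have hi : Function.Injective fun u => powersHom ℂ (v u) := fun a b e => hv ((powersHom ℂ).injective e)
  have li := (linearIndependent_monoidHom (Multiplicative ℕ) ℂ).comp _ hi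
  refine Fintype.linearIndependent_iff.1 li c ?_
  funext k
  have := h (Multiplicative.toAdd k)
  simpa [Finset.sum_apply] using this

theorem orb {α : Type} [Fintype α] (s : Equiv.Perm α) (F G : α → ℂ) (hF : ∀ u, F (s u) = F u)
    (hG : ∀ u, G (s u) = G u)
    (h : ∀ u, F u ^ Function.minimalPeriod s u = G u ^ Function.minimalPeriod s u) :
    ∏ u, F u = ∏ u, G u := by
  classical
  have key : ∀ F : α → ℂ, (∀ u, F (s u) = F u) → ∀ u,
      ∏ w ∈ univ.filter (fun w => (Quotient.mk (MulAction.orbitRel (Subgroup.zpowers s) α) w) =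
        Quotient.mk _ u), F w = F u ^ Function.minimalPeriod s u := by
    intro F hF u
    have hn : ∀ (n : ℕ) w, F ((s ^ n) w) = F w := by
      intro n
      induction n with
      | zero => simp
      | succ n ih => intro w; rw [pow_succ', Equiv.Perm.mul_apply, hF, ih]
    have hm : ∀ w, w ∈ univ.filter (fun w => (Quotient.mk (MulAction.orbitRel (Subgroup.zpowers s) α) w) =
        Quotient.mk _ u) ↔ w ∈ MulAction.orbit (Subgroup.zpowers s) u := by
      intro w
      simp only [mem_filter, mem_univ, true_and, Quotient.eq]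
      exact MulAction.orbitRel_apply
    rw [Finset.prod_congr rfl (g := fun _ => F u), prod_const]
    · congr 1
      have := MulAction.minimalPeriod_eq_card (a := s) (b := u)
      have e : Function.minimalPeriod s u = Function.minimalPeriod (s • ·) u := rfl
      rw [e, this, Fintype.card_of_subtype _ hm]
    · intro w hw
      obtain ⟨⟨g, hg⟩, rfl⟩ := (hm w).1 hw
      obtain ⟨n, rfl⟩ := (mem_powers_iff_mem_zpowers.2 hg)
      exact hn n u
  rw [← Finset.prod_fiberwise univ (fun w => (Quotient.mk (MulAction.orbitRel (Subgroup.zpowers s) α) w)) F,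
    ← Finset.prod_fiberwise univ (fun w => (Quotient.mk (MulAction.orbitRel (Subgroup.zpowers s) α) w)) G]
  refine Finset.prod_congr rfl fun q _ => ?_
  induction q using Quotient.inductionOn with
  | h u => rw [key F hF, key G hG, h]

theorem fib {K : Type} [Field K] [Fintype Kˣ] [DecidableEq Kˣ] {r : ℕ} (hr : 0 < r) {ω : Kˣ}
    (hω : orderOf ω = r) (w₀ : Kˣ) :
    univ.filter (fun w : Kˣ => w ^ r = w₀ ^ r) = (range r).image (fun i => w₀ * ω ^ i) ∧
      Set.InjOn (fun i => w₀ * ω ^ i) (range r : Finset ℕ) := by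
  have hp : IsPrimitiveRoot ω r := hω ▸ IsPrimitiveRoot.orderOf ω
  have hp' : IsPrimitiveRoot (ω : K) r := IsPrimitiveRoot.coe_units_iff.2 hp
  have : NeZero r := ⟨hr.ne'⟩
  refine ⟨?_, fun i hi j hj e => ?_⟩
  · ext w
    simp only [mem_filter, mem_univ, true_and, mem_image, mem_range]
    constructor
    · intro h
      have h1 : ((w₀⁻¹ * w : Kˣ) : K) ^ r = 1 := by
        rw [← Units.val_pow_eq_pow_val, mul_pow, h, inv_pow, inv_mul_cancel, Units.val_one]
      obtain ⟨i, hi, e⟩ := hp'.eq_pow_of_pow_eq_one h1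
      refine ⟨i, hi, ?_⟩
      have : ω ^ i = w₀⁻¹ * w := Units.ext (by rw [Units.val_pow_eq_pow_val, e])
      rw [this, mul_inv_cancel_left]
    · rintro ⟨i, -, rfl⟩
      rw [mul_pow, ← pow_mul, mul_comm i r, pow_mul, hp.pow_eq_one, one_pow, mul_one]
  · exact hp.pow_inj (by simpa using hi) (by simpa using hj) (mul_left_cancel e)

theorem root {K : Type} [Field K] [Fintype K] {r N : ℕ} (hc : Fintype.card K - 1 = r * N) (u : Kˣ)
    (hu : u ^ N = 1) : ∃ w : Kˣ, w ^ r = u := by
  classical
  obtain ⟨g, hg⟩ := IsCyclic.exists_generator (α := Kˣ)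
  have ho : orderOf g = r * N := by
    rw [orderOf_eq_card_of_forall_mem_zpowers hg, Nat.card_eq_fintype_card, Fintype.card_units, hc]
  have hN : 0 < N := by
    have := orderOf_pos g
    rw [ho] at this
    exact Nat.pos_of_mul_pos_left this
  obtain ⟨a, rfl⟩ := mem_powers_iff_mem_zpowers.2 (hg u)
  simp only at hu ⊢
  rw [← pow_mul, ← orderOf_dvd_iff_pow_eq_one, ho] at hu
  obtain ⟨b, rfl⟩ := Nat.dvd_of_mul_dvd_mul_right hN hu
  exact ⟨g ^ b, by rw [← pow_mul, mul_comm]⟩

theorem grp {E : Type u} [Group E] [Finite E] (H : Subgroup E) [H.Normal] {r : ℕ} (hr : r.Prime)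
    (hi : H.index = r) {y : E} (hy : y ∉ H) :
    (∀ k : ℕ, y ^ k ∈ H → r ∣ k) ∧ ∀ g : E, ∃ (v : H) (i : ℤ), g = v * y ^ i := by
  have := Fact.mk hr
  have hc : Nat.card (E ⧸ H) = r := hi
  have h1 : (y : E ⧸ H) ≠ 1 := fun e => hy ((QuotientGroup.eq_one_iff y).1 e)
  refine ⟨fun k hk => ?_, fun g => ?_⟩
  · have ho : orderOf (y : E ⧸ H) = r := orderOf_eq_prime (by rw [← hc]; exact pow_card_eq_one') h1
    rw [← ho, orderOf_dvd_iff_pow_eq_one, ← QuotientGroup.mk_pow]
    exact (QuotientGroup.eq_one_iff _).2 hk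
  · obtain ⟨i, hi⟩ := mem_zpowers_of_prime_card hc h1 (g' := (g : E ⧸ H))
    have : g * (y ^ i)⁻¹ ∈ H := by
      rw [← QuotientGroup.eq_one_iff, QuotientGroup.mk_mul, QuotientGroup.mk_inv, QuotientGroup.mk_zpow]
      simp only at hi
      rw [hi, mul_inv_cancel]
    exact ⟨⟨_, this⟩, i, by simp⟩

theorem job : JVL.{u} := by
  classical
  intro eg p _ M K _ _ θ a Hf hs E _ _ hE H _ r d x χ φ ω hid hd hr hω hst
  have hp : p.Prime := Fact.out
  have hr0 : 0 < r := hid.pr.pos
  have hθ : Function.Injective fun w : Kˣ => (θ w : ℂ) := fun a b e => hs.inj (Units.ext e)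
  have hq : ∀ y : E, y ^ (Fintype.card K - 1) = 1 := fun y => by
    rw [hs.card]; obtain ⟨c, hc⟩ := hE; rw [hc, pow_mul, pow_card_eq_one', one_pow]
  have hφ : ∀ h : H, Eg θ φ h (em θ φ h) := fun h =>
    (eg K θ H hs.inj).2 φ h hid.ch (Subtype.ext (by simpa using hq h))
  have hu := (eg K θ E hs.inj).1 χ
  obtain ⟨n, ρ, hρ⟩ := hid.ch
  have hn : φ 1 = n := by rw [← hρ]; simp
  have hcl : ∀ v h : H, φ (v * h * v⁻¹) = φ h := fun v h => by rw [← hρ]; exact ρ.char_conj h v
  refine ⟨n, hn, fun t ht => ⟨fun h => ?_, fun y h hy hh => ?_⟩⟩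
  · have : Eg θ χ (h : E) (fun w => ∑ j ∈ range r, em θ φ (MulAut.conjNormal (x ^ j) h) w) := by
      intro k
      rw [← Subgroup.coe_pow, hid.on]
      simp only [map_pow (MulAut.conjNormal _), Nat.cast_sum, Finset.sum_mul]
      rw [Finset.sum_comm]
      exact Finset.sum_congr rfl fun j _ => hφ _ k
    unfold gam
    rw [hu _ _ this, Finset.prod_comm]
    refine Finset.prod_congr rfl fun w _ => ?_
    rw [Finset.mul_sum, Finset.prod_pow_eq_pow_sum]
  · obtain ⟨g1, g2⟩ := grp H hid.pr hid.idx hy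
    set m := em θ φ h with hm
    have hmE : ∀ k : ℕ, φ (h ^ k) = ∑ w : Kˣ, (m w : ℂ) * (θ w : ℂ) ^ k := hφ h
    have hrC : (r : ℂ) ≠ 0 := Nat.cast_ne_zero.2 hr0.ne'
    have hon : ∀ k : ℕ, χ (y ^ (r * k)) = r * φ (h ^ k) := by
      intro k
      rw [pow_mul, ← hh, ← Subgroup.coe_pow, hid.on, Finset.sum_congr rfl (g := fun _ => φ (h ^ k))]
      · simp
      · intro j _
        obtain ⟨v, i, e⟩ := g2 (x ^ j)
        rw [← hcl v (h ^ k)]
        congr 1
        apply Subtype.ext
        have hc : Commute (y ^ i) ((y ^ r) ^ k) := by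
          rw [← pow_mul]; exact ((Commute.refl y).pow_right _).zpow_left _
        simp only [MulAut.conjNormal_apply, e, Subgroup.coe_mul, Subgroup.coe_pow, Subgroup.coe_inv, hh]
        rw [mul_assoc (v : E), hc.eq]
        group
    have hM : Fintype.card K - 1 = p ^ M - 1 := by rw [hs.card]
    obtain ⟨N, hN⟩ : r ∣ Fintype.card K - 1 := by
      rw [hM]; exact hr.trans (Nat.pow_sub_one_dvd_pow_sub_one p hd)
    -- every eigenvalue of `h` is an `r`-th power
    have hrt : ∀ u, m u ≠ 0 → ∃ w : Kˣ, w ^ r = u := by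
      intro u hu0
      refine root hN u ?_
      have hN1 : h ^ N = 1 := Subtype.ext (by
        rw [Subgroup.coe_pow, hh, ← pow_mul, ← hN, hq, Subgroup.coe_one])
      have := indep _ hθ (fun w => (m w : ℂ) * ((θ w : ℂ) ^ N - 1)) (fun k => by
        have e1 := hmE (N + k)
        rw [pow_add, hN1, one_mul, hmE k] at e1
        rw [← sub_eq_zero, ← Finset.sum_sub_distrib] at e1
        rw [← neg_eq_zero, ← Finset.sum_neg_distrib, ← e1]
        exact Finset.sum_congr rfl fun w _ => by ring) u
      have h2 := (mul_eq_zero.1 this).resolve_left (Nat.cast_ne_zero.2 hu0)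
      apply hθ
      simp only [map_pow, Units.val_pow_eq_pow_val, map_one, Units.val_one]
      exact sub_eq_zero.1 h2
    have hωr : ω ^ r = 1 := hω ▸ pow_orderOf_eq_one ω
    have hEg : Eg θ χ y (fun w => m (w ^ r)) := by
      intro k
      by_cases hk : r ∣ k
      · obtain ⟨k, rfl⟩ := hk
        rw [hon, hmE, Finset.mul_sum]
        refine Eq.trans ?_ (Finset.sum_fiberwise univ (fun w : Kˣ => w ^ r) _)
        refine Finset.sum_congr rfl fun u _ => ?_
        rw [Finset.sum_congr rfl (g := fun _ => (m u : ℂ) * (θ u : ℂ) ^ k), sum_const, nsmul_eq_mul]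
        · by_cases h0 : m u = 0
          · simp [h0]
          · obtain ⟨w, rfl⟩ := hrt u h0
            obtain ⟨f1, f2⟩ := fib hr0 hω w
            rw [f1, card_image_of_injOn f2, card_range]
        · intro w hw
          have e : w ^ r = u := (mem_filter.1 hw).2
          rw [← e, pow_mul]
          simp
      · rw [hid.off _ fun e => hk (g1 k e)]
        have e1 : ∑ w : Kˣ, (m (w ^ r) : ℂ) * (θ w : ℂ) ^ k =
            (θ ω : ℂ) ^ k * ∑ w : Kˣ, (m (w ^ r) : ℂ) * (θ w : ℂ) ^ k := by
          rw [Finset.mul_sum, ← Equiv.sum_comp (Equiv.mulLeft ω)]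
          refine Finset.sum_congr rfl fun w _ => ?_
          simp only [Equiv.coe_mulLeft, mul_pow, hωr, one_mul, map_mul, Units.val_mul]
          ring
        have e2 : (θ ω : ℂ) ^ k ≠ 1 := fun e => hk (by
          rw [← hω, orderOf_dvd_iff_pow_eq_one]
          apply hθ
          simpa using e)
        have e3 : ((θ ω : ℂ) ^ k - 1) * ∑ w : Kˣ, (m (w ^ r) : ℂ) * (θ w : ℂ) ^ k = 0 := by
          rw [sub_mul, ← e1, one_mul, sub_self]
        exact ((mul_eq_zero.1 e3).resolve_left (sub_ne_zero.2 e2)).symm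
    -- the Frobenius permutation
    have hKq : ∀ w : Kˣ, w ^ p ^ M = w := fun w => Units.ext (by
      rw [Units.val_pow_eq_pow_val, ← hs.card, FiniteField.pow_card])
    obtain ⟨e0, he0⟩ := hd
    have he0p : 0 < e0 := Nat.pos_of_ne_zero fun e => by
      have := hs.pos; rw [he0, e] at this; simp at this
    have hit : ∀ (k : ℕ) (w : Kˣ), (fun w : Kˣ => w ^ p ^ d)^[k] w = w ^ p ^ (d * k) := by
      intro k w
      induction k with
      | zero => simp
      | succ k ih => rw [Function.iterate_succ_apply', ih, ← pow_mul, ← pow_add, mul_add, mul_one]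
    have hinj : Function.Injective fun w : Kˣ => w ^ p ^ d := by
      intro a b e
      obtain ⟨k, rfl⟩ : ∃ k, e0 = k + 1 := ⟨e0 - 1, by omega⟩
      rw [← hKq a, ← hKq b, he0, ← hit, ← hit, Function.iterate_succ_apply, Function.iterate_succ_apply]
      simp only at e
      rw [e]
    let s : Equiv.Perm Kˣ := Equiv.ofBijective _ (Finite.injective_iff_bijective.1 hinj)
    have hs' : ∀ w, s w = w ^ p ^ d := fun _ => rfl
    have hfr : ∀ (t : ZMod p), t ≠ 0 → ∀ w, Hf t (s w) = Hf t w := by
      intro t ht w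
      rw [hs']
      induction d with
      | zero => simp
      | succ k _ =>
        have : ∀ j : ℕ, Hf t (w ^ p ^ j) = Hf t w := by
          intro j
          induction j with
          | zero => simp
          | succ j ih => rw [pow_succ, pow_mul, hs.frob t _ ht, ih]
        exact this _
    have hms : ∀ u, m (s u) = m u := by
      intro u
      have := indep (fun w => (θ (s w) : ℂ)) (hθ.comp s.injective) (fun w => (m (s w) : ℂ) - m w)
        (fun k => by
          have e1 := hst (y ^ (r * k))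
          rw [← pow_mul, mul_assoc, hon, hon, mul_right_inj' hrC, hmE, hmE,
            ← Equiv.sum_comp s (fun w => (m w : ℂ) * (θ w : ℂ) ^ k), ← sub_eq_zero,
            ← Finset.sum_sub_distrib] at e1
          rw [← neg_eq_zero, ← Finset.sum_neg_distrib, ← e1]
          refine Finset.sum_congr rfl fun w _ => ?_
          rw [hs' w, map_pow, Units.val_pow_eq_pow_val, ← pow_mul, mul_comm k]
          ring) u
      exact_mod_cast sub_eq_zero.1 this
    have hrt0 : (r : ZMod p) * t ≠ 0 := by
      refine mul_ne_zero (fun e => ?_) ht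
      have h1 : p ∣ r := (ZMod.natCast_eq_zero_iff r p).1 e
      have hd0 : d ≠ 0 := fun e => by have := hs.pos; rw [he0, e] at this; simp at this
      have h2 : p ∣ p ^ d := dvd_pow_self p hd0
      have h3 : p ∣ p ^ d - (p ^ d - 1) := Nat.dvd_sub h2 (h1.trans hr)
      have h4 : 0 < p ^ d := pow_pos hp.pos d
      rw [show p ^ d - (p ^ d - 1) = 1 by omega] at h3
      exact hp.one_lt.ne' (Nat.dvd_one.1 h3)
    have hsum : ∑ u, m u = n := by
      have := hmE 0
      simp only [pow_zero, mul_one, hn] at this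
      exact_mod_cast this.symm
    let A : Kˣ → ℂ := fun u => ∏ w ∈ univ.filter (fun w : Kˣ => w ^ r = u), Hf t w
    let B : Kˣ → ℂ := fun u => (∏ i ∈ range r, Hf t (ω ^ i)) * Hf (r * t) u
    have hA : ∀ u, A (s u) = A u := by
      intro u
      refine (Finset.prod_equiv s (fun w => ?_) (fun w _ => (hfr t ht w).symm)).symm
      simp only [mem_filter, mem_univ, true_and]
      rw [← s.injective.eq_iff, hs', hs' w, ← pow_mul, ← pow_mul, mul_comm]
    have hB : ∀ u, B (s u) = B u := fun u => by simp only [B, hfr _ hrt0]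
    have main := orb s (fun u => A u ^ (d * m u)) (fun u => B u ^ (d * m u))
      (fun u => by simp only [hA, hms]) (fun u => by simp only [hB, hms]) (fun u => by
        by_cases h0 : m u = 0
        · simp [h0]
        obtain ⟨w, rfl⟩ := hrt u h0
        set e := Function.minimalPeriod s (w ^ r) with he
        have hcoe : (s : Kˣ → Kˣ) = fun w : Kˣ => w ^ p ^ d := rfl
        have h1 : e ∣ e0 := by
          apply Function.IsPeriodicPt.minimalPeriod_dvd
          show s^[e0] _ = _
          rw [hcoe, hit, ← he0, hKq]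
        have h2 : (w ^ r) ^ p ^ (d * e) = w ^ r := by
          rw [← hit, ← hcoe]; exact Function.iterate_minimalPeriod
        have h3 := hs.prod r d ω hid.pr ⟨e0, he0⟩ hr hω t (d * e) w ht (dvd_mul_right _ _)
          (he0 ▸ Nat.mul_dvd_mul_left d h1) h2
        obtain ⟨f1, f2⟩ := fib hr0 hω w
        have h4 : A (w ^ r) ^ (d * e) = B (w ^ r) ^ (d * e) := by
          simp only [A, B]
          rw [f1, Finset.prod_image f2, mul_pow, ← Finset.prod_pow, ← Finset.prod_pow, h3]
        rw [← pow_mul, ← pow_mul, mul_right_comm, pow_mul _ (d * e), pow_mul _ (d * e), h4])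
    unfold gam
    rw [hu _ _ hEg, ← hm, ← hsum, ← Finset.prod_pow_eq_pow_sum, ← Finset.prod_mul_distrib,
      ← Finset.prod_fiberwise univ (fun w : Kˣ => w ^ r)]
    refine Eq.trans ?_ (main.trans ?_)
    · refine Finset.prod_congr rfl fun u _ => ?_
      simp only [A]
      rw [← Finset.prod_pow]
      refine Finset.prod_congr rfl fun w hw => ?_
      rw [(mem_filter.1 hw).2]
    · refine Finset.prod_congr rfl fun u _ => ?_
      simp only [B]
      rw [mul_pow, Finset.prod_pow, ← pow_mul]

end H1.KgvVL
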