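import Cfsg.Agent.H85.L3Spec
import Cfsg.Agent.H14.Std

/-! Tower L33, slot NC2: a conjugate of `C(A)` has no outer involution on `A`. -/

set_option autoImplicit false
set_option linter.unusedSectionVars false

namespace H1.L3NC2

open Subgroup Cfsg H98 H1.Gold H85.L33

universe u
variable {G : Type u} [Group G] [Finite G] {A : Subgroup G} {g r t : G}

/-- `{1, t, r, t r}` -/
def fr (t r : G) (ht : t * t = 1) (hr : r * r = 1) (c : r * t = t * r) : Subgroup G where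
  carrier := {x | x = 1 ∨ x = t ∨ x = r ∨ x = t * r}
  one_mem' := .inl rfl
  mul_mem' := by
    have e1 : ∀ x, t * (t * x) = x := fun x => by rw [← mul_assoc, ht, one_mul]
    have e2 : ∀ x, r * (t * x) = t * (r * x) := fun x => by rw [← mul_assoc, c, mul_assoc]
    rintro a b (rfl | rfl | rfl | rfl) (rfl | rfl | rfl | rfl) <;> simp [mul_assoc, ht, hr, c, e1, e2]
  inv_mem' := by
    have e : (t * r)⁻¹ = t * r := by
      rw [mul_inv_rev, inv_eq_of_mul_eq_one_right ht, inv_eq_of_mul_eq_one_right hr, c]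
    rintro a (rfl | rfl | rfl | rfl) <;>
      simp [inv_eq_of_mul_eq_one_right ht, inv_eq_of_mul_eq_one_right hr, e]

theorem sq_of {x : G} (h : orderOf x = 2) : x * x = 1 := by rw [← sq, ← h, pow_orderOf_eq_one]
theorem ne_of {x : G} (h : orderOf x = 2) : x ≠ 1 := fun e => by simp [e] at h
theorem ord {x : G} (h : x * x = 1) (n : x ≠ 1) : orderOf x = 2 := orderOf_eq_prime (by rw [sq, h]) n

theorem ex_inv {P : Subgroup G} (hP : IsPGroup 2 P) {c : G} (hc : c ∈ P) (n : c ≠ 1) :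
    ∃ m, orderOf (c ^ m) = 2 := by
  obtain ⟨k, hk⟩ := hP ⟨c, hc⟩
  have e : c ^ 2 ^ k = 1 := congrArg Subtype.val hk
  clear hk
  induction k with
  | zero => exact absurd (by simpa using e) n
  | succ k ih =>
    by_cases h : c ^ 2 ^ k = 1
    · exact ih h
    · exact ⟨2 ^ k, ord (by rw [← pow_add, ← two_mul, ← pow_succ', e]) h⟩

theorem KN : cen A ≤ nor A := centralizer_le_normalizer _
theorem cK {n k : G} (hn : n ∈ nor A) (hk : k ∈ cen A) : n * k * n⁻¹ ∈ cen A :=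
  conj_mem_of_mem_normalizer (normalizer_le_normalizer_centralizer A hn) hk
theorem cAK {n k : G} (hn : n ∈ nor A) (hk : k ∈ A ⊔ cen A) : n * k * n⁻¹ ∈ A ⊔ cen A :=
  conj_mem_of_mem_normalizer
    (le_normalizer_sup le_rfl (normalizer_le_normalizer_centralizer A) hn) hk

theorem AK (k : K1 A) {a : G} (h1 : a ∈ A) (h2 : a ∈ cen A) : a = 1 := by
  have := k.simple
  rcases (inferInstance : (center A).Normal).eq_bot_or_eq_top with h | h
  · have : (⟨a, h1⟩ : A) ∈ center A := mem_center_iff.2 fun b => Subtype.ext (h2 b b.2)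
    rw [h, mem_bot] at this
    exact congrArg Subtype.val this
  · have : IsMulCommutative A := ⟨⟨fun a b => mem_center_iff.1 (h ▸ mem_top b : b ∈ center A) a⟩⟩
    have p := (Group.is_simple_iff_prime_card (α := A)).1 inferInstance
    rw [k.card] at p
    exact absurd p (by norm_num)

theorem oc (g x : G) : orderOf (g⁻¹ * x * g) = orderOf x := by
  simpa using orderOf_injective (MulAut.conj g⁻¹).toMonoidHom (MulAut.conj g⁻¹).injective x

/-- the situation -/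
structure Si (A : Subgroup G) (g r : G) : Prop where
  st : IsStandardSubgroup A
  ou : Ou A
  k : KA A
  four : 4 ∣ Nat.card (cen A)
  hg : g ∉ nor A
  hr : g⁻¹ * r * g ∈ cen A
  r2 : orderOf r = 2
  rN : r ∈ nor A

theorem Si.r0 (h : Si A g r) : orderOf (g⁻¹ * r * g) = 2 := (oc g r).trans h.r2

theorem Si.rK (h : Si A g r) : r ∉ cen A := fun k =>
  h.hg (H14.std_mem_normalizer' h.st h.r0 h.hr (by simpa [mul_assoc] using k))

theorem Si.cN (h : Si A g r) {c : G} (e : c * r = r * c) : g⁻¹ * c * g ∈ nor A :=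
  H14.std_centralizer_le h.st h.r0 h.hr (mem_centralizer_singleton_iff.2 (by
    simp only [mul_assoc, mul_inv_cancel_left]
    rw [← mul_assoc c, e, mul_assoc]))

theorem Si.out (h : Si A g r) {P : Subgroup G} (hP : IsPGroup 2 P) {c : G} (hc : c ∈ P) (k : c ∈ cen A)
    (e : c * r = r * c) (i : g⁻¹ * c * g ∈ A ⊔ cen A) : c = 1 := by
  by_contra n
  obtain ⟨m, hm⟩ := ex_inv hP hc n
  have p : g⁻¹ * c ^ m * g = (g⁻¹ * c * g) ^ m := by simpa using (conj_pow (a := g⁻¹) (b := c) (i := m)).symm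
  exact h.ou g⁻¹ (fun k => h.hg (inv_mem_iff.1 k)) (g⁻¹ * c ^ m * g)
    ⟨mem_cj.2 (by simpa [mul_assoc] using pow_mem k m), p ▸ pow_mem (h.cN e) m⟩ ((oc _ _).trans hm)
    (p ▸ pow_mem i m)

theorem Si.two (h : Si A g r) {P : Subgroup G} (hP : IsPGroup 2 P) {c d : G} (hc : c ∈ P) (hd : d ∈ P)
    (k : c ∈ cen A) (l : d ∈ cen A) (e : c * r = r * c) (f : d * r = r * d) : c = 1 ∨ d = 1 ∨ c * d = 1 :=
  (h.k.idx _ (h.cN e) _ (h.cN f)).imp (h.out hP hc k e) (Or.imp (h.out hP hd l f) fun i =>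
    h.out hP (mul_mem hc hd) (mul_mem k l) (by rw [mul_assoc, f, ← mul_assoc, e, mul_assoc])
      (by simpa [mul_assoc] using i))

theorem Si.step (h : Si A g r) (tt : t * t = 1) (tK : t ∈ cen A) (c : r * t = t * r) :
    ∃ y ∈ cen A, y ≠ 1 ∧ y ≠ t ∧ y * t * y⁻¹ = t ∧ (y * r * y⁻¹ = r ∨ y * r * y⁻¹ = t * r) ∧
      ∃ P : Subgroup G, IsPGroup 2 P ∧ y ∈ P ∧ t ∈ P := by
  have rr := sq_of h.r2
  let E := fr t r tt rr c
  have mE : ∀ {x}, x ∈ E ↔ x = 1 ∨ x = t ∨ x = r ∨ x = t * r := Iff.rfl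
  have pE : IsPGroup 2 E := fun x => ⟨1, Subtype.ext (by
    rcases mE.1 x.2 with e | e | e | e <;> simp [sq, e, tt, rr]
    rw [mul_assoc, ← mul_assoc r, c, mul_assoc, rr, mul_one, tt])⟩
  have EK : ∀ x ∈ E, x ∈ cen A → x = 1 ∨ x = t := fun x hx k => by
    rcases mE.1 hx with e | e | e | e
    exacts [.inl e, .inr e, absurd (e ▸ k) h.rK, absurd ((mul_mem_cancel_left tK).1 (e ▸ k)) h.rK]
  have zn : zpowers r ≤ nor (cen A) := (zpowers_le.2 h.rN).trans (normalizer_le_normalizer_centralizer A)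
  have zE : zpowers r ≤ E := zpowers_le.2 (mE.2 (by simp))
  have rm : r ∈ cen A ⊔ zpowers r := mem_sup_right (mem_zpowers r)
  obtain ⟨P, hP, EP⟩ := exists_isSyl_le (H := cen A ⊔ zpowers r) pE fun x hx => by
    rcases mE.1 hx with rfl | rfl | rfl | rfl
    exacts [one_mem _, mem_sup_left tK, rm, mul_mem (mem_sup_left tK) rm]
  have sR := hP.inf_of_le_normalizer le_sup_left (hP.le.trans (sup_le le_normalizer zn))
  have lt : E < P := EP.lt_of_ne fun e => by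
    have le : P ⊓ cen A ≤ zpowers t := fun x hx => by
      rcases EK x (e ▸ hx.1) hx.2 with rfl | rfl
      exacts [one_mem _, mem_zpowers _]
    have d : Nat.card ↥(P ⊓ cen A) ∣ 2 := (card_dvd_of_le le).trans (by
      rw [Nat.card_zpowers]; exact orderOf_dvd_of_pow_eq_one (by rw [sq, tt]))
    have d4 := h.four
    have i := sR.not_dvd_relIndex
    rw [← relIndex_bot_left, ← relIndex_mul_relIndex ⊥ _ _ bot_le sR.le, relIndex_bot_left] at d4
    generalize (P ⊓ cen A).relIndex (cen A) = m at d4 i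
    rcases (Nat.dvd_prime Nat.prime_two).1 d with q | q <;> rw [q] at d4 <;> omega
  obtain ⟨x, ⟨xP, xN⟩, xE⟩ := SetLike.exists_of_lt (lt_inf_normalizer hP.isPGroup lt)
  obtain ⟨y, yK, a, ha, rfl⟩ := (mem_sup_right_norm zn).1 (hP.le xP)
  have yN : y ∈ nor E := (mul_mem_cancel_right (le_normalizer (zE ha))).1 xN
  have yE : y ∉ E := fun k => xE (mul_mem k (zE ha))
  refine ⟨y, yK, fun e => yE (mE.2 (.inl e)), fun e => yE (mE.2 (.inr (.inl e))), ?_, ?_, P, hP.isPGroup,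
    (mul_mem_cancel_right (EP (zE ha))).1 xP, EP (mE.2 (by simp))⟩
  · rcases EK _ (conj_mem_of_mem_normalizer yN (mE.2 (.inr (.inl rfl))))
      (mul_mem (mul_mem yK tK) (inv_mem yK)) with e | e
    · rw [conj_eq_one_iff] at e
      simp [e]
    · exact e
  · have nK : y * r * y⁻¹ ∉ cen A := fun k =>
      h.rK ((mul_mem_cancel_left yK).1 ((mul_mem_cancel_right (inv_mem yK)).1 k))
    rcases mE.1 (conj_mem_of_mem_normalizer yN (zE (mem_zpowers r))) with e | e | e | e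
    exacts [absurd (e ▸ one_mem _) nK, absurd (e ▸ tK) nK, .inl e, .inr e]

theorem Si.ex_t (h : Si A g r) : ∃ t ∈ cen A, orderOf t = 2 ∧ r * t = t * r := by
  obtain ⟨y, yK, y1, -, -, e, P, hP, yP, -⟩ := h.step (t := 1) (one_mul 1) (one_mem _) (by simp)
  obtain ⟨m, hm⟩ := ex_inv hP yP y1
  have : Commute r y := by
    rw [one_mul, or_self, mul_inv_eq_iff_eq_mul] at e
    exact e.symm
  exact ⟨y ^ m, pow_mem yK m, hm, this.pow_right m⟩

theorem Si.ex_y (h : Si A g r) (t2 : orderOf t = 2) (tK : t ∈ cen A) (c : r * t = t * r) :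
    ∃ y ∈ cen A, y * t * y⁻¹ = t ∧ y * r * y⁻¹ = t * r := by
  obtain ⟨y, yK, y1, yt, e, f, P, hP, yP, tP⟩ := h.step (sq_of t2) tK c
  refine ⟨y, yK, e, f.resolve_left fun f => ?_⟩
  rcases h.two hP yP tP yK tK (mul_inv_eq_iff_eq_mul.1 f) c.symm with k | k | k
  exacts [y1 k, ne_of t2 k, yt (mul_right_cancel (k.trans (sq_of t2).symm))]

theorem Si.false (h : Si A g r) : False := by
  obtain ⟨t, tK, t2, c⟩ := h.ex_t
  obtain ⟨y, yK, -, yr⟩ := h.ex_y t2 tK c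
  have tt := sq_of t2
  have rr := sq_of h.r2
  have h' : Si A g⁻¹ (g⁻¹ * t * g) := ⟨h.st, h.ou, h.k, h.four, fun k => h.hg (inv_mem_iff.1 k),
    by simpa [mul_assoc] using tK, (oc g t).trans t2, h.cN c.symm⟩
  obtain ⟨x', -, e1, e2⟩ := h'.ex_y h.r0 h.hr (by
    simp only [mul_assoc, mul_inv_cancel_left]
    rw [← mul_assoc t, ← c, mul_assoc])
  obtain ⟨x, xr, xt⟩ : ∃ x : G, x * r * x⁻¹ = r ∧ x * t * x⁻¹ = t * r :=
    ⟨g * x' * g⁻¹, by
      rw [show g * x' * g⁻¹ * r * (g * x' * g⁻¹)⁻¹ = g * (x' * (g⁻¹ * r * g) * x'⁻¹) * g⁻¹ by group, e1]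
      group, by
      rw [show g * x' * g⁻¹ * t * (g * x' * g⁻¹)⁻¹ = g * (x' * (g⁻¹ * t * g) * x'⁻¹) * g⁻¹ by group, e2, ← c]
      group⟩
  have ro : r ∉ A ⊔ cen A := h.ou g h.hg r ⟨mem_cj.2 h.hr, h.rN⟩ h.r2
  obtain ⟨z, hz, v, hv, ρ, hρ, z2, -, ⟨q1, q2⟩, -⟩ := h.k.s4 r h.rN ro (rr ▸ one_mem _)
  have cm : ∀ a ∈ A ⊓ cen1 r, Commute (x * a * x⁻¹) r ∧ Commute (x * a * x⁻¹) t := fun a ha => by
    have c1 : Commute (x * a * x⁻¹) r := by
      rw [← xr]; exact (show Commute a r from mem_centralizer_singleton_iff.1 ha.2).conj x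
    have c2 : Commute (x * a * x⁻¹) (t * r) := by
      rw [← xt]; exact (show Commute a t from tK a ha.1).conj x
    exact ⟨c1, by simpa using c2.mul_right c1.inv_right⟩
  have cN : ∀ a ∈ A ⊓ cen1 r, x * a * x⁻¹ ∈ nor A := fun a ha =>
    H14.std_centralizer_le h.st t2 tK (mem_centralizer_singleton_iff.2 (cm a ha).2)
  have zi : x * z * x⁻¹ ∈ A ⊔ cen A := by
    have i1 : x * v * x⁻¹ ∈ A ⊔ cen A → x * z * x⁻¹ ∈ A ⊔ cen A := fun i => by
      have := cAK (inv_mem (cN ρ hρ)) i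
      rwa [← q1, show (x * ρ * x⁻¹)⁻¹ * (x * (ρ * z * ρ⁻¹) * x⁻¹) * (x * ρ * x⁻¹)⁻¹⁻¹ = x * z * x⁻¹ by
        group] at this
    rcases h.k.idx _ (cN v hv) _ (cN z hz) with i | i | i
    · exact i1 i
    · exact i
    · have := cAK (inv_mem (cN ρ hρ)) i
      rw [show x * v * x⁻¹ * (x * z * x⁻¹) = x * (v * z) * x⁻¹ by group, ← q2,
        show (x * ρ * x⁻¹)⁻¹ * (x * (ρ * v * ρ⁻¹) * x⁻¹) * (x * ρ * x⁻¹)⁻¹⁻¹ = x * v * x⁻¹ by group] at this
      exact i1 this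
  obtain ⟨l, lA, k, kK, e⟩ := (mem_sup_right_norm KN).1 zi
  have lk : Commute l k := kK l lA
  have lt : Commute l t := tK l lA
  have uq : ∀ {a a' b b' : G}, a ∈ A → a' ∈ A → b ∈ cen A → b' ∈ cen A → a * b = a' * b' →
      a = a' ∧ b = b' := fun {a a' b b'} p p' q q' e => by
    have f : a'⁻¹ * a = b' * b⁻¹ := by rw [inv_mul_eq_iff_eq_mul, ← mul_assoc, ← e, mul_inv_cancel_right]
    have := AK h.k.toK1 (mul_mem (inv_mem p') p) (f ▸ mul_mem q' (inv_mem q))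
    exact ⟨(inv_mul_eq_one.1 this).symm, (mul_inv_eq_one.1 (f ▸ this)).symm⟩
  obtain ⟨zr, zt⟩ := cm z hz
  rw [e] at zr zt
  obtain ⟨ll, kk⟩ := uq (mul_mem lA lA) (one_mem _) (mul_mem kK kK) (one_mem _) (by
    rw [lk.mul_mul_mul_comm, ← e]
    simp [mul_assoc, ← mul_assoc z, sq_of z2])
  obtain ⟨lr, kr⟩ := uq (conj_mem_of_mem_normalizer h.rN lA) lA (cK h.rN kK) kK (by
    rw [show r * l * r⁻¹ * (r * k * r⁻¹) = r * (l * k) * r⁻¹ by group, ← zr.eq, mul_inv_cancel_right])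
  rw [mul_inv_eq_iff_eq_mul] at lr kr
  have kt : Commute k t := by simpa using lt.inv_left.mul_left zt
  have k1 : k = 1 ∨ k = t := by
    rcases h.two (P := fr k t kk tt kt.eq.symm) (fun x => ⟨1, Subtype.ext (by
        rcases x.2 with e | e | e | e <;> simp [sq, e, tt, kk]
        rw [kt.symm.mul_mul_mul_comm, kk, tt, mul_one])⟩) (.inr (.inl rfl)) (.inr (.inr (.inl rfl))) kK tK
      kr.symm c.symm with q | q | q
    exacts [.inl q, absurd q (ne_of t2), .inr (mul_right_cancel (q.trans tt.symm))]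
  obtain ⟨m, mA, hm⟩ := h.k.out r h.rN (r * l) (mul_mem h.rN (le_normalizer lA)) ro
    (fun i => ro ((mul_mem_cancel_right (mem_sup_left lA)).1 i)) (rr ▸ one_mem _) (by
      rw [mul_assoc, ← mul_assoc l, ← lr, mul_assoc, ll, mul_one, rr]; exact one_mem _)
  have mr : m * r * m⁻¹ = r * l := mul_inv_eq_one.1 (AK h.k.toK1 (by
    rw [show m * r * m⁻¹ * (r * l)⁻¹ = m * (r * (m⁻¹ * l⁻¹) * r⁻¹) by group]
    exact mul_mem mA (conj_mem_of_mem_normalizer h.rN (mul_mem (inv_mem mA) (inv_mem lA)))) hm)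
  obtain ⟨w, hw⟩ : ∃ w : G, w * r * w⁻¹ = x * (t * z) * x⁻¹ := by
    rw [show x * (t * z) * x⁻¹ = x * t * x⁻¹ * (x * z * x⁻¹) by group, xt, e]
    rcases k1 with rfl | rfl
    · refine ⟨y * m, ?_⟩
      rw [show y * m * r * (y * m)⁻¹ = y * (m * r * m⁻¹) * y⁻¹ by group, mr,
        show y * (r * l) * y⁻¹ = y * r * y⁻¹ * (y * l * y⁻¹) by group, yr, ← yK l lA]
      group
    · refine ⟨m, ?_⟩
      rw [mr, lt.eq, ← c, mul_assoc r, ← mul_assoc k, tt, one_mul]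
  have tz : (x⁻¹ * w * g)⁻¹ * (t * z) * (x⁻¹ * w * g) = g⁻¹ * r * g := by
    rw [show (x⁻¹ * w * g)⁻¹ * (t * z) * (x⁻¹ * w * g) = g⁻¹ * w⁻¹ * (x * (t * z) * x⁻¹) * w * g by group,
      ← hw]
    group
  refine h.ou (x⁻¹ * w * g) (fun n => ne_of z2 (AK h.k.toK1 hz.1 ?_)) (t * z)
    ⟨mem_cj.2 (tz ▸ h.hr), mul_mem (KN tK) (le_normalizer hz.1)⟩ ?_
    (mul_mem (mem_sup_right tK) (mem_sup_left hz.1))
  · have := cK n h.hr
    rw [← tz] at this
    exact (mul_mem_cancel_left tK).1 (by simpa [mul_assoc] using this)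
  · rw [← h.r0, ← tz, oc]

theorem jobNC2 : JobNC2.{u} := fun kit G _ _ A st ty four ou _ hg _ hr r2 =>
  Si.false ⟨st, ou, kit G A ty, four, hg, mem_cj.1 hr.1, r2, hr.2⟩

end H1.L3NC2
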