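import Cfsg.Agent.H23.NDSpec

/-! ND tower (S4780), slot Fld. -/

set_option autoImplicit false

namespace H1.NDFld

universe u

theorem adj {A T : Type*} [AddCommGroup A] [AddCommGroup T] (s : AddMonoid.End A) (γ : A →+ A →+ T)
    (h : ∀ a b, γ (s (s a)) b - 2 • γ (s a) (s b) + γ a (s (s b)) = 0) (n : ℕ) (a b : A) :
    γ ((s ^ (n + 1)) a) b - γ a ((s ^ (n + 1)) b) =
      (n + 1) • (γ (s ((s ^ n) a)) b - γ ((s ^ n) a) (s b)) := by
  induction n generalizing b with
  | zero => simp
  | succ n ih =>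
    have e1 : ∀ m c, (s ^ (m + 1)) c = s ((s ^ m) c) := fun m c => by rw [pow_succ']; rfl
    have e2 : (s ^ (n + 1 + 1)) b = (s ^ (n + 1)) (s b) := by rw [pow_succ s (n + 1)]; rfl
    have k : γ (s ((s ^ n) a)) (s b) - γ ((s ^ n) a) (s (s b)) =
        γ (s (s ((s ^ n) a))) b - γ (s ((s ^ n) a)) (s b) := by
      rw [← sub_eq_zero, ← neg_eq_zero, ← h ((s ^ n) a) b, two_nsmul]; abel
    have i := ih (s b)
    rw [k, e1 n a] at i
    rw [e2, e1 (n + 1) a, e1 n a, succ_nsmul, ← i]
    abel

theorem jobFld : H23.ND.JobFld.{u} := by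
  intro X A T _ _ _ _ _ p hp pA hc S γ cm bj al h
  rcases subsingleton_or_nontrivial A with _ | _
  · ext a b
    rw [Subsingleton.elim a 0]; simp
  obtain ⟨a0, h0⟩ := exists_ne (0 : A)
  let s : X → AddMonoid.End A := fun x => S x
  have inj : Function.Injective fun x => S x a0 := (injective_iff_map_eq_zero (S.flip a0)).2
    fun x hx => by_contra fun x0 => h0 ((bj x x0).1 (by simpa using hx))
  have sj := ((Nat.bijective_iff_injective_and_card _).2 ⟨inj, hc⟩).2
  have cl : ∀ x y, ∃ z, s z = s x * s y := fun x y => by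
    obtain ⟨z, hz⟩ := sj (S x (S y a0))
    refine ⟨z, AddMonoidHom.ext fun a => ?_⟩
    obtain ⟨w, rfl⟩ := sj a
    change S z (S w a0) = S x (S y (S w a0))
    rw [cm z, cm y, cm x w]
    exact congrArg (S w) hz
  have pw : ∀ x n, ∃ z, s z = s x ^ (n + 1) := fun x n => by
    induction n with
    | zero => exact ⟨x, by simp⟩
    | succ n ih =>
      obtain ⟨z, hz⟩ := ih
      obtain ⟨w, hw⟩ := cl z x
      exact ⟨w, by rw [hw, hz, ← pow_succ]⟩
  obtain ⟨k, rfl⟩ := Nat.exists_eq_add_one_of_ne_zero hp.ne_zero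
  choose f hf using fun x => pw x k
  have pT : ∀ a b, (k + 1) • γ a b = 0 := fun a b => by rw [← map_nsmul, pA, map_zero]
  have : Fact (k + 1).Prime := ⟨hp⟩
  have : Nontrivial (AddMonoid.End A) := ⟨0, 1, fun e => h0 (DFunLike.congr_fun e a0).symm⟩
  have : CharP (AddMonoid.End A) (k + 1) := (CharP.charP_iff_prime_eq_zero hp).2
    (AddMonoidHom.ext fun a => (AddMonoid.End.natCast_apply _ a).trans (pA a))
  have fi : Function.Injective f := fun x y e => by_contra fun ne => by
    have e1 : (s x - s y) ^ (k + 1) = 0 := by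
      rw [sub_pow_char_of_commute _ (show Commute (s x) (s y) from AddMonoidHom.ext fun a => cm x y a),
        ← hf, ← hf, e, sub_self]
    rw [show s x - s y = s (x - y) from (map_sub S x y).symm] at e1
    have e2 := (bj _ (sub_ne_zero.2 ne)).1.iterate (k + 1)
    refine h0 (e2 ?_)
    have e3 := AddMonoid.End.coe_pow _ (s (x - y)) (k + 1)
    rw [e1] at e3
    exact (congrFun e3 a0).symm.trans (congrFun e3 0)
  have fs := Finite.surjective_of_injective fi
  have sa : ∀ x a b, γ (S x a) b = γ a (S x b) := fun x a b => by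
    obtain ⟨y, rfl⟩ := fs x
    have := adj (s y) γ (h y) k a b
    rw [← hf, nsmul_sub, pT, pT, sub_self] at this
    exact sub_eq_zero.1 this
  have z0 : ∀ z, γ a0 (S z a0) = 0 := fun z => by
    rcases hp.eq_two_or_odd' with e | ⟨m, e⟩
    · obtain ⟨y, rfl⟩ := fs z
      have e1 : S (f y) a0 = S y (S y a0) := by
        have := DFunLike.congr_fun (hf y) a0
        rwa [e, pow_two] at this
      rw [e1, ← sa, al]
    · have e1 := al (a0 + S z a0)
      simp only [map_add, AddMonoidHom.add_apply, al, sa z a0 a0, zero_add, add_zero] at e1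
      have e2 := pT a0 (S z a0)
      rwa [e, succ_nsmul, mul_nsmul, two_nsmul, e1, nsmul_zero, zero_add] at e2
  ext a b
  obtain ⟨x, rfl⟩ := sj a
  obtain ⟨y, rfl⟩ := sj b
  obtain ⟨z, hz⟩ := cl x y
  have := z0 z
  rw [show S z a0 = S x (S y a0) from DFunLike.congr_fun hz a0, ← sa] at this
  simpa using this

end H1.NDFld
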