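import Cfsg.Agent.H7.HKSSpec
import Cfsg.Agent.H67.KM1
import Cfsg.Agent.H27.Zsigmondy
import Cfsg.Agent.H18.Misc

/-! HKS tower, job NRA: a minimal non-regular example has no affine line. -/

set_option autoImplicit false

namespace H1.NRA

open MulAction Cfsg Subgroup H89.K H65 H7.HKS

universe u

section Gen

variable {G Ω : Type*} [Group G] [MulAction G Ω]

theorem exists_char {H Y : Type*} [Group H] [Group Y] [Finite H] (f : H →* Y)
    (hc : ∀ x y, f x * f y = f y * f x) {h : H} (hh : f h ≠ 1) :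
    ∃ χ : H →* ℂˣ, χ h ≠ 1 ∧ ∀ k, f k = 1 → χ k = 1 := by
  let : CommGroup f.range :=
    { (inferInstance : Group f.range) with
      mul_comm := by
        rintro ⟨_, x, rfl⟩ ⟨_, y, rfl⟩
        exact Subtype.ext (hc x y) }
  have : Finite f.range := Finite.of_surjective _ f.rangeRestrict_surjective
  have : NeZero (Monoid.exponent f.range) := ⟨Monoid.exponent_ne_zero_of_finite⟩
  obtain ⟨ψ, hψ⟩ := CommGroup.exists_apply_ne_one_of_hasEnoughRootsOfUnity f.range ℂ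
    (a := f.rangeRestrict h) fun e => hh (congrArg Subtype.val e)
  refine ⟨ψ.comp f.rangeRestrict, hψ, fun k hk => ?_⟩
  have : f.rangeRestrict k = 1 := Subtype.ext hk
  rw [MonoidHom.comp_apply, this, map_one]

/-- The orbit of a subgroup. -/
abbrev orb (C : Subgroup G) (b : Ω) : Set Ω := {c | ∃ g ∈ C, g • b = c}

theorem relIndex_stab (C : Subgroup G) (b : Ω) :
    (stabilizer G b).relIndex C = (orb C b).ncard := by
  have e : orbit C b = orb C b := by
    ext c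
    exact ⟨fun ⟨g, hg⟩ => ⟨g, g.2, hg⟩, fun ⟨g, hg, e⟩ => ⟨⟨g, hg⟩, e⟩⟩
  rw [← e, ← index_stabilizer]
  rfl

theorem card_orb {D : Subgroup G} {a : Ω} (h : ∀ t ∈ D, t • a = a → t = 1) :
    (orb D a).ncard = Nat.card D := by
  rw [← relIndex_stab, ← inf_relIndex_right,
    show stabilizer G a ⊓ D = ⊥ from eq_bot_iff.2 fun t ht => h t ht.2 ht.1, relIndex_bot_left]

theorem prime_relIndex [Finite G] {C N : Subgroup G} {p r : ℕ} (hp : p.Prime)
    (h : ∀ u ∈ C, ¬ p ∣ orderOf u → u ∈ N) (hr : r.Prime) (hd : r ∣ N.relIndex C) : r = p := by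
  by_contra hne
  have : Fact r.Prime := ⟨hr⟩
  obtain ⟨P⟩ : Nonempty (Sylow r C) := inferInstance
  refine P.not_dvd_index (hd.trans (index_dvd_of_le (H := (P : Subgroup C)) fun u hu => ?_))
  refine h u u.2 fun e => hne ?_
  obtain ⟨k, hk⟩ := P.isPGroup' ⟨u, hu⟩
  have h1 : (u : G) ^ r ^ k = 1 := congrArg (fun x : P => ((x : C) : G)) hk
  exact ((Nat.prime_dvd_prime_iff_eq hp hr).1
    (hp.dvd_of_dvd_pow (e.trans (orderOf_dvd_of_pow_eq_one h1)))).symm

theorem pfix [Finite Ω] {P : Subgroup G} {p : ℕ} (hp : p.Prime) (hP : IsPGroup p P) (S : Set Ω)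
    (hS : ∀ x ∈ P, ∀ c ∈ S, x • c ∈ S) (hd : ¬ p ∣ S.ncard) : ∃ c ∈ S, ∀ x ∈ P, x • c = c := by
  have : Fact p.Prime := ⟨hp⟩
  let T : SubMulAction P Ω := ⟨S, fun x {c} hc => hS x x.2 c hc⟩
  obtain ⟨c, hc⟩ := hP.nonempty_fixed_point_of_prime_not_dvd_card T hd
  exact ⟨c, c.2, fun x hx => congrArg Subtype.val (hc ⟨x, hx⟩)⟩

theorem mem_Fx {v : G} {c : Ω} : c ∈ Fx Ω ({v} : Set G) ↔ v • c = c := by simp

theorem ncard_Fx_conj (g v : G) :
    (Fx Ω ({g * v * g⁻¹} : Set G)).ncard = (Fx Ω ({v} : Set G)).ncard := by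
  rw [← Set.ncard_image_of_injective (Fx Ω ({v} : Set G)) (MulAction.injective g)]
  congr 1
  ext c
  rw [mem_Fx]
  refine ⟨fun e => ⟨g⁻¹ • c, mem_Fx.2 ?_, by simp⟩, ?_⟩
  · rw [← conj_smul_eq (g := g), smul_inv_smul, e]
  · rintro ⟨d, hd, rfl⟩
    exact conj_smul_eq.2 (mem_Fx.1 hd)

theorem pg2 {D : Subgroup G} (h : ∀ d ∈ D, d * d = 1) : IsPGroup 2 D :=
  fun d => ⟨1, Subtype.ext (by simpa [sq] using h d d.2)⟩

theorem pg_single {v : G} (h : v * v = 1) : IsPGroup 2 (closure ({v} : Set G)) := by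
  refine pg2 fun d hd => ?_
  obtain ⟨n, rfl⟩ := mem_closure_singleton.1 hd
  rw [← (Commute.refl v).mul_zpow, h, one_zpow]

theorem ord2 {v : G} (h : v * v = 1) (h1 : v ≠ 1) : orderOf v = 2 :=
  orderOf_eq_prime (by rw [sq, h]) h1

theorem sq_of_ord2 {v : G} (h : orderOf v = 2) : v * v = 1 := by
  rw [← sq, ← h, pow_orderOf_eq_one]

theorem eq_one_of_odd {v : G} {n : ℕ} (h : v * v = 1) (hn : Odd n) (e : v ^ n = 1) : v = 1 := by
  obtain ⟨k, rfl⟩ := hn
  rwa [pow_succ, pow_mul, sq, h, one_pow, one_mul] at e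

theorem comm_of_sq {D : Subgroup G} (h : ∀ d ∈ D, d * d = 1) {x y : G} (hx : x ∈ D) (hy : y ∈ D) :
    x * y = y * x := by
  have e := h _ (D.mul_mem hx hy)
  calc x * y = (y * y) * (x * y) * (x * x) := by rw [h x hx, h y hy, one_mul, mul_one]
    _ = y * (y * x * (y * x)) * x := by group
    _ = y * x := by rw [h _ (D.mul_mem hy hx), mul_one]

omit [MulAction G Ω] in
theorem mem_CU0 {V : Ω → Subgroup G} {c : Ω} {g : G} : g ∈ CU V ∅ c ↔ g ∈ V c :=
  ⟨fun h => h.1, fun h => ⟨h, fun _ hx => hx.elim⟩⟩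

omit [MulAction G Ω] in
theorem CU0 (V : Ω → Subgroup G) (c : Ω) : CU V ∅ c = V c := Subgroup.ext fun _ => mem_CU0

theorem two_pow_le {k l : ℕ} (hk : 0 < k) (h : ∀ r : ℕ, r.Prime → r ∣ 2 ^ l - 1 → r ∣ 2 ^ k - 1) :
    l ≤ k := by
  by_contra! hl
  by_cases h6 : l = 6
  · subst h6
    have h3 := h 3 (by norm_num) (by norm_num)
    have h7 := h 7 (by norm_num) (by norm_num)
    interval_cases k <;> simp_all
  · obtain ⟨r, hr, h1, h2⟩ := H27.zsigmondy 2 l (by norm_num) (by omega) (fun e => h6 e.2) (by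
      rintro ⟨-, m, hm⟩
      rcases m with _ | _ | m
      · simp at hm
      · simp at hm
      · rw [pow_succ, pow_succ] at hm
        omega)
    exact h2 k hk hl (h r hr h1)

theorem eq_one_of_cent {V : Ω → Subgroup G} (h : Sp V) {a b : Ω} (hab : a ≠ b) {w : G}
    (hw : w ∈ St G a b) (hc : ∀ u ∈ V a, u * w = w * u) : w = 1 := by
  refine h.t2.faith w fun c => ?_
  by_cases e : c = a
  · rw [e]
    exact hw.1
  · obtain ⟨u, hu, rfl⟩ := h.tr hab.symm e
    exact fix_of_comm (hc u hu) hw.2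

end Gen

section NR

variable {G Ω : Type u} [Group G] [Finite G] [MulAction G Ω] {U : Ω → Subgroup G} {p : ℕ}
  {a b : Ω}

omit [Finite G] in
theorem a_mem (h : Sp U) : a ∈ Ln U a b := fun g hg => h.fix a g hg.1

omit [Finite G] in
theorem b_mem : b ∈ Ln U a b := fun _ hg => hg.2

omit [Finite G] in
theorem conj_Xs (h : Sp U) (g : G) {x : G} (hx : x ∈ Xs U a b) :
    g * x * g⁻¹ ∈ Xs U (g • a) (g • b) := ⟨h.conj g a x hx.1, conj_smul_eq.2 hx.2⟩

omit [Finite G] in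
theorem mem_norm (h : NRa U p) (hab : a ≠ b) {g : G} (ha : g • a ∈ Ln U a b)
    (hb : g • b ∈ Ln U a b) : g ∈ normalizer (Xs U a b : Set G) := by
  have e := h.sym hab (fun e => hab (smul_left_cancel g e)) ha hb
  refine mem_normalizer_iff.2 fun x => ⟨fun hx => e ▸ conj_Xs h.toSp g hx, fun hx => ?_⟩
  rw [← e] at hx
  simpa [mul_assoc] using conj_Xs h.toSp g⁻¹ hx

omit [Finite G] in
theorem St_norm (h : NRa U p) (hab : a ≠ b) {g : G} (hg : g ∈ St G a b) :
    g ∈ normalizer (Xs U a b : Set G) :=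
  mem_norm h hab (by rw [hg.1]; exact a_mem h.toSp) (by rw [hg.2]; exact b_mem)

omit [Finite G] in
theorem smul_mem {g : G} (hg : g ∈ normalizer (Xs U a b : Set G)) {c : Ω} (hc : c ∈ Ln U a b) :
    g • c ∈ Ln U a b := fun x hx => by
  have := hc _ ((mem_normalizer_iff.1 (inv_mem hg) x).1 hx)
  rw [← conj_smul_eq (g := g)] at this
  simpa [mul_assoc] using this

omit [Finite G] in
theorem p_odd (h : NRa U p) (a : Ω) : Odd p :=
  (h.odd a).of_dvd_nat ((h.zne a).trans (card_dvd_of_le inf_le_left))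

omit [Finite G] in
theorem exists_z (h : NRa U p) (hab : a ≠ b) : ∃ z ∈ Zc U a, z • b ≠ b := by
  have h1 : Zc U a ≠ ⊥ := fun e => by
    have := h.zne a
    rw [e, card_bot] at this
    exact h.prime.one_lt.ne' (Nat.dvd_one.1 this)
  obtain ⟨⟨z, hz⟩, h2⟩ := ne_bot_iff_exists_ne_one.1 h1
  exact ⟨z, hz, fun e => h2 (Subtype.ext (h.zsr.reg hab.symm z hz e))⟩

omit [Finite G] in
theorem Zc_le {c : Ω} (hc : c ∈ Ln U a b) : Zc U c ≤ LS U a b :=
  le_iSup₂_of_le (f := fun c (_ : c ∈ Ln U a b) => Zc U c) c hc le_rfl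

omit [Finite G] in
theorem LS_norm (h : NR U p) (hab : a ≠ b) : LS U a b ≤ normalizer (Xs U a b : Set G) :=
  (h.ls hab).1.trans (centralizer_le_normalizer _)

omit [Finite G] in
theorem LS_conj (h : NR U p) (hab : a ≠ b) {g l : G} (hg : g ∈ normalizer (Xs U a b : Set G))
    (hl : l ∈ LS U a b) : g * l * g⁻¹ ∈ LS U a b :=
  (mem_normalizer_iff.1 ((h.ls hab).2.1 hg) l).1 hl

theorem K0_odd (h : NR U p) (hab : a ≠ b) {l : G} (hl : l ∈ LS U a b)
    (hf : ∀ c ∈ Ln U a b, l • c = c) : Odd (orderOf l) := by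
  by_contra! ho
  obtain ⟨k, hk⟩ := Nat.not_odd_iff_even.1 ho
  have h0 := orderOf_pos l
  have h1 := h.nr2 hab (l ^ k) (pow_mem ((h.ls hab).1 hl) k)
    (by rw [← pow_add, ← hk, pow_orderOf_eq_one]) fun c hc =>
      (stabilizer G c).pow_mem (hf c hc) k
  have := Nat.le_of_dvd (by omega) (orderOf_dvd_of_pow_eq_one h1)
  omega

/-- Fixed points of an involution of the two-point stabiliser, on and off the line. -/
theorem fix_count (h : NR U p) (hab : a ≠ b) {v : G} (hv : v ∈ St G a b) (h2 : v * v = 1) :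
    ∃ i j : ℕ, (Fx Ω ({v} : Set G)).ncard = i * j + 1 ∧
      (Fx Ω ({v} : Set G) ∩ Ln U a b).ncard = i + 1 ∧ ∀ r : ℕ, r.Prime → r ∣ j → r = p := by
  have := h.t2.finite
  have hf := (h.fx {v} hab (pg_single h2) (by simpa using hv)).1
  set C := CU U {v} a
  have hna : ∀ D : Subgroup G, D ≤ C → a ∉ orb D b := fun D hD ⟨g, hg, e⟩ =>
    hab (smul_left_cancel g ((h.fix a g (hD hg).1).trans e.symm))
  refine ⟨(stabilizer G b).relIndex (normalizer (Xs U a b : Set G) ⊓ C),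
    (normalizer (Xs U a b : Set G)).relIndex C, ?_, ?_, fun r hr hd =>
      prime_relIndex (C := C) h.prime (fun u hu => h.cop hab u hu.1) hr hd⟩
  · have e : Fx Ω ({v} : Set G) = insert a (orb C b) := Set.ext hf
    rw [e, Set.ncard_insert_of_notMem (hna C le_rfl), ← relIndex_stab, ← inf_relIndex_right _ C,
      ← relIndex_mul_relIndex (stabilizer G b ⊓ C) (normalizer (Xs U a b : Set G) ⊓ C) C
        (fun g hg => ⟨le_normalizer (show g ∈ Xs U a b from ⟨hg.2.1, hg.1⟩), hg.2⟩) inf_le_right,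
      inf_relIndex_right, ← inf_relIndex_right (stabilizer G b ⊓ C), inf_assoc,
      inf_eq_right.2 (inf_le_right : _ ⊓ C ≤ C), inf_relIndex_right]
  · have e : Fx Ω ({v} : Set G) ∩ Ln U a b =
        insert a (orb (normalizer (Xs U a b : Set G) ⊓ C) b) := by
      ext c
      constructor
      · rintro ⟨h1, h3⟩
        rcases (hf c).1 h1 with e | ⟨u, hu, rfl⟩
        · exact Or.inl e
        · exact Or.inr ⟨u, ⟨mem_norm h.toNRa hab (by
            rw [h.fix a u hu.1]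
            exact a_mem h.toSp) h3, hu⟩, rfl⟩
      · rintro (rfl | ⟨u, hu, rfl⟩)
        · exact ⟨mem_Fx.2 hv.1, a_mem h.toSp⟩
        · exact ⟨(hf _).2 (Or.inr ⟨u, hu.2, rfl⟩), smul_mem hu.1 b_mem⟩
    rw [e, Set.ncard_insert_of_notMem (hna _ inf_le_right), relIndex_stab]

/-- The elementary abelian group regular on the line. -/
structure ED (U : Ω → Subgroup G) (a b : Ω) (D : Subgroup G) : Prop where
  mem : ∀ t, t ∈ D ↔ t ∈ LS U a b ∧ t * t = 1
  tr : ∀ c ∈ Ln U a b, ∀ d ∈ Ln U a b, ∃ t ∈ D, t • c = d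
  reg : ∀ t ∈ D, ∀ c ∈ Ln U a b, t • c = c → t = 1
  inv : ∀ k ∈ St G a b, k * k = 1 → ∀ s ∈ D, s * k = k * s →
    (∀ c ∈ Ln U a b, (s * k) • c ≠ c) → ∀ c ∈ Ln U a b, k • c = c
  comm : ∀ g ∈ St G a b, ∀ k ∈ St G a b, ∀ c ∈ Ln U a b, (g * k) • c = (k * g) • c

section Y

variable {Y : Type u} [Group Y] [Finite Y] [MulAction Y (Ln U a b)]
  {π : normalizer (Xs U a b : Set G) →* Y} {E : Subgroup Y}

omit [Finite G] in
theorem exists_ED (k2 : Kit2.{u}) (h : NR U p) (hab : a ≠ b) {a' : Ln U a b}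
    (ha : a' = a) (hπ : IsRes _ (Ln U a b) Y π) (hR : Rg (Quo U (Ln U a b) π))
    (hE : AD (Quo U (Ln U a b) π) ∅ a' E) : ∃ D, ED U a b D := by
  let b' : Ln U a b := ⟨b, b_mem⟩
  have hab' : a' ≠ b' := fun e => hab (ha.symm.trans (congrArg Subtype.val e))
  obtain ⟨-, -, -, hI, hA⟩ := k2.aa hR hab' (Set.empty_subset _) hE
  have hN := LS_norm h hab
  have hu : ∀ c : Ln U a b, c ∈ Fx (Ln U a b) (∅ : Set Y) := fun c _ hx => hx.elim
  have hEn : E.Normal := normalizer_eq_top_iff.1 (eq_top_iff.2 fun g _ =>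
    hE.norm fun x => by simp)
  have Ereg : ∀ e ∈ E, ∀ c : Ln U a b, e • c = c → e = 1 := fun e he c hc =>
    (hE.reg c (hu c) c (hu c)).unique ⟨he, hc⟩ ⟨E.one_mem, one_smul _ _⟩
  -- involutions of `L*` map into `E`
  have hLX : (LS U a b).subgroupOf _ ≤ (LX (Quo U (Ln U a b) π) ∅).comap π := by
    rw [← map_subtype_le_map_subtype, subgroupOf_map_subtype]
    refine inf_le_left.trans (iSup₂_le fun c hc z hz => ⟨⟨z, hN (Zc_le hc hz)⟩, ?_, rfl⟩)
    exact (le_iSup₂_of_le (f := fun c (_ : c ∈ Fx (Ln U a b) (∅ : Set Y)) =>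
      CU (Quo U (Ln U a b) π) ∅ c) ⟨c, hc⟩ (hu _) le_rfl :
        _ ≤ LX (Quo U (Ln U a b) π) ∅) (mem_CU0.2 ⟨_, hz.1, rfl⟩)
  have hin : ∀ t (ht : t ∈ LS U a b), t * t = 1 → π ⟨t, hN ht⟩ ∈ E := fun t ht h2 =>
    hI _ (hLX ht) (by
      rw [← map_mul, ← map_one π]
      exact congrArg π (Subtype.ext h2))
  have hk : ∀ t (ht : t ∈ LS U a b), t * t = 1 → π ⟨t, hN ht⟩ = 1 → t = 1 := fun t ht h2 e =>
    h.nr2 hab t ((h.ls hab).1 ht) h2 (hπ.eq_one_iff.1 e)
  let D : Subgroup G :=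
    { carrier := {t | t ∈ LS U a b ∧ t * t = 1}
      one_mem' := ⟨one_mem _, one_mul _⟩
      inv_mem' := fun ht => ⟨inv_mem ht.1, by rw [← mul_inv_rev, ht.2, inv_one]⟩
      mul_mem' := by
        rintro t w ⟨ht, t2⟩ ⟨hw, w2⟩
        have hm := mul_mem ht hw
        have e1 : π ⟨t * w * (t * w), hN (mul_mem hm hm)⟩ = 1 := by
          have := hE.sq _ (E.mul_mem (hin t ht t2) (hin w hw w2))
          rwa [← map_mul, ← map_mul] at this
        have e2 := (h.ls hab).2.2.1 _ (hπ.eq_one_iff.1 e1) w hw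
        refine ⟨hm, hk _ (mul_mem hm hm) ?_ e1⟩
        calc t * w * (t * w) * (t * w * (t * w))
            = t * w * t * (w * (t * w * (t * w))) := by group
          _ = t * w * t * (t * w * (t * (w * w))) := by rw [← e2]; group
          _ = t * w * (t * t) * w * t := by rw [w2]; group
          _ = 1 := by rw [t2, mul_one, mul_assoc t, w2, mul_one, t2] }
  -- `E` lies in the image of `L*`
  let M : Subgroup Y := ((LS U a b).subgroupOf _).map π
  have hM : M.Normal := Normal.map (by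
    rw [normal_subgroupOf_iff_le_normalizer hN]
    exact (h.ls hab).2.1) π hπ.surj
  have hEM : E ⊓ M ≠ ⊥ := by
    intro e0
    obtain ⟨z, hz, hzb⟩ := exists_z h.toNRa hab
    obtain ⟨e, ⟨he, heb⟩, -⟩ := hE.reg a' (hu _) b' (hu _)
    have hzL := Zc_le (a_mem (b := b) h.toSp) hz
    have := (commute_of_normal_of_disjoint E M hEn hM (disjoint_iff.2 e0) e (π ⟨z, hN hzL⟩) he
      ⟨_, hzL, rfl⟩).eq
    have e3 : π ⟨z, hN hzL⟩ • a' = a' := hπ.smul_eq_iff.2 (by
      rw [ha]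
      exact h.fix a z hz.1)
    have e4 := fix_of_comm this e3
    rw [heb] at e4
    exact hzb (hπ.smul_eq_iff.1 e4)
  have htr : ∀ c ∈ Ln U a b, ∀ d ∈ Ln U a b, ∃ t ∈ D, t • c = d := by
    intro c hc d hd
    obtain ⟨_, ⟨he, l, hl, rfl⟩, e⟩ := hR.t2.normal_trans (E ⊓ M) hEM ⟨c, hc⟩ ⟨d, hd⟩
    have e1 : π (l * l) = 1 := by rw [map_mul, hE.sq _ he]
    obtain ⟨t, ⟨ht, t2, e2⟩, -⟩ := (h.ls hab).2.2.2.2 l hl fun x hx => by
      rw [← mul_smul]
      exact hπ.eq_one_iff.1 e1 x hx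
    exact ⟨t, ⟨ht, t2⟩, (e2 c hc).trans (hπ.smul_eq_iff.1 e)⟩
  have hSt : ∀ g (hg : g ∈ St G a b), π ⟨g, St_norm h.toNRa hab hg⟩ ∈ St Y a' b' := fun g hg =>
    hπ.mem_St.2 (by
      rw [ha]
      exact hg)
  refine ⟨D, fun _ => Iff.rfl, htr, fun t ht c hc e => hk t ht.1 ht.2 (Ereg _ (hin t ht.1 ht.2)
    ⟨c, hc⟩ (hπ.smul_eq_iff.2 e)), fun k hk k2 s hs hsk hf => ?_, fun g hg k hk c hc => ?_⟩
  · set κ := π ⟨k, St_norm h.toNRa hab hk⟩ with hκ
    have κ2 : κ * κ = 1 := by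
      rw [hκ, ← map_mul, ← map_one π]
      exact congrArg π (Subtype.ext k2)
    obtain ⟨-, -, h3⟩ := hA κ (hSt k hk) fun _ hx => hx.elim
    obtain ⟨-, h4⟩ := h3 κ2 _ rfl
    refine hπ.eq_one_iff.1 (eq_one_of_cent hR.toSp hab' (hSt k hk) fun u hu' => ?_)
    by_cases e : Nat.card (CU (Quo U (Ln U a b) π) ∅ a') =
        Nat.card (CU (Quo U (Ln U a b) π) (insert κ ∅) a')
    · have e5 : CU (Quo U (Ln U a b) π) (insert κ ∅) a' = CU (Quo U (Ln U a b) π) ∅ a' :=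
        eq_of_le_of_card_ge (fun g hg => mem_CU0.2 hg.1) e.le
      exact ((e5 ▸ mem_CU0.2 hu' : u ∈ CU _ (insert κ ∅) a').2 κ (Set.mem_insert _ _)).symm
    · obtain ⟨f, -, hf'⟩ := h4 _ (hin s hs.1 hs.2) e (by
        rw [hκ, ← map_mul, ← map_mul]
        exact congrArg π (Subtype.ext hsk.symm))
      have e6 : (f * κ * f⁻¹) • f • a' = f • a' := conj_smul_eq.2 (hSt k hk).1
      rw [hf', hκ, ← map_mul] at e6
      exact (hf _ (f • a').2 (hπ.smul_eq_iff.1 e6)).elim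
  · have hc0 := hE.cyc
    obtain ⟨⟨x, hx⟩, hg0⟩ := IsCyclic.exists_generator (α := CU (Quo U (Ln U a b) π) ∅ a')
    have hgen : ∀ u ∈ Quo U (Ln U a b) π a', ∃ n : ℤ, x ^ n = u := fun u hu' => by
      obtain ⟨n, hn⟩ := hg0 ⟨u, mem_CU0.2 hu'⟩
      exact ⟨n, congrArg Subtype.val hn⟩
    have hcj : ∀ w ∈ St Y a' b', ∃ n : ℤ, w * x * w⁻¹ = x ^ n := fun w hw => by
      obtain ⟨n, hn⟩ := hgen _ (hw.1 ▸ hR.conj w a' x hx.1)
      exact ⟨n, hn.symm⟩
    obtain ⟨i, hi⟩ := hcj _ (hSt g hg)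
    obtain ⟨j, hj⟩ := hcj _ (hSt k hk)
    set γ := π ⟨g, St_norm h.toNRa hab hg⟩ with hγ
    set κ := π ⟨k, St_norm h.toNRa hab hk⟩ with hκ
    have e1 : γ * κ * x * (γ * κ)⁻¹ = κ * γ * x * (κ * γ)⁻¹ := by
      calc γ * κ * x * (γ * κ)⁻¹ = γ * (κ * x * κ⁻¹) * γ⁻¹ := by group
        _ = x ^ (i * j) := by rw [hj, ← conj_zpow, hi, zpow_mul]
        _ = κ * (γ * x * γ⁻¹) * κ⁻¹ := by rw [hi, ← conj_zpow, hj, mul_comm i, zpow_mul]
        _ = _ := by group
    have e2 : (κ * γ)⁻¹ * (γ * κ) = 1 := by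
      refine eq_one_of_cent hR.toSp hab' (mul_mem (inv_mem (mul_mem (hSt k hk) (hSt g hg)))
        (mul_mem (hSt g hg) (hSt k hk))) fun u hu' => ?_
      obtain ⟨n, rfl⟩ := hgen u hu'
      refine (Commute.zpow_left ?_ n).eq
      calc x * ((κ * γ)⁻¹ * (γ * κ))
          = (κ * γ)⁻¹ * (κ * γ * x * (κ * γ)⁻¹) * (γ * κ) := by group
        _ = _ := by rw [← e1]; group
    rw [hγ, hκ, ← map_mul, ← map_mul, ← map_inv, ← map_mul] at e2
    have e3 : ((k * g)⁻¹ * (g * k)) • c = c := hπ.eq_one_iff.1 e2 c hc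
    rwa [mul_smul, inv_smul_eq_iff] at e3

end Y

section D

variable {D : Subgroup G} (h : NR U p) (hab : a ≠ b) (hD : ED U a b D)
include h hab hD

omit [Finite G] h hab in
theorem ED.sq2 {t : G} (ht : t ∈ D) : t * t = 1 := ((hD.mem t).1 ht).2

omit [Finite G] h hab in
theorem ED.le : D ≤ LS U a b := fun t ht => ((hD.mem t).1 ht).1

omit [Finite G] in
theorem ED.conj {g t : G} (hg : g ∈ normalizer (Xs U a b : Set G)) (ht : t ∈ D) :
    g * t * g⁻¹ ∈ D :=
  (hD.mem _).2 ⟨LS_conj h hab hg (hD.le ht), by rw [conj_mul, hD.sq2 ht, mul_one, mul_inv_cancel]⟩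

omit [Finite G] hab in
theorem ED.uniq {t w : G} (ht : t ∈ D) (hw : w ∈ D) (e : t • a = w • a) : t = w := by
  have := hD.reg _ (D.mul_mem (D.inv_mem hw) ht) a (a_mem h.toSp) (by
    rw [mul_smul, e, inv_smul_smul])
  rwa [inv_mul_eq_one, eq_comm] at this

theorem ED.card_fix {v : G} (hv : v ∈ St G a b) :
    ∃ e, (Fx Ω ({v} : Set G) ∩ Ln U a b).ncard = 2 ^ e := by
  have e : Fx Ω ({v} : Set G) ∩ Ln U a b = orb (D ⊓ centralizer {v}) a := by
    ext c
    constructor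
    · rintro ⟨h1, h2⟩
      obtain ⟨t, ht, rfl⟩ := hD.tr a (a_mem h.toSp) c h2
      refine ⟨t, ⟨ht, mem_centralizer_singleton_iff.2 ?_⟩, rfl⟩
      have := hD.uniq h (hD.conj h hab (St_norm h.toNRa hab hv) ht) ht (by
        rw [mul_smul, mul_smul, (inv_mem hv : v⁻¹ ∈ St G a b).1, mem_Fx.1 h1])
      rw [← mul_inv_eq_iff_eq_mul.1 this]
    · rintro ⟨t, ht, rfl⟩
      exact ⟨mem_Fx.2 (fix_of_comm (mem_centralizer_singleton_iff.1 ht.2) hv.1),
        smul_mem (LS_norm h hab (hD.le ht.1)) (a_mem h.toSp)⟩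
  rw [e, card_orb (D := D ⊓ centralizer {v}) fun t ht => hD.reg t ht.1 a (a_mem h.toSp)]
  exact IsPGroup.iff_card.1 (pg2 fun d hd => hD.sq2 hd.1)

theorem ED.card_line : ∃ e, 0 < e ∧ (Ln U a b).ncard = 2 ^ e := by
  obtain ⟨e, he⟩ := hD.card_fix h hab (one_mem _)
  rw [Set.inter_eq_right.2 fun c _ => mem_Fx.2 (one_smul _ _)] at he
  obtain ⟨m, i, h1, -, h2, -⟩ := h.dvd hab
  refine ⟨e, Nat.pos_of_ne_zero ?_, he⟩
  rintro rfl
  omega

theorem ED.not_dvd {v : G} (hv : v ∈ St G a b) (h2 : v * v = 1) :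
    ¬ p ∣ (Fx Ω ({v} : Set G)).ncard := by
  obtain ⟨i, j, h1, h3, h4⟩ := fix_count h hab hv h2
  obtain ⟨e, he⟩ := hD.card_fix h hab hv
  intro hd
  by_cases hj : j = 1
  · rw [h1, hj, mul_one, ← h3, he] at hd
    have := p_odd h.toNRa a
    rw [(Nat.prime_dvd_prime_iff_eq h.prime Nat.prime_two).1 (h.prime.dvd_of_dvd_pow hd)] at this
    exact absurd this (by decide)
  · obtain ⟨r, hr, hrj⟩ := Nat.exists_prime_and_dvd hj
    rw [h4 r hr hrj] at hrj
    rw [h1, Nat.dvd_add_right (hrj.mul_left i)] at hd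
    exact h.prime.one_lt.ne' (Nat.dvd_one.1 hd)

theorem ED.fpf {s : G} (hs : s ∈ D) (h1 : s ≠ 1) (c : Ω) : s • c ≠ c := by
  intro hc
  have := h.t2.finite
  have hd : p ∣ (Fx Ω ({s} : Set G)).ncard := by
    by_contra hd
    obtain ⟨d, hd1, hd2⟩ := pfix h.prime (h.pg hab) _ (fun x hx d hd => mem_Fx.2
      (fix_of_comm ((h.ls hab).1 (hD.le hs) x hx) (mem_Fx.1 hd))) hd
    exact h1 (hD.reg s hs d hd2 (mem_Fx.1 hd1))
  have h0 : 0 < (Fx Ω ({s} : Set G)).ncard := (Set.ncard_pos (Set.toFinite _)).2 ⟨c, mem_Fx.2 hc⟩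
  obtain ⟨x, y, hx, hy, hxy⟩ := (Set.one_lt_ncard_iff (Set.toFinite _)).1
    (h.prime.one_lt.trans_le (Nat.le_of_dvd h0 hd))
  obtain ⟨g, e1, e2⟩ := h.t2.two hxy hab
  refine hD.not_dvd h hab (v := g * s * g⁻¹) ?_ (by
    rw [conj_mul, hD.sq2 hs, mul_one, mul_inv_cancel]) (by rwa [ncard_Fx_conj])
  rw [← e1, ← e2]
  exact conj_mem_St g ⟨mem_Fx.1 hx, mem_Fx.1 hy⟩

omit [Finite G] in
theorem ED.comm_s {s k : G} (hs : s ∈ D) (hsa : s • a = b) (hk : k ∈ St G a b) :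
    s * k = k * s := by
  have := hD.uniq h (hD.conj h hab (St_norm h.toNRa hab hk) hs) hs (by
    rw [mul_smul, mul_smul, (inv_mem hk : k⁻¹ ∈ St G a b).1, hsa, hk.2])
  rw [← mul_inv_eq_iff_eq_mul.1 this]

omit [Finite G] in
theorem ED.sq_of_conj {s k : G} (hs : s ∈ D) (hsa : s • a = b) (hk : k ∈ St G a b)
    (hc : IsConj s (s * k)) : k * k = 1 := by
  obtain ⟨g, hg⟩ := isConj_iff.1 hc
  have e : s * k * (s * k) = 1 := by rw [← hg, conj_mul, hD.sq2 hs, mul_one, mul_inv_cancel]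
  calc k * k = (s * s) * (k * k) := by rw [hD.sq2 hs, one_mul]
    _ = s * (s * k) * k := by group
    _ = 1 := by rw [hD.comm_s h hab hs hsa hk, ← e]; group

theorem ED.fpf_conj {s j : G} (hs : s ∈ D) (h1 : s ≠ 1) (hc : IsConj s j) (c : Ω) : j • c ≠ c := by
  obtain ⟨g, rfl⟩ := isConj_iff.1 hc
  intro e
  rw [← smul_inv_smul g c, conj_smul_eq] at e
  exact hD.fpf h hab hs h1 _ e

theorem ED.eta (k1 : Kit1.{u}) {s : G} (hs : s ∈ D) (hsa : s • a = b) (χ : St G a b →* ℂˣ)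
    (h1 : ∀ k : St G a b, (k : G) ∈ U a → χ k = 1)
    (h2 : ∀ k : St G a b, IsConj s (s * k) → χ k = 1) (k : St G a b) : χ k = 1 := by
  have hs1 : s ≠ 1 := fun e => hab (by rw [← hsa, e, one_smul])
  refine k1.eta h.toPre s χ hab (hD.sq2 hs) hsa (hD.fpf h hab hs hs1) h1 (fun x y e => ?_) h2 k
  congr 1
  refine Subtype.ext ?_
  rw [e, hD.comm_s h hab hs hsa x.2, mul_assoc, hD.sq2 hs, mul_one]

/-- The two-point stabiliser fixes the line pointwise. -/
theorem ED.fix_line (k1 : Kit1.{u}) {k : G} (hk : k ∈ St G a b) :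
    ∀ c ∈ Ln U a b, k • c = c := by
  obtain ⟨s, hs, hsa⟩ := hD.tr a (a_mem h.toSp) b b_mem
  have hs1 : s ≠ 1 := fun e => hab (by rw [← hsa, e, one_smul])
  obtain ⟨Y, _, _, _, π, hπ⟩ := exists_res (St G a b) (Ln U a b) fun g hg c hc =>
    smul_mem (St_norm h.toNRa hab hg) hc
  refine (hπ.eq_one_iff (g := ⟨k, hk⟩)).1 (by_contra fun hne => ?_)
  obtain ⟨χ, h1, h2⟩ := exists_char π (fun x y => by
    rw [← map_mul, ← map_mul, ← inv_mul_eq_one, ← map_inv, ← map_mul]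
    refine hπ.eq_one_iff.2 fun c hc => ?_
    show (((x : G) * y)⁻¹ * (y * x)) • c = c
    rw [mul_smul, inv_smul_eq_iff]
    exact hD.comm y y.2 x x.2 c hc) hne
  refine h1 (hD.eta h hab k1 hs hsa χ (fun x hx => h2 x (hπ.eq_one_iff.2 fun c hc =>
    hc x ⟨hx, x.2.2⟩)) (fun x hx => h2 x (hπ.eq_one_iff.2 ?_)) _)
  exact hD.inv x x.2 (hD.sq_of_conj h hab hs hsa x.2 hx) s hs (hD.comm_s h hab hs hsa x.2)
    fun c _ => hD.fpf_conj h hab hs hs1 hx c

theorem ED.cent (k1 : Kit1.{u}) {k l : G} (hk : k ∈ St G a b) (hl : l ∈ LS U a b) :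
    k * l = l * k := (h.ls hab).2.2.1 k (hD.fix_line h hab k1 hk) l hl

theorem ED.even : Even (Nat.card (St G a b)) := by
  by_contra ho
  rw [Nat.not_even_iff_odd] at ho
  obtain ⟨s, hs, hsa⟩ := hD.tr a (a_mem h.toSp) b b_mem
  have hs1 : s ≠ 1 := fun e => hab (by rw [← hsa, e, one_smul])
  have hcj : ∀ j, IsConj s j → ∀ g : G, IsConj s (g * j * g⁻¹) := fun j hj g =>
    hj.trans (isConj_iff.2 ⟨g, rfl⟩)
  have hsq : ∀ j, IsConj s j → j * j = 1 := fun j hj => by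
    obtain ⟨g, rfl⟩ := isConj_iff.1 hj
    rw [conj_mul, hD.sq2 hs, mul_one, mul_inv_cancel]
  have hone : ∀ j, IsConj s j → j • a = b → j = s := fun j hj e => by
    have e1 : ∀ x : G, x * x = 1 → x • a = b → x • b = a := fun x h1 h2 => by
      rw [← h2, ← mul_smul, h1, one_smul]
    have hk : s * j ∈ St G a b := ⟨show (s * j) • a = a by rw [mul_smul, e, e1 s (hD.sq2 hs) hsa],
      show (s * j) • b = b by rw [mul_smul, e1 j (hsq j hj) e, hsa]⟩
    have e2 : s * (s * j) = j := by rw [← mul_assoc, hD.sq2 hs, one_mul]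
    have e3 := eq_one_of_odd (hD.sq_of_conj h hab hs hsa hk (e2.symm ▸ hj)) ho
      (congrArg Subtype.val (pow_card_eq_one' (G := St G a b) (x := ⟨_, hk⟩)))
    rw [← e2, e3, mul_one]
  have hJ := H67.K.jobM1 G Ω {j | IsConj s j} h.t2.faith hcj hsq
    (fun j hj => hD.fpf_conj h hab hs hs1 hj) (fun x y hxy => ?_) fun x => ?_
  · let N : Subgroup G :=
      { carrier := {j | j = 1 ∨ IsConj s j}
        one_mem' := Or.inl rfl
        inv_mem' := by
          rintro j (rfl | hj)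
          · exact Or.inl inv_one
          · exact Or.inr (by rwa [inv_eq_of_mul_eq_one_right (hsq j hj)])
        mul_mem' := by
          rintro j k (rfl | hj) hk
          · rwa [one_mul]
          · rcases hk with rfl | hk
            · exact Or.inr (by rwa [mul_one])
            · exact hJ j hj k hk }
    have : N.Normal := ⟨by
      rintro j (rfl | hj) g
      · exact Or.inl (by group)
      · exact Or.inr (hcj j hj g)⟩
    refine h.naff (h.t2.aff_of_comm N (fun e => hs1 (mem_bot.1 (e ▸ (Or.inr (IsConj.refl s) :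
      s ∈ N)))) fun x hx y hy => comm_of_sq (D := N) ?_ hx hy)
    rintro j (rfl | hj)
    · exact one_mul _
    · exact hsq j hj
  · obtain ⟨g, rfl, rfl⟩ := h.t2.two hab hxy
    refine ⟨g * s * g⁻¹, ⟨hcj s (IsConj.refl s) g, conj_smul_eq.2 hsa⟩, fun j hj => ?_⟩
    rw [← hone _ (hcj j hj.1 g⁻¹) (by
      rw [inv_inv, mul_smul, mul_smul, hj.2, inv_smul_smul])]
    group
  · obtain ⟨g, rfl⟩ := h.t2.trans a x
    obtain ⟨m, i, h1, -, -, -, h3⟩ := h.dvd hab
    obtain ⟨e, he, h4⟩ := hD.card_line h hab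
    have hg : g • a ≠ g • b := fun e => hab (smul_left_cancel g e)
    rw [h.t2.card_stab hg, ← h.t2.card_St_eq hab hg, h3, Nat.add_sub_cancel]
    refine ((p_odd h.toNRa a).pow.mul ?_).mul ho
    rw [← Nat.not_even_iff_odd, ← Nat.even_add_one, ← h1, h4]
    exact (Nat.even_pow.2 ⟨even_two, he.ne'⟩)

/-- An involution of the two-point stabiliser fixes exactly the points of the line. -/
theorem ED.fix_eq (k1 : Kit1.{u}) (k2 : Kit2.{u}) (hM : Main.{u}) {k : G} (hk : k ∈ St G a b)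
    (h2 : k * k = 1) (h1 : k ≠ 1) : Fx Ω ({k} : Set G) = Ln U a b := by
  have := h.t2.finite
  have hF : Ln U a b ⊆ Fx Ω ({k} : Set G) := fun c hc => mem_Fx.2 (hD.fix_line h hab k1 hk c hc)
  obtain ⟨m, i, hm, hpm, hm0, -⟩ := h.dvd hab
  have hp2 := (Nat.le_of_dvd hm0 hpm).trans' h.prime.two_le
  obtain ⟨Y, _, _, _, π, hπ, hR⟩ := h.loc {k} (pg_single h2) ⟨k, rfl, h1⟩
    ((by omega : 3 ≤ (Ln U a b).ncard).trans (Set.ncard_le_ncard hF))
  set V := Quo U (Fx Ω ({k} : Set G)) π with hV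
  let a' : Fx Ω ({k} : Set G) := ⟨a, mem_Fx.2 hk.1⟩
  let b' : Fx Ω ({k} : Set G) := ⟨b, mem_Fx.2 hk.2⟩
  have hab' : a' ≠ b' := fun e => hab (congrArg Subtype.val e)
  have hL : LS U a b ≤ centralizer {k} := fun l hl =>
    mem_centralizer_singleton_iff.2 (hD.cent h hab k1 hk hl).symm
  have hZ : Zc U a ≤ LS U a b := Zc_le (a_mem h.toSp)
  let W : Subgroup Y := ((Zc U a).subgroupOf _).map π
  have hW : W ≤ ZU V ∅ a' := by
    rintro _ ⟨z, hz, rfl⟩
    refine ⟨mem_CU0.2 ⟨z, hz.1, rfl⟩, ?_⟩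
    rintro _ ⟨⟨u, hu, rfl⟩, -⟩
    rw [← map_mul, ← map_mul]
    exact congrArg π (Subtype.ext (hz.2 u hu))
  have hW1 : W ≠ ⊥ := fun e => by
    obtain ⟨z, hz, hzb⟩ := exists_z h.toNRa hab
    have : π ⟨z, hL (hZ hz)⟩ ∈ W := ⟨_, hz, rfl⟩
    rw [e, mem_bot] at this
    exact hzb (hπ.eq_one_iff.1 this b b'.2)
  have hWc : ∀ w ∈ St Y a' b', ∀ z ∈ W, w * z = z * w := by
    rintro w hw _ ⟨z, hz, rfl⟩
    obtain ⟨g, rfl⟩ := hπ.surj w
    rw [← map_mul, ← map_mul]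
    exact congrArg π (Subtype.ext (hD.cent h hab k1 (hπ.mem_St.1 hw) (hZ hz)))
  have hLD : ∀ {F : Type} [Field F] [Fintype F] {x y : F → Y} {A B : Subgroup Y}, A ≤ V a' →
      B ≤ V b' → LD x y A B a' b' → W ≤ A → W = A := fun hA hB hl hWA => by
    obtain ⟨-, -, -, h3, -, -, -, -, -, -, -, h4⟩ := k2.bas hR.sr hab' hA hB hl
    refine (h4 W hWA fun c hc w hw => ?_).resolve_left hW1
    rwa [hWc _ (h3 c hc) w hw, mul_inv_cancel_right]
  refine Set.Subset.antisymm ?_ hF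
  rcases (hM Y _ V hR).2 a' b' hab' with ⟨-, E, hE⟩ | ⟨F, _, _, x, y, hl⟩ |
    ⟨F, _, _, x, y, hl, h3, h4, -⟩ | ⟨q, w, hr⟩
  · obtain ⟨h3, ⟨l, h4⟩, -⟩ := k2.aa hR hab' (Set.empty_subset _) hE
    have h5 : (Fx Ω ({k} : Set G)).ncard = 2 ^ l := by
      rw [← h4, h3, CU0, ← k1.card hR a']
      rfl
    obtain ⟨e, he, h6⟩ := hD.card_line h hab
    obtain ⟨i', j, h7, h8, h9⟩ := fix_count h hab hk h2
    rw [Set.inter_eq_right.2 hF] at h8
    refine (Set.eq_of_subset_of_ncard_le hF ?_).ge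
    rw [h5, h6]
    refine Nat.pow_le_pow_right two_pos (two_pow_le he fun r hr hd => ?_)
    rw [← h5, h7, Nat.add_sub_cancel] at hd
    rcases (Nat.Prime.dvd_mul hr).1 hd with hd | hd
    · rwa [← h6, h8, Nat.add_sub_cancel]
    · rwa [h9 r hr hd, ← h6, hm, Nat.add_sub_cancel]
  · intro c hc
    have e := hLD inf_le_left inf_le_left hl (hW.trans inf_le_left)
    by_cases hca : c = a
    · rw [hca]
      exact a_mem h.toSp
    · obtain ⟨u, hu, e1⟩ := hR.tr (a := a') (b := b') (c := ⟨c, hc⟩) hab'.symm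
        fun e => hca (congrArg Subtype.val e)
      obtain ⟨z, hz, rfl⟩ : u ∈ W := e ▸ mem_CU0.2 hu
      have e2 : (z : G) • b = c := hπ.smul_eq_iff.1 e1
      rw [← e2]
      exact smul_mem (LS_norm h hab (hZ hz)) b_mem
  · exfalso
    have hA : ZU V ∅ a' ≤ V a' := inf_le_left.trans inf_le_left
    have hB : ZU V ∅ b' ≤ V b' := inf_le_left.trans inf_le_left
    have e := hLD hA hB hl hW
    obtain ⟨-, h5, -, h6, -⟩ := k2.bas hR.sr hab' hA hB hl
    let M : Subgroup Y := ((LS U a b).subgroupOf _).map π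
    have hx : ∀ c, x c ∈ W := fun c => e ▸ (hl.rx _).2 ⟨c, rfl⟩
    have hxM : ∀ c, x c ∈ M := fun c => map_mono (comap_mono hZ) (hx c)
    have hyM : ∀ c, y c ∈ M := fun c => by
      obtain ⟨g, hg⟩ := hπ.surj (sl2n x y 1)
      obtain ⟨z, hz, e1⟩ := hx (-c)
      have e2 := hl.rel.n_mul_x one_ne_zero (-c)
      rw [inv_one, one_pow, one_mul, neg_neg, ← mul_inv_eq_iff_eq_mul, ← hg, ← e1, ← map_inv,
        ← map_mul, ← map_mul] at e2
      have e3 : (g : G) • a = b := (hπ.smul_eq_iff (x := a') (y := b')).1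
        (hg ▸ (hl.sw 1 one_ne_zero).1)
      exact ⟨_, Zc_le b_mem (e3 ▸ h.zsr.conj g a z hz), e2⟩
    obtain ⟨l, hl1, e1⟩ : sl2h x y (-1) ∈ M :=
      mul_mem (mul_mem (mul_mem (hxM _) (hyM _)) (hxM _))
        (mul_mem (mul_mem (hxM _) (hyM _)) (hxM _))
    have hlS : (l : G) ∈ St G a b := (hπ.mem_St (x := a') (y := b')).1 (e1 ▸ h6 _ (by simp))
    have e2 : sl2h x y (-1) = 1 := by
      refine eq_one_of_odd (by
        rw [hl.rel.h_mul' (by simp) (by simp), neg_mul_neg, one_mul, hl.rel.h_one])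
        (K0_odd (l := l) h hab hl1 (hD.fix_line h hab k1 hlS)) ?_
      rw [← e1, ← map_pow, orderOf_coe, pow_orderOf_eq_one, map_one]
    rw [e2, inf_eq_left.2 fun g _ => mem_centralizer_singleton_iff.2 (by simp)] at h4
    rw [h4, h5] at h3
    have := Fintype.one_lt_card (α := F)
    exact absurd (Nat.pow_right_injective this (show _ ^ 1 = _ ^ 3 by rw [pow_one]; exact h3))
      (by decide)
  · refine (hW1 (eq_bot_iff.2 fun z hz => ?_)).elim
    rw [← hr.disj]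
    exact ⟨hW hz, mem_centralizer_singleton_iff.2 (hWc w hr.st z hz).symm⟩

theorem ED.no4 (k1 : Kit1.{u}) (k2 : Kit2.{u}) (hM : Main.{u}) {k r : G} (hk : k ∈ St G a b)
    (h2 : k * k = 1) (h1 : k ≠ 1) (hr : r ∈ St G a b) (r2 : r * r = 1) (hc : k * r = r * k) :
    r = 1 ∨ r = k := by
  by_contra! hn
  have e1 := hD.fix_eq h hab k1 k2 hM hk h2 h1
  have e2 := hD.fix_eq h hab k1 k2 hM hr r2 hn.1
  have e3 := hD.fix_eq h hab k1 k2 hM (mul_mem hk hr) (by
    rw [mul_assoc, ← mul_assoc r, ← hc, mul_assoc, r2, mul_one, h2]) fun e => hn.2 (by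
      rw [← one_mul r, ← h2, mul_assoc, e, mul_one])
  have e4 : Fx Ω ({k, r} : Set G) = Ln U a b := by
    ext c
    refine ⟨fun hc => e1 ▸ mem_Fx.2 (hc k (by simp)), fun hc g hg => ?_⟩
    rcases hg with e | e
    exacts [e ▸ hD.fix_line h hab k1 hk c hc, e ▸ hD.fix_line h hab k1 hr c hc]
  have e5 := h.wie k r hab hk hr h2 r2 hc
  obtain ⟨m, i, hm, -, hm0, hi, hn⟩ := h.dvd hab
  rw [e1, e2, e3, e4, hm, hn, Nat.add_sub_cancel, Nat.add_sub_cancel] at e5
  have e6 : p ^ i * (m * m * m) = 1 * (m * m * m) := by rw [one_mul]; exact .trans (by ring) e5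
  have := Nat.eq_of_mul_eq_mul_right (by positivity) e6
  omega

theorem ED.false (k1 : Kit1.{u}) (k2 : Kit2.{u}) (hM : Main.{u}) (hE : JobNRE.{u}) : False := by
  have := h.t2.finite
  have h2 : 2 ∣ Nat.card (St G a b) := (hD.even h hab).two_dvd
  obtain ⟨P⟩ : Nonempty (Sylow 2 (St G a b)) := inferInstance
  have : Nontrivial P := (nontrivial_iff_ne_bot _).2 (P.ne_bot_of_dvd_card h2)
  have := P.isPGroup'.center_nontrivial
  obtain ⟨⟨z, hz⟩, hz2⟩ := exists_prime_orderOf_dvd_card' (G := center P) 2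
    (((P.isPGroup'.to_subgroup _).card_eq_or_dvd).resolve_left Finite.one_lt_card.ne')
  set k : G := ((z : St G a b) : G) with hkz
  have hk : k ∈ St G a b := (z : St G a b).2
  have ko : orderOf k = 2 := by
    rw [hkz, orderOf_coe, orderOf_coe]
    exact (orderOf_mk z hz).symm.trans hz2
  have k2' := sq_of_ord2 ko
  have hk1 : k ≠ 1 := fun e => by simp [e] at ko
  let R : Subgroup G := (P : Subgroup (St G a b)).map (St G a b).subtype
  have hRS : R ≤ St G a b := map_subtype_le _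
  have hRk : ∀ r ∈ R, r * k = k * r := by
    rintro _ ⟨r, hr, rfl⟩
    exact congrArg (fun x : P => ((x : St G a b) : G)) (mem_center_iff.1 hz ⟨r, hr⟩)
  have huniq : ∀ r ∈ R, r * r = 1 → r = 1 ∨ r = k := fun r hr r2 =>
    hD.no4 h hab k1 k2 hM hk k2' hk1 (hRS hr) r2 (hRk r hr).symm
  have hF := hD.fix_eq h hab k1 k2 hM hk k2' hk1
  have hf := (h.fx {k} hab (pg_single k2') (by simpa using hk)).1
  obtain ⟨s, hs, hsa⟩ := hD.tr a (a_mem h.toSp) b b_mem
  have hs1 : s ≠ 1 := fun e => hab (by rw [← hsa, e, one_smul])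
  have hDk : ∀ d ∈ D, d * k = k * d := fun d hd => (hD.cent h hab k1 hk (hD.le hd)).symm
  have hcj : ∀ d ∈ D, d ≠ 1 → ∃ g, g * k = k * g ∧ g * s * g⁻¹ = d := fun d hd h1 => by
    have ha : a ∈ Ln U a b := a_mem h.toSp
    have hda := smul_mem (LS_norm h hab (hD.le hd)) ha
    obtain ⟨u, hu, e⟩ := ((hf _).1 (hF ▸ hda)).resolve_left fun e => h1 (hD.reg d hd a ha e)
    have hua := h.fix a u hu.1
    refine ⟨u, mem_centralizer_singleton_iff.1 hu.2, hD.uniq h (hD.conj h hab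
      (mem_norm h.toNRa hab (hua.symm ▸ ha) (e ▸ hda)) hs) hd ?_⟩
    rw [← e, ← hsa, mul_smul, mul_smul, inv_smul_eq_iff.2 hua.symm]
  have hnc : ∀ j, (∀ c : Ω, j • c ≠ c) → ¬ IsConj k j := fun j hj hc => by
    obtain ⟨g, rfl⟩ := isConj_iff.1 hc
    exact hj (g • a) (conj_smul_eq.2 hk.1)
  refine hE G D R k (k1.zst h.toPre k ko) ko ⟨z, z.2, rfl⟩ huniq (pg2 fun _ => hD.sq2)
    (P.isPGroup'.map _) (fun r hr d hd => (hD.cent h hab k1 (hRS hr) (hD.le hd)).symm)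
    (le_antisymm (closure_le _ |>.2 fun d hd => hd.1) fun d hd => subset_closure ⟨hd, hD.sq2 hd⟩)
    ?_ (fun d hd => ?_) (fun d hd e he d2 e2 => ?_) ?_
  · set C := centralizer ({k} : Set G)
    have hSC : D ⊔ R ≤ C := sup_le (fun d hd => mem_centralizer_singleton_iff.2 (hDk d hd))
      fun r hr => mem_centralizer_singleton_iff.2 (hRk r hr)
    have horb : ∀ T : Subgroup G, D ≤ T → T ≤ C → orb T a = Ln U a b := fun T h1 h3 => by
      ext c
      constructor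
      · rintro ⟨g, hg, rfl⟩
        exact hF ▸ mem_Fx.2 (fix_of_comm (mem_centralizer_singleton_iff.1 (h3 hg)) hk.1)
      · intro hc
        obtain ⟨t, ht, e⟩ := hD.tr a (a_mem h.toSp) c hc
        exact ⟨t, h1 ht, e⟩
    have horb2 : orb (stabilizer G a ⊓ C) b = Ln U a b \ {a} := by
      ext c
      constructor
      · rintro ⟨g, hg, rfl⟩
        exact ⟨hF ▸ mem_Fx.2 (fix_of_comm (mem_centralizer_singleton_iff.1 hg.2) hk.2),
          fun e => hab (smul_left_cancel g (hg.1.trans e.symm))⟩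
      · rintro ⟨hc, hca⟩
        obtain ⟨u, hu, e⟩ := ((hf _).1 (hF ▸ hc)).resolve_left hca
        exact ⟨u, ⟨h.fix a u hu.1, hu.2⟩, e⟩
    obtain ⟨e, he, hcard⟩ := hD.card_line h hab
    have e1 := relIndex_mul_relIndex (stabilizer G a ⊓ (D ⊔ R)) (D ⊔ R) C inf_le_right hSC
    have e2 := relIndex_mul_relIndex (stabilizer G a ⊓ (D ⊔ R)) (stabilizer G a ⊓ C) C
      (inf_le_inf_left _ hSC) inf_le_right
    rw [inf_relIndex_right, relIndex_stab, horb _ le_sup_left hSC] at e1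
    rw [inf_relIndex_right (stabilizer G a), relIndex_stab, horb _ (le_sup_left.trans hSC) le_rfl,
      ← e1, mul_comm] at e2
    rw [← Nat.eq_of_mul_eq_mul_left (by rw [hcard]; positivity) e2]
    refine Odd.of_dvd_nat ?_ (relIndex_dvd_of_le_left (H := R) _
      (le_inf (hRS.trans inf_le_left) le_sup_right))
    rw [← relIndex_mul_relIndex R (stabilizer G b ⊓ (stabilizer G a ⊓ C)) _
      (le_inf (hRS.trans inf_le_right) (le_inf (hRS.trans inf_le_left) (le_sup_right.trans hSC)))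
      inf_le_right, inf_relIndex_right, relIndex_stab, horb2,
      Set.ncard_sdiff_singleton_of_mem (a_mem h.toSp), hcard]
    refine Odd.mul (Odd.of_dvd_nat (n := R.relIndex (St G a b)) ?_ (Dvd.intro _
      (relIndex_mul_relIndex R _ (St G a b) (le_inf (hRS.trans inf_le_right)
        (le_inf (hRS.trans inf_le_left) (le_sup_right.trans hSC))) fun g hg => ⟨hg.2.1, hg.1⟩))) ?_
    · rw [relIndex, ← comap_subtype, comap_map_eq_self_of_injective (subtype_injective _),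
        ← Nat.not_even_iff_odd, even_iff_two_dvd]
      exact P.not_dvd_index
    · exact Nat.Even.sub_odd (Nat.one_le_two_pow) (Nat.even_pow.2 ⟨even_two, he.ne'⟩) odd_one
  · by_cases h1 : d = 1
    · rw [h1, isConj_one_left]
      exact hk1
    · exact hnc d (hD.fpf h hab hd h1)
  · obtain ⟨g, g1, rfl⟩ := hcj d hd fun e => by simp [e] at d2
    obtain ⟨g', g2, rfl⟩ := hcj e he fun e => by simp [e] at e2
    refine ⟨g' * g⁻¹, ?_, by group⟩
    exact ((show Commute g' k from g2).mul_left (show Commute g k from g1).inv_left).eq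
  · by_cases hsk : IsConj s (s * k)
    · refine Or.inl fun d hd d2 => hnc _ (hD.fpf_conj h hab hs hs1 (hsk.trans ?_))
      obtain ⟨g, g1, rfl⟩ := hcj d hd fun e => by simp [e] at d2
      exact isConj_iff.2 ⟨g, by rw [← mul_assoc, mul_assoc (g * s), mul_assoc (g * s),
        (show Commute g k from g1).inv_left.eq]⟩
    · refine Or.inr fun hc => ?_
      have hP : IsCyclic P := isCyclic_of_surjective _
        (equivMapOfInjective (P : Subgroup (St G a b)) _ (subtype_injective _)).symm.surjective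
      have hmin : (Nat.card (St G a b)).minFac = 2 := (Nat.minFac_eq_two_iff _).2 h2
      set f := MonoidHom.transferSylow P (hP.normalizer_le_centralizer hmin)
      have hfz : f z ≠ 1 := fun e => hk1 (congrArg Subtype.val
        (disjoint_def.1 (hP.isComplement' hmin).disjoint e z.2))
      obtain ⟨χ, c1, c2⟩ := exists_char f (fun x y => IsCyclic.isMulCommutative.is_comm.comm _ _) hfz
      refine c1 (hD.eta h hab k1 hs hsa χ (fun x hx => c2 x ?_) (fun x hx => ?_) _)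
      · obtain ⟨n, hn⟩ := P.isPGroup' (f x)
        have e1 : x ^ Nat.card (U a) = 1 := Subtype.ext
          (congrArg (Subtype.val : U a → G) (pow_card_eq_one' (G := U a) (x := ⟨x, hx⟩)))
        refine orderOf_eq_one_iff.1 (Nat.eq_one_of_dvd_coprimes (Nat.Coprime.pow_left n
          (Nat.coprime_two_left.2 (h.odd a))) (orderOf_dvd_of_pow_eq_one hn)
          (orderOf_dvd_of_pow_eq_one (by rw [← map_pow, e1, map_one])))
      · have x2 := hD.sq_of_conj h hab hs hsa x.2 hx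
        obtain ⟨g, hg⟩ := H18.exists_conj_mem_sylow P (x := x)
          ⟨1, Subtype.ext (by simpa [sq] using x2)⟩
        rcases huniq ((g : G) * x * (g : G)⁻¹) ⟨_, hg, rfl⟩ (by
          rw [conj_mul, x2, mul_one, mul_inv_cancel]) with e | e
        · rw [(Subtype.ext (by simpa using e) : x = 1), map_one]
        · refine (hsk (hx.trans (isConj_iff.2 ⟨g, ?_⟩))).elim
          rw [← e, ← mul_assoc, ← hD.comm_s h hab hs hsa g.2]
          group

end D

end NR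

theorem jobNRA (k1 : Kit1.{u}) (k2 : Kit2.{u}) (hM : Main.{u}) (hE : JobNRE.{u}) : JobNRA.{u} := by
  intro G Ω _ _ _ U p a b Y _ _ _ π a' E h hab ha hπ hR hA
  obtain ⟨D, hD⟩ := exists_ED k2 h hab ha hπ hR hA
  exact hD.false h hab k1 k2 hM hE

end H1.NRA
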