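import Cfsg.Agent.H31.O7K
import Cfsg.Agent.H5.O7Sx
import Cfsg.Agent.H40.ASStd

/-! O7 (blueprints/O7.md), job AN: alternating groups act on the standard module. -/

set_option autoImplicit false
set_option linter.unusedSectionVars false

namespace H1.O7N

open H56 H31.O7 QuadraticMap Module Equiv Equiv.Perm H57 H40.AS

universe u

variable {K : Type u} [Field K] {V : Type u} [AddCommGroup V] [Module K V] {Q : QuadraticForm K V}
  [FiniteDimensional K V]

theorem sq_mul {g k : O Q} (gg : g * g = 1) (kk : k * k = 1) (c : Commute g k) :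
    g * k * (g * k) = 1 := by rw [c.symm.mul_mul_mul_comm, gg, kk, mul_one]

theorem twice {g : O Q} (gg : g * g = 1) (v : V) : g (g v) = v := by
  rw [← O.mul_apply, gg, O.one_apply]

theorem sw {g k : O Q} (c : Commute g k) (v : V) : k (g v) = g (k v) := by
  rw [← O.mul_apply, ← c.eq, O.mul_apply]

theorem line (h2 : (2 : K) ≠ 0) (nd : Q.polarBilin.Nondegenerate) {g k : O Q} (gg : g * g = 1)
    (kk : k * k = 1) (c : Commute g k) (r1 : g.rk = 2) (r2 : k.rk = 2) (r3 : (g * k).rk = 2) :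
    ∃ w, Q w ≠ 0 ∧ g w = -w ∧ k w = -w ∧ ∀ v, g v = -v → k v = -v → ∃ a : K, v = a • w := by
  have m1 := fun v => mem_mov_of_inv (v := v) h2 gg
  have m2 := fun v => mem_mov_of_inv (v := v) h2 kk
  have m3 := fun v => mem_mov_of_inv (v := v) h2 (sq_mul gg kk c)
  have tg := twice gg
  have tk := twice kk
  have s := sw c
  rw [O.rk] at r1 r2 r3
  have d0 : finrank K (g.mov ⊓ k.mov :) ≠ 0 := fun e => by
    have e0 : ∀ v, g v = -v → k v = -v → v = 0 := fun v a b => by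
      have : v ∈ g.mov ⊓ k.mov := ⟨(m1 v).2 a, (m2 v).2 b⟩
      rwa [Submodule.finrank_eq_zero.1 e, Submodule.mem_bot] at this
    have e1 : g.mov = (g * k).mov := Submodule.eq_of_le_of_finrank_eq (fun v hv => by
      rw [m1] at hv
      have := e0 (v - k v) (by rw [map_sub, ← s, hv, map_neg]; abel) (by rw [map_sub, tk]; abel)
      rw [m3, O.mul_apply, ← sub_eq_zero.1 this, hv]) (by omega)
    have e2 : k.mov = (g * k).mov := Submodule.eq_of_le_of_finrank_eq (fun v hv => by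
      rw [m2] at hv
      have := e0 (v - g v) (by rw [map_sub, tg]; abel) (by rw [map_sub, s, hv, map_neg]; abel)
      rw [m3, O.mul_apply, hv, map_neg, ← sub_eq_zero.1 this]) (by omega)
    rw [e1, e2, inf_idem] at e
    omega
  have d1 := Submodule.finrank_mono (inf_le_left : g.mov ⊓ k.mov ≤ _)
  have d2 : finrank K (g.mov ⊓ k.mov :) ≠ 2 := fun e => by
    have e1 := Submodule.eq_of_le_of_finrank_eq (inf_le_left : g.mov ⊓ k.mov ≤ _) (by omega)
    have e2 := Submodule.eq_of_le_of_finrank_eq (inf_le_right : g.mov ⊓ k.mov ≤ _) (by omega)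
    have : g * k = 1 := O.ext fun v => by
      have a := (m2 _).1 (e2 ▸ e1.symm ▸ g.sub_mem_mov v : g v - v ∈ k.mov)
      have b := (m1 _).1 (e1 ▸ e2.symm ▸ k.sub_mem_mov v : k v - v ∈ g.mov)
      rw [map_sub] at a b
      rw [s] at a
      refine smul_right_injective V h2 ?_
      simp only [two_smul, O.mul_apply, O.one_apply]
      linear_combination (norm := abel) a + b
    rw [← O.rk, this, O.rk_one] at r3
    omega
  obtain ⟨⟨w, a, b⟩, w0, hw⟩ := finrank_eq_one_iff'.1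
    (show finrank K (g.mov ⊓ k.mov :) = 1 by omega)
  replace a := (m1 _).1 a
  replace b := (m2 _).1 b
  have all : ∀ v, g v = -v → k v = -v → ∃ a : K, v = a • w := fun v x y =>
    (hw ⟨v, (m1 v).2 x, (m2 v).2 y⟩).imp fun _ e => (congrArg Subtype.val e).symm
  refine ⟨w, fun q => w0 (Subtype.ext (nd.1 w fun v => ?_)), a, b, all⟩
  obtain ⟨t, ht⟩ := all (v - g v - k v + g (k v)) (by simp only [map_add, map_sub, tg]; abel)
    (by simp only [map_add, map_sub, s, tk]; abel)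
  have p1 : ∀ y, polar Q w (g y) = -polar Q w y := fun y => by
    rw [← g.map_polar, tg, a, polar_neg_left]
  have p2 : polar Q w (k v) = -polar Q w v := by rw [← k.map_polar, tk, b, polar_neg_left]
  have := congrArg (polar Q w) ht
  rw [polar_add_right, polar_sub_right, polar_sub_right, p1, p1, p2, polar_smul_right, polar_self',
    q, smul_eq_mul] at this
  refine mul_left_cancel₀ (mul_ne_zero h2 h2) ?_
  rw [polarBilin_apply_apply]
  linear_combination this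

theorem fix3 (h2 : (2 : K) ≠ 0) (nd : Q.polarBilin.Nondegenerate) {g k h : O Q} (gg : g * g = 1)
    (kk : k * k = 1) (c : Commute g k) (r1 : g.rk = 2) (r2 : k.rk = 2) (r3 : (g * k).rk = 2)
    (c1 : Commute g h) (c2 : Commute k h) (h3 : h ^ 3 = 1) {v : V} (hv : g v = -v) : h v = v := by
  have A : ∀ {k : O Q}, k * k = 1 → Commute g k → k.rk = 2 → (g * k).rk = 2 → Commute k h →
      ∀ v, g v = -v → k v = -v → h v = v := fun {k} kk c r2 r3 c2 v a b => by
    obtain ⟨w, q, w1, w2, all⟩ := line h2 nd gg kk c r1 r2 r3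
    obtain ⟨t, ht⟩ := all (h w) (by rw [← sw c1, w1, map_neg]) (by rw [← sw c2, w2, map_neg])
    have e1 : t * t = 1 := mul_right_cancel₀ q (by rw [← Q_smul, ← ht, h.map_Q, one_mul])
    have e2 : h (h (h w)) = w := by
      rw [← O.mul_apply, ← O.mul_apply, ← pow_three', h3, O.one_apply]
    simp only [ht, map_smul, smul_smul, e1, one_mul] at e2
    obtain ⟨s, rfl⟩ := all v a b
    rw [map_smul, ht, e2]
  have e1 := A kk c r2 r3 c2 (v - k v) (by rw [map_sub, ← sw c, hv, map_neg]; abel)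
    (by rw [map_sub, twice kk]; abel)
  have e2 := A (sq_mul gg kk c) ((Commute.refl g).mul_right c) r3
    (by rw [← mul_assoc, gg, one_mul, r2]) (c1.mul_left c2) (v + k v)
    (by rw [map_add, ← sw c, hv, map_neg]; abel)
    (by rw [O.mul_apply, map_add, twice kk, map_add, ← sw c, hv, map_neg]; abel)
  rw [map_sub] at e1
  rw [map_add] at e2
  refine smul_right_injective V h2 ?_
  simp only [two_smul]
  linear_combination (norm := abel) e1 + e2

variable {Ω : Type} [Fintype Ω] [DecidableEq Ω] {p : ℕ} {ρ : alternatingGroup Ω →* O Q}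

/-- An even permutation of eight points. -/
def e8 (σ : Perm (Fin 8)) (h : sign σ = 1 := by decide +kernel) : alternatingGroup (Fin 8) := ⟨σ, h⟩

/-- The double transposition. -/
def dd {a b c d : Ω} (h : a ≠ b ∧ a ≠ c ∧ a ≠ d ∧ b ≠ c ∧ b ≠ d ∧ c ≠ d) : alternatingGroup Ω :=
  ⟨_, DT.sign ⟨a, b, c, d, h, rfl⟩⟩

theorem dd_apply {a b c d : Ω} (h : a ≠ b ∧ a ≠ c ∧ a ≠ d ∧ b ≠ c ∧ b ≠ d ∧ c ≠ d) (y : Ω) :
    (dd h).1 y = if y = a then b else if y = b then a else if y = c then d else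
      if y = d then c else y := by
  simp only [dd, mul_apply, swap_apply_def]
  grind

theorem dd_conj (h6 : 6 ≤ Fintype.card Ω) {a b c d a' b' c' d' : Ω}
    (h : a ≠ b ∧ a ≠ c ∧ a ≠ d ∧ b ≠ c ∧ b ≠ d ∧ c ≠ d)
    (h' : a' ≠ b' ∧ a' ≠ c' ∧ a' ≠ d' ∧ b' ≠ c' ∧ b' ≠ d' ∧ c' ≠ d') : IsConj (dd h) (dd h') := by
  obtain ⟨σ, hs, e⟩ := exists_even (emb4 h) (emb4 h') (by simpa using h6)
  refine isConj_iff.2 ⟨⟨σ, hs⟩, Subtype.ext ?_⟩
  change σ * (swap a b * swap c d) * σ⁻¹ = swap a' b' * swap c' d'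
  rw [← conj_mul, ← swap_apply_apply, ← swap_apply_apply, show σ a = a' from e 0,
    show σ b = b' from e 1, show σ c = c' from e 2, show σ d = d' from e 3]

/-- Elements of `A₈`. -/
def z8 := e8 (swap 0 1 * swap 2 3)
def w8 := e8 (List.formPerm [1, 2, 3])
def y8 := e8 (List.formPerm [4, 5, 6])
def c8 := e8 (swap 1 4 * swap 2 5 * swap 3 6 * swap 0 7)

theorem a8 : z8 ≠ 1 ∧ z8 * z8 = 1 ∧ w8 ^ 3 = 1 ∧ z8 * H20.LD.cp w8 1 z8 = H20.LD.cp w8 1 z8 * z8 ∧
    z8 * H20.LD.cp w8 1 z8 * H20.LD.cp w8 2 z8 = 1 ∧ y8 ≠ 1 ∧ y8 ^ 3 = 1 ∧ y8 * z8 = z8 * y8 ∧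
    y8 * w8 = w8 * y8 ∧ c8 * w8 * c8⁻¹ = y8 := by
  unfold H20.LD.cp
  decide +kernel

theorem rk_dd (h7 : JobC7.{u}) (h : Rp p ρ) (h8 : 8 ≤ Fintype.card Ω) {a b c d : Ω}
    (hd : a ≠ b ∧ a ≠ c ∧ a ≠ d ∧ b ≠ c ∧ b ≠ d ∧ c ≠ d) : (ρ (dd hd)).rk = 2 := by
  obtain ⟨f, -⟩ := exists_emb (Finset.univ : Finset Ω) (m := 8) (by simpa using h8)
  obtain ⟨b1, b2, b3, b4, b5, b6, b7, b8, b9, b0⟩ := a8
  have ne : ∀ {g}, g ≠ 1 → ia f g ≠ 1 := fun e => (map_ne_one_iff _ (ia_inj f)).2 e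
  have z2 : ia f z8 * ia f z8 = 1 := by rw [← map_mul, b2, map_one]
  have cm : ∀ {g g'}, g * g' = g' * g → Commute (ia f g) (ia f g') := fun e => Commute.map e _
  have r : (ρ (ia f z8)).rk = 2 := (h.w24 _ (ne b1) z2).resolve_right fun e => by
    obtain ⟨a1, a2⟩ := h7 p K V Q _ ρ h (ia f z8) (ia f w8) ⟨⟨by rw [← map_pow, b3, map_one], by
      rw [← map_cp]; exact cm b4, by
      rw [← map_cp, ← map_cp, ← map_mul, ← map_mul, b5, map_one]⟩, ne b1, z2⟩ e
    have a3 := a2 (ia f y8) (ne b6) (by rw [← map_pow, b7, map_one]) (cm b8) (cm b9)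
    rw [Rp.rk_conj ((ia f).map_isConj (isConj_iff.2 ⟨c8, b0⟩)), a3] at a1
    omega
  have q : f 0 ≠ f 1 ∧ f 0 ≠ f 2 ∧ f 0 ≠ f 3 ∧ f 1 ≠ f 2 ∧ f 1 ≠ f 3 ∧ f 2 ≠ f 3 := by simp
  rw [← r, show ia f z8 = dd q from Subtype.ext (by
    rw [coe_ia, z8, e8, map_mul, em_swap, em_swap]; rfl)]
  exact Rp.rk_conj (dd_conj (by omega) hd q)

theorem fix_cy (h7 : JobC7.{u}) (h : Rp p ρ) (h8 : 8 ≤ Fintype.card Ω) {a b c d i α β : Ω}
    (hd : a ≠ b ∧ a ≠ c ∧ a ≠ d ∧ b ≠ c ∧ b ≠ d ∧ c ≠ d) (h1 : α ≠ β) (hi : i ≠ α ∧ i ≠ β)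
    (hj : ∀ y ∈ [i, α, β], y ≠ a ∧ y ≠ b ∧ y ≠ c ∧ y ≠ d) {v : V} (hv : ρ (dd hd) v = -v) :
    ρ (cy hi) v = v := by
  have q : a ≠ c ∧ a ≠ b ∧ a ≠ d ∧ c ≠ b ∧ c ≠ d ∧ b ≠ d := by grind
  have q' : a ≠ d ∧ a ≠ b ∧ a ≠ c ∧ d ≠ b ∧ d ≠ c ∧ b ≠ c := by grind
  simp only [List.mem_cons, List.not_mem_nil, or_false, forall_eq_or_imp, forall_eq] at hj
  have ext : ∀ {g g' : alternatingGroup Ω}, (∀ y, g.1 y = g'.1 y) → g = g' := fun e =>
    Subtype.ext (Equiv.ext e)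
  have cyy : ∀ y, (cy hi).1 y = _ := cyc_apply h1 hi
  refine fix3 (k := ρ (dd q)) h.two h.nd ?_ ?_ (Commute.map ?_ _) (rk_dd h7 h h8 hd)
    (rk_dd h7 h h8 q) ?_ (Commute.map ?_ _) (Commute.map ?_ _) ?_ hv
  · rw [← map_mul, ← map_one ρ]
    exact congrArg _ (ext fun y => by simp [dd_apply]; grind)
  · rw [← map_mul, ← map_one ρ]
    exact congrArg _ (ext fun y => by simp [dd_apply]; grind)
  · exact ext fun y => by simp [dd_apply]; grind
  · rw [← map_mul, ← rk_dd h7 h h8 q']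
    exact congrArg (fun g => (ρ g).rk) (ext fun y => by simp [dd_apply]; grind)
  · exact ext fun y => by simp [dd_apply, cyy]; grind
  · exact ext fun y => by simp [dd_apply, cyy]; grind
  · rw [← map_pow, show cy hi ^ 3 = 1 from Subtype.ext (cyc_pow_three h1 hi), map_one]

theorem exists_wv (h7 : JobC7.{u}) (h : Rp p ρ) (h8 : 8 ≤ Fintype.card Ω) :
    ∃ (wv : Ω → Ω → V) (N : K), N ≠ 0 ∧ (∀ i j, i ≠ j → Q (wv i j) = N) ∧
      (∀ g i j, i ≠ j → ρ g (wv i j) = wv (g.1 i) (g.1 j)) ∧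
      ∀ i j, i ≠ j → wv j i = -wv i j := by
  obtain ⟨f, -⟩ := exists_emb (Finset.univ : Finset Ω) (m := 8) (by simpa using h8)
  have q1 : f 0 ≠ f 1 ∧ f 0 ≠ f 2 ∧ f 0 ≠ f 3 ∧ f 1 ≠ f 2 ∧ f 1 ≠ f 3 ∧ f 2 ≠ f 3 := by simp
  have q2 : f 0 ≠ f 1 ∧ f 0 ≠ f 4 ∧ f 0 ≠ f 5 ∧ f 1 ≠ f 4 ∧ f 1 ≠ f 5 ∧ f 4 ≠ f 5 := by simp
  have q3 : f 2 ≠ f 3 ∧ f 2 ≠ f 4 ∧ f 2 ≠ f 5 ∧ f 3 ≠ f 4 ∧ f 3 ≠ f 5 ∧ f 4 ≠ f 5 := by simp
  have ext : ∀ {g g' : alternatingGroup Ω}, (∀ y, g.1 y = g'.1 y) → g = g' := fun e =>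
    Subtype.ext (Equiv.ext e)
  obtain ⟨w, q, w1, w2, -⟩ := line (g := ρ (dd q1)) (k := ρ (dd q2)) h.two h.nd
    (by rw [← map_mul, ← map_one ρ]; exact congrArg _ (ext fun y => by simp [dd_apply]; grind))
    (by rw [← map_mul, ← map_one ρ]; exact congrArg _ (ext fun y => by simp [dd_apply]; grind))
    (Commute.map (ext fun y => by simp [dd_apply]; grind) _) (rk_dd h7 h h8 _) (rk_dd h7 h h8 _)
    (by
      rw [← map_mul, ← rk_dd h7 h h8 q3]
      exact congrArg (fun g => (ρ g).rk) (ext fun y => by simp [dd_apply]; grind))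
  have q67 : f 6 ≠ f 7 := by simp
  have hw : ∀ g : alternatingGroup Ω, g.1 (f 0) = f 0 → g.1 (f 1) = f 1 → ρ g w = w :=
    fun g h1 h2 => by
    have := mem_closure_cyc q67
      (Finset.univ.filter fun i => i ≠ f 6 ∧ i ≠ f 7 ∧ i ≠ f 0 ∧ i ≠ f 1)
      (fun i hi => by grind) g.2 fun y hy => by
        have : y = f 0 ∨ y = f 1 := by simp at hy; grind
        grind
    have h3 : g.1 ∈ ((MulAction.stabilizer (O Q) w).comap ρ).map (alternatingGroup Ω).subtype := by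
      refine (Subgroup.closure_le _).2 ?_ this
      rintro _ ⟨i, hi, rfl⟩
      simp only [Finset.coe_filter, Finset.mem_univ, true_and, Set.mem_ofPred_eq] at hi
      refine ⟨cy ⟨hi.1, hi.2.1⟩, ?_, rfl⟩
      by_cases e : i = f 2 ∨ i = f 3
      · exact fix_cy h7 h h8 q2 q67 _ (by rcases e with rfl | rfl <;> simp) w2
      · exact fix_cy h7 h h8 q1 q67 _ (by simp; tauto) w1
    obtain ⟨g', h4, h5⟩ := h3
    exact (show g' = g from Subtype.ext h5) ▸ h4
  have h1 : ∀ i j, ∃ g : alternatingGroup Ω, i ≠ j → g.1 (f 0) = i ∧ g.1 (f 1) = j := fun i j => by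
    by_cases h : i = j
    · exact ⟨1, fun e => absurd h e⟩
    · exact (exists2 (by omega) q1.1 h).imp fun g hg _ => hg
  choose t ht using h1
  have eqv : ∀ (g : alternatingGroup Ω) i j, i ≠ j →
      ρ g (ρ (t i j) w) = ρ (t (g.1 i) (g.1 j)) w := fun g i j h => by
    have h2 := ht _ _ (g.1.injective.ne h)
    have h3 := hw ((t (g.1 i) (g.1 j))⁻¹ * (g * t i j))
      (by simp [(ht i j h).1, Equiv.symm_apply_eq, h2.1])
      (by simp [(ht i j h).2, Equiv.symm_apply_eq, h2.2])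
    rwa [map_mul, map_inv, O.mul_apply, O.inv_apply_eq, map_mul, O.mul_apply] at h3
  refine ⟨fun i j => ρ (t i j) w, Q w, q, fun i j _ => O.map_Q _ _, eqv, fun i j e => ?_⟩
  obtain ⟨g, rfl, rfl⟩ := exists2 (by omega) q1.1 e
  have a := eqv (dd q1) _ _ q1.1
  have b := hw _ (ht _ _ q1.1).1 (ht _ _ q1.1).2
  rw [b, w1, dd_apply, dd_apply, if_pos rfl, if_neg q1.1.symm, if_pos rfl] at a
  simp only
  rw [← eqv _ _ _ q1.1, ← eqv _ _ _ q1.1.symm, ← a, b, map_neg]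

theorem tri (h7 : JobC7.{u}) (h : Rp p ρ) (h8 : 8 ≤ Fintype.card Ω) {wv : Ω → Ω → V}
    (eqv : ∀ g i j, i ≠ j → ρ g (wv i j) = wv (g.1 i) (g.1 j))
    (an : ∀ i j, i ≠ j → wv j i = -wv i j) {a b c : Ω} (hd : a ≠ b ∧ a ≠ c ∧ b ≠ c) :
    wv a c - wv b c = wv a b := by
  have R : ∀ i j m m' : Ω, i ≠ j ∧ i ≠ m ∧ i ≠ m' ∧ j ≠ m ∧ j ≠ m' ∧ m ≠ m' →
      wv i m - wv j m = wv i m' - wv j m' := fun i j m m' hd => by
    obtain ⟨c, hc⟩ := exists_new [i, j, m, m'] (by simp; omega)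
    obtain ⟨d, hd'⟩ := exists_new [i, j, m, m', c] (by simp; omega)
    obtain ⟨e, he⟩ := exists_new [i, j, m, m', c, d] (by simp; omega)
    simp only [List.mem_cons, List.not_mem_nil, or_false, not_or] at hc hd' he
    have q : i ≠ j ∧ i ≠ c ∧ i ≠ d ∧ j ≠ c ∧ j ≠ d ∧ c ≠ d := by grind
    have q' : m ≠ m' ∧ m ≠ e := by grind
    have f1 : ∀ y, y ≠ m → y ≠ m' → y ≠ e → (cy q').1 y = y := fun y => cyc_of_ne
    have := fix_cy h7 h h8 q (by grind) q' (by simp; grind) (v := wv i m - wv j m) (by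
      rw [map_sub, eqv _ _ _ hd.2.1, eqv _ _ _ hd.2.2.2.1, neg_sub]
      congr 2 <;> rw [dd_apply] <;> grind)
    rw [map_sub, eqv _ _ _ hd.2.1, eqv _ _ _ hd.2.2.2.1, f1 i (by grind) (by grind) (by grind),
      f1 j (by grind) (by grind) (by grind), show (cy q').1 m = m' from cyc_self (by grind) q']
      at this
    exact this.symm
  obtain ⟨d, e⟩ := exists_new [a, b, c] (by simp; omega)
  simp only [List.mem_cons, List.not_mem_nil, or_false, not_or] at e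
  have r1 := R a c b d (by grind)
  have r2 := R d a c b (by grind)
  have r3 := R a b d c (by grind)
  rw [an b c hd.2.2] at r1
  rw [an c d (by grind), an b d (by grind)] at r2
  refine smul_right_injective V h.two ?_
  simp only [two_smul]
  linear_combination (norm := abel) -r1 - r2 - r3

theorem sl {n : ℕ} {x : Fin n → V} {N : K} (h2 : (2 : K) ≠ 0) (nd : Q.polarBilin.Nondegenerate)
    (d : finrank K V = 7) (hN : N ≠ 0) (h : Sx Q x N) (hn : 2 ≤ n)
    (sp : Submodule.span K (RA x) = ⊤) : SL Q (RA x) N where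
  two := h2
  nd := nd
  dim := d
  ne := hN
  norm := by rintro _ ⟨i, j, e, rfl⟩; exact h i j e
  cl := by
    rintro _ ⟨i, j, e, rfl⟩ _ ⟨k, l, e', rfl⟩
    exact ⟨_, _, (swap i j).injective.ne e', H5.O7.refl_d hN h e k l⟩
  nonempty := ⟨_, ⟨0, by omega⟩, ⟨1, by omega⟩, by simp, rfl⟩
  irr := fun U hU => by
    by_cases c : ∃ i j, i ≠ j ∧ x i - x j ∈ U
    · obtain ⟨i, j, e, m⟩ := c
      have : ∀ l, x i - x l ∈ U := fun l => by
        by_cases e1 : i = l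
        · simp [e1]
        by_cases e2 : j = l
        · exact e2 ▸ m
        refine (hU _ ⟨i, l, e1, rfl⟩).resolve_right fun a => ?_
        have := mem_perp'.1 a _ m
        simp [H5.O7.polar_d h, H5.O7.kr, e, Ne.symm e1, Ne.symm e2, hN] at this
      refine .inr (top_le_iff.1 (sp.ge.trans (Submodule.span_le.2 ?_)))
      rintro _ ⟨k, l, -, rfl⟩
      simpa using sub_mem (this l) (this k)
    · have : perp Q U = ⊤ := top_le_iff.1 (sp.ge.trans (Submodule.span_le.2 (by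
        rintro _ ⟨k, l, e, rfl⟩
        exact (hU _ ⟨k, l, e, rfl⟩).resolve_left fun a => c ⟨k, l, e, a⟩)))
      exact .inl (eq_bot_iff.2 fun u m => nd.1 u fun v => mem_perp.1 (this.ge trivial) u m)
  val := by
    rintro _ ⟨i, j, e, rfl⟩ _ ⟨k, l, e', rfl⟩
    rw [H5.O7.polar_d h]
    by_cases a1 : i = k <;> by_cases a2 : j = l <;> by_cases a3 : i = l <;> by_cases a4 : j = k <;>
      simp_all [H5.O7.kr]

theorem jobAN : JobAN.{u} := fun h7 p K _ V _ _ _ Q Γ _ _ ρ h n e hn => by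
  have h' := h.trans e
  have h8 : 8 ≤ Fintype.card (Fin n) := by simpa using hn
  obtain ⟨wv, N, hN, q, eqv, an⟩ := exists_wv h7 h' h8
  let o : Fin n := ⟨0, by omega⟩
  let x : Fin n → V := fun i => if i = o then 0 else wv i o
  have hx : ∀ i j, i ≠ j → x i - x j = wv i j := fun i j e => by
    by_cases a : i = o
    · subst a; simp [x, e.symm, an _ _ e]
    by_cases b : j = o
    · subst b; simp [x, e]
    simp only [x, a, b, if_false]
    exact tri h7 h' h8 eqv an ⟨e, a, b⟩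
  have act : ∀ g i j, ρ g (x i - x j) = x ((e g).1 i) - x ((e g).1 j) := fun g i j => by
    by_cases a : i = j
    · simp [a]
    rw [hx _ _ a, hx _ _ ((e g).1.injective.ne a), ← eqv _ _ _ a]
    simp
  have sx : Sx Q x N := fun i j a => by rw [hx _ _ a, q _ _ a]
  have sp : Submodule.span K (RA x) = ⊤ := (h.irr _ fun g v hv => by
    refine (Submodule.map_span_le (ρ g).lin _ _).2 ?_ ⟨v, hv, rfl⟩
    rintro _ ⟨i, j, a, rfl⟩
    exact Submodule.subset_span ⟨_, _, (e g).1.injective.ne a, act g i j⟩).resolve_left fun a => by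
      have b : o ≠ ⟨1, by omega⟩ := by simp [o]
      have := Submodule.span_eq_bot.1 a _ ⟨_, _, b, rfl⟩
      exact hN (by rw [← sx _ _ b, this, map_zero])
  exact ⟨x, N, sx, sl h.two h.nd h.dim hN sx (by omega) sp, sp, act⟩

end H1.O7N
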