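/- Tower O7, slot MU3: the configuration of `U₃(q)`. -/
import Cfsg.Agent.H31.O7K
import Cfsg.Agent.H81.LDHeis
import Cfsg.Agent.H57.SUGen

set_option autoImplicit false
set_option linter.unusedSectionVars false

namespace H1.O7U

open Matrix Cfsg H65.Phan H59 H31.O7 Subgroup
open H20.LD (cp Heis)
open H81.LDH (uu)
open scoped MatrixGroups commutatorElement

theorem t3_map {Γ Γ' : Type*} [Group Γ] [Group Γ'] {x w : Γ} (h : T3 x w) (f : Γ →* Γ') :
    T3 (f x) (f w) :=
  ⟨by rw [← map_pow, h.w3, map_one], by rw [← map_cp]; exact h.comm.map f,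
    by rw [← map_cp, ← map_cp, ← map_mul, ← map_mul, h.prod, map_one]⟩

/-- four scalars which are different up to sign -/
theorem exists_four {F : Type*} [Field F] [Fintype F] (h : 8 ≤ Fintype.card F) (h2 : (2 : F) ≠ 0) :
    ∃ l : Fin 4 → F, (∀ i j, i ≠ j → l i - l j ≠ 0) ∧ ∀ i j, l i + l j ≠ 0 := by
  classical
  have ex : ∀ a b c : F, ∃ d, d ≠ 0 ∧ d ≠ a ∧ d ≠ -a ∧ d ≠ b ∧ d ≠ -b ∧ d ≠ c ∧ d ≠ -c :=
    fun a b c => by
      obtain ⟨d, -, hd⟩ := Finset.exists_mem_notMem_of_card_lt_card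
        (s := [0, a, -a, b, -b, c, -c].toFinset) (t := Finset.univ)
        (lt_of_le_of_lt (List.toFinset_card_le _) (by rw [Finset.card_univ]; exact h))
      exact ⟨d, by simpa using hd⟩
  obtain ⟨a, a0, -⟩ := ex 0 0 0
  obtain ⟨b, b0, b1, b2, -⟩ := ex a 0 0
  obtain ⟨c, c0, c1, c2, c3, c4, -⟩ := ex a b 0
  obtain ⟨d, d0, d1, d2, d3, d4, d5, d6⟩ := ex a b c
  have s : ∀ {x y : F}, x ≠ -y → x + y ≠ 0 ∧ y + x ≠ 0 := fun e =>
    ⟨fun e' => e (eq_neg_of_add_eq_zero_left e'), fun e' => e (eq_neg_of_add_eq_zero_right e')⟩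
  have t : ∀ {x : F}, x ≠ 0 → x + x ≠ 0 := fun e => by rw [← two_mul]; exact mul_ne_zero h2 e
  refine ⟨![a, b, c, d], fun i j e => ?_, fun i j => ?_⟩
  · rw [sub_ne_zero]
    fin_cases i <;> fin_cases j <;>
      simp [b1, c1, c3, d1, d3, d5, b1.symm, c1.symm, c3.symm, d1.symm, d3.symm, d5.symm] at e ⊢
  · fin_cases i <;> fin_cases j <;>
      simp [s b2, s c2, s c4, s d2, s d4, s d6, t a0, t b0, t c0, t d0]

/-- a root group on which the torus acts by all scalars -/
theorem w7_of {Γ : Type*} [Group Γ] {F : Type*} [Field F] [Fintype F] (r : ℕ) [CharP F r]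
    (h : 8 ≤ Fintype.card F) (h2 : (2 : F) ≠ 0) (u : F → Γ) (hu : ∀ a b, u (a + b) = u a * u b)
    (h1 : u 1 ≠ 1) (hn : ∀ l, l ≠ 0 → ∃ n : Γ, ∀ a, n * u a * n⁻¹ = u (l * a)) : W7 Γ r := by
  let f : Multiplicative F →* Γ := MonoidHom.mk' (fun a => u a.toAdd) fun a b => hu _ _
  obtain ⟨l, l1, l2⟩ := exists_four h h2
  choose n hn using fun i => hn (l i) fun e => l2 i i (by rw [e, add_zero])
  have inv : ∀ a, (u a)⁻¹ = u (-a) := fun a => (f.map_inv (Multiplicative.ofAdd a)).symm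
  refine ⟨f.range, fun e => h1 (mem_bot.1 (e ▸ ⟨Multiplicative.ofAdd 1, rfl⟩)), ?_, ?_, n, ?_, ?_,
    ?_⟩
  · rintro _ ⟨a, rfl⟩
    rw [← map_pow, show a ^ r = 1 from Multiplicative.toAdd.injective (by simp), map_one]
  · rintro _ ⟨a, rfl⟩ _ ⟨b, rfl⟩
    rw [← map_mul, ← map_mul, mul_comm]
  · rintro i _ ⟨a, rfl⟩
    exact ⟨Multiplicative.ofAdd (l i * a.toAdd), (hn i _).symm⟩
  · rintro i j e _ ⟨a, rfl⟩
    refine ⟨u ((l i - l j)⁻¹ * a.toAdd), ⟨Multiplicative.ofAdd _, rfl⟩, ?_⟩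
    rw [hn, hn, inv, ← hu]
    refine congrArg u ?_
    have := l1 i j e
    field_simp
    ring
  · rintro i j _ ⟨a, rfl⟩
    refine ⟨u ((l i + l j)⁻¹ * a.toAdd), ⟨Multiplicative.ofAdd _, rfl⟩, ?_⟩
    rw [hn, hn, ← hu]
    refine congrArg u ?_
    have := l2 i j
    field_simp

variable {K : Type} [Field K] [Fintype K] {q : ℕ} (hF : Fintype.card K = q ^ 2)

/-- the cyclic permutation matrix -/
def pw : SU 3 K q := mkSU hF !![0, 0, 1; 1, 0, 0; 0, 1, 0] (by simp [det_fin_three]) (by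
  ext i l; fin_cases i <;> fin_cases l <;> simp [mul_apply, Fin.sum_univ_succ])

theorem mat_pw : mat (pw hF) = !![0, 0, 1; 1, 0, 0; 0, 1, 0] := rfl

include hF in
theorem cen_diag {g : SU 3 K q} (h : g ∈ center (SU 3 K q)) : mat g 2 2 = mat g 0 0 := by
  have := congrFun (congrFun (congrArg mat (mem_center_iff.1 h (pw hF))) 0) 2
  simpa [mat_mul, mat_pw, mul_apply, Fin.sum_univ_succ] using this

theorem pw3 : pw hF ^ 3 = 1 := mat_ext (by
  rw [pow_three, mat_mul, mat_mul, mat_pw, mat_one]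
  ext i l; fin_cases i <;> fin_cases l <;> simp [mul_apply, Fin.sum_univ_succ])

theorem pw_diag {g : SU 3 K q} {a b c : K} (h : mat g = diagonal ![a, b, c]) :
    mat (pw hF * g * (pw hF)⁻¹) = diagonal ![c, a, b] := by
  have e : mat (pw hF * g * (pw hF)⁻¹) * mat (pw hF) = diagonal ![c, a, b] * mat (pw hF) := by
    rw [← mat_mul, inv_mul_cancel_right, mat_mul, h, mat_pw]
    ext i l; fin_cases i <;> fin_cases l <;> simp [mul_apply, diagonal]
  have := congrArg (· * mat (pw hF)⁻¹) e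
  simp only [Matrix.mul_assoc] at this
  rwa [← mat_mul (pw hF), mul_inv_cancel, mat_one, Matrix.mul_one, Matrix.mul_one] at this

theorem t3_diag {g : SU 3 K q} {a b c : K} (h : mat g = diagonal ![a, b, c]) (e : a * b * c = 1) :
    T3 g (pw hF) := by
  have h1 : mat (cp (pw hF) 1 g) = diagonal ![c, a, b] := by rw [cp_one]; exact pw_diag hF h
  have h2 : mat (cp (pw hF) 2 g) = diagonal ![b, c, a] := by
    rw [← cp_cp (pw hF) g 1 1, cp_one]; exact pw_diag hF h1
  refine ⟨pw3 hF, mat_ext ?_, mat_ext ?_⟩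
  · rw [mat_mul, mat_mul, h, h1, diagonal_mul_diagonal, diagonal_mul_diagonal]
    simp only [mul_comm]
  · rw [mat_mul, mat_mul, h, h1, h2, diagonal_mul_diagonal, diagonal_mul_diagonal, mat_one,
      ← diagonal_one]
    refine congrArg diagonal (funext fun i => ?_)
    fin_cases i <;> simp <;> linear_combination e

theorem gen_pw (hq : q ≠ 2) {M : Subgroup (SU 3 K q)} (h0 : ∀ s, b0 hF s ∈ M) (h1 : pw hF ∈ M) :
    M = ⊤ := by
  refine eq_top_iff.2 ((gen3 hF hq).ge.trans (sup_le ?_ ?_)) <;> rintro _ ⟨s, rfl⟩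
  · exact h0 s
  · rw [← H57.conj_blk hF (g := pw hF) (ι := off 0 (by omega))]
    · exact mul_mem (mul_mem h1 (h0 s)) (inv_mem h1)
    · rw [mat_pw]
      ext i l; fin_cases i <;> fin_cases l <;>
        simp [mul_apply, Fin.sum_univ_succ, emb, off00, off01, off10, off11]

include hF in
theorem exists_ord : ∃ a : K, a ≠ 0 ∧ orderOf a = q + 1 := by
  classical
  obtain ⟨g, hg⟩ := IsCyclic.exists_ofOrder_eq_natCard (α := Kˣ)
  have h2 := two_le_q hF
  rw [Nat.card_units, Nat.card_eq_fintype_card, hF, show q ^ 2 - 1 = (q - 1) * (q + 1) by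
    obtain ⟨k, rfl⟩ := Nat.exists_eq_add_of_le' (show 1 ≤ q by omega)
    rw [Nat.add_sub_cancel, Nat.sub_eq_iff_eq_add (Nat.one_le_pow _ _ (by omega))]; ring] at hg
  refine ⟨(g ^ (q - 1) : Kˣ), Units.ne_zero _, ?_⟩
  rw [orderOf_units, orderOf_pow_of_dvd (by omega) (by rw [hg]; exact Dvd.intro _ rfl), hg,
    Nat.mul_div_cancel_left _ (by omega)]

include hF in
theorem tln (r : ℕ) [CharP K r] (ho : Odd q) (h3 : q ≠ 3) (t2 : (2 : K) ≠ 0) :
    TLn (PSU 3 K q) r := by
  classical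
  have h2 := two_le_q hF
  obtain ⟨m, hm⟩ := ho
  obtain ⟨P, Pi, θ, p1, -, hθ⟩ := exists_su2_equiv hF
  obtain ⟨a, a0, ha⟩ := exists_ord hF
  have a1 : frob hF a = a⁻¹ := by
    rw [frob_apply]
    exact eq_inv_of_mul_eq_one_left (by rw [← pow_succ, ← ha, pow_orderOf_eq_one])
  let D : SU 2 K q := mkSU hF (diagonal ![a, a⁻¹]) (by simp [a0]) (by
    ext i l; fin_cases i <;> fin_cases l <;> simp [mul_apply, diagonal, a0, a1])
  have Dp : ∀ n : ℕ, mat (D ^ n) = diagonal ![a ^ n, a⁻¹ ^ n] := fun n => by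
    induction n with
    | zero => ext i l; fin_cases i <;> fin_cases l <;> simp [mat_one]
    | succ n ih =>
      rw [pow_succ, mat_mul, ih]
      ext i l; fin_cases i <;> fin_cases l <;>
        simp [D, mat, mkSU, mul_apply, diagonal, pow_succ, mul_comm]
  have oD : orderOf D = q + 1 := by
    rw [← ha, orderOf_eq_orderOf_iff]
    refine fun n => ⟨fun e => ?_, fun e => mat_ext ?_⟩
    · have := congrFun (congrFun (Dp n) 0) 0
      rw [e] at this
      simpa [mat_one] using this.symm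
    · rw [Dp, inv_pow, e, mat_one]
      ext i l; fin_cases i <;> fin_cases l <;> simp
  have am : a ^ (m + 1) = -1 := by
    refine (mul_self_eq_one_iff.1 ?_).resolve_left (pow_ne_one_of_lt_orderOf (by omega) (by omega))
    rw [← pow_add, show m + 1 + (m + 1) = orderOf a by omega, pow_orderOf_eq_one]
  have θn : mat (θ (-1)) = -1 := by
    rw [hθ, show ((-1 : SL(2, _)).1.map (Subfield.subtype _) : Matrix _ _ K) = -1 by
      ext i l; fin_cases i <;> fin_cases l <;> simp]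
    simp [p1]
  have ym : θ.symm D ^ (m + 1) = -1 := θ.injective (mat_ext (by
    rw [map_pow, MulEquiv.apply_symm_apply, Dp, θn, inv_pow, am]
    ext i l; fin_cases i <;> fin_cases l <;> simp [inv_neg]))
  let π := QuotientGroup.mk' (center (SU 3 K q))
  let φ := π.comp ((b0 hF).comp θ.toMonoidHom)
  have φy : φ (θ.symm D) = π (b0 hF D) := by simp [φ]
  have : CharP (H57.Fix hF) r := (H57.Fix hF).subtype.charP (H57.Fix hF).subtype_injective r
  have cF : Fintype.card (H57.Fix hF) = q := by rw [← Nat.card_eq_fintype_card, H57.card_Fix]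
  refine ⟨H57.Fix hF, inferInstance, inferInstance, this, by omega, φ, θ.symm D, π (pw hF), m + 1, 0,
    by rw [MulEquiv.orderOf_eq, oD, cF], ?_, ?_, fun g => ?_, ?_⟩
  · rw [φy]
    refine t3_map (t3_diag hF (a := a) (b := a⁻¹) (c := 1) ?_ (by simp [a0])) π
    rw [mat_b0]
    ext i l; fin_cases i <;> fin_cases l <;> simp [D, mat, mkSU]
  · rw [← map_pow, ym]
    refine fr_sl2 φ fun e => t2 ?_
    have := cen_diag hF ((QuotientGroup.eq_one_iff (b0 hF (θ (-1)))).1 e)
    rw [mat_b0, θn] at this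
    simp at this
    linear_combination this
  · rw [cp_zero, ← map_pow, ym]
    exact (Commute.neg_right (Commute.one_right g)).map φ
  · refine eq_top_iff.2 fun x _ => ?_
    obtain ⟨x, rfl⟩ := QuotientGroup.mk'_surjective _ x
    exact (gen_pw hF (by omega) (M := (φ.range ⊔ zpowers (π (pw hF))).comap π)
      (fun s => mem_sup_left ⟨θ.symm s, by simp [φ]⟩) (mem_sup_right (mem_zpowers _))).ge (mem_top x)

/-- the torus of the hyperbolic pair -/
def tm (j l m : K) : Matrix (Fin 3) (Fin 3) K :=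
  !![(l + m) / 2, (l - m) / 2 * j⁻¹, 0; (l - m) / 2 * j, (l + m) / 2, 0; 0, 0, (l * m)⁻¹]

section
variable {j : K} (j0 : j ≠ 0) (t2 : (2 : K) ≠ 0)
include j0 t2
omit [Fintype K]

theorem tm_det {l m : K} (l0 : l ≠ 0) (m0 : m ≠ 0) : (tm j l m).det = 1 := by
  simp [tm, det_fin_three]; field_simp; ring

theorem tm_unit {σ : K →+* K} (j1 : σ j = -j⁻¹) {l : K} (l0 : l ≠ 0) (h : σ (σ l) = l) :
    (tm j l (σ l)⁻¹)ᵀ * (tm j l (σ l)⁻¹).map σ = 1 := by
  have s0 : σ l ≠ 0 := (map_ne_zero σ).2 l0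
  have h2 : σ 2 = 2 := map_ofNat σ 2
  ext i k; fin_cases i <;> fin_cases k <;> simp [tm, mul_apply, Fin.sum_univ_succ, j1, h, h2] <;>
    field_simp <;> ring

theorem tm_cc {l m : K} (m0 : m ≠ 0) (c : K) :
    tm j l m * (1 + H81.LDH.cc j c) = (1 + H81.LDH.cc j (l * m⁻¹ * c)) * tm j l m := by
  ext i k; fin_cases i <;> fin_cases k <;>
    simp [tm, H81.LDH.cc, mul_apply, Fin.sum_univ_succ, one_apply] <;> field_simp <;> ring

theorem cc_add (c d : K) : 1 + H81.LDH.cc j (c + d) = (1 + H81.LDH.cc j c) * (1 + H81.LDH.cc j d) := by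
  ext i k; fin_cases i <;> fin_cases k <;>
    simp [H81.LDH.cc, mul_apply, Fin.sum_univ_succ, one_apply] <;> field_simp <;> ring

theorem cc_det (c : K) : (1 + H81.LDH.cc j c).det = 1 := by
  simp [H81.LDH.cc, det_fin_three, one_apply]; field_simp; ring

theorem cc_unit {σ : K →+* K} (j1 : σ j = -j⁻¹) {c : K} (h : σ c = -c) :
    (1 + H81.LDH.cc j c)ᵀ * (1 + H81.LDH.cc j c).map σ = 1 := by
  ext i k; fin_cases i <;> fin_cases k <;>
    simp [H81.LDH.cc, mul_apply, Fin.sum_univ_succ, one_apply, j1, h] <;> field_simp <;> ring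

end

include hF in
theorem cc_not {j c : K} (c0 : c ≠ 0) {g : SU 3 K q} (e : mat g = 1 + H81.LDH.cc j c) :
    g ∉ center (SU 3 K q) := fun h => by
  have := cen_diag hF h
  rw [e] at this
  simp [H81.LDH.cc, c0] at this

include hF in
theorem crs (r : ℕ) [CharP K r] (h3 : q ≠ 3) (t2 : (2 : K) ≠ 0) : Crs (PSU 3 K q) r := by
  classical
  obtain ⟨p, k, hp, hc, k0, hq⟩ := exists_char_pow hF
  obtain rfl : r = p := CharP.eq K ‹_› hc
  have := Fact.mk hp
  have r2 : r ≠ 2 := by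
    rintro rfl
    exact t2 (by exact_mod_cast CharP.cast_eq_zero K 2)
  obtain ⟨j, hj⟩ := QT.exists_j hF
  have j0 : j ≠ 0 := by rintro rfl; simp at hj
  have j1 : frob hF j = -j⁻¹ := by field_simp; linear_combination hj
  by_cases r3 : r = 3
  · left
    have : CharP (H57.Fix hF) r := (H57.Fix hF).subtype.charP (H57.Fix hF).subtype_injective r
    have cF : Fintype.card (H57.Fix hF) = q := by rw [← Nat.card_eq_fintype_card, H57.card_Fix]
    obtain ⟨δ, δ0, hδ⟩ := exists_trace_zero_ne_zero (frob_ne_id hF) (frob_frob hF)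
    have fx : ∀ a : H57.Fix hF, frob hF a = a := fun a => a.2
    let u : H57.Fix hF → SU 3 K q := fun a => mkSU hF (1 + H81.LDH.cc j (a * δ)) (cc_det j0 t2 _)
      (cc_unit j0 t2 j1 (by rw [map_mul, fx]; linear_combination a * hδ))
    let π := QuotientGroup.mk' (center (SU 3 K q))
    refine w7_of r ?_ (fun e => t2 (congrArg Subtype.val e)) (fun a => π (u a)) (fun a b => ?_)
      (fun e => cc_not hF (by simpa using δ0) rfl ((QuotientGroup.eq_one_iff (u 1)).1 e))
      fun l l0 => ?_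
    · rw [cF, hq, r3]
      have : k ≠ 1 := by rintro rfl; exact h3 (by rw [hq, r3]; rfl)
      exact le_trans (by norm_num) (Nat.pow_le_pow_right (by norm_num) (show 2 ≤ k by omega))
    · rw [← map_mul]
      refine congrArg π (mat_ext ?_)
      rw [mat_mul]
      exact (congrArg (fun c => 1 + H81.LDH.cc j c) (by push_cast; ring)).trans (cc_add j0 t2 _ _)
    · obtain ⟨x, hx⟩ := exists_norm_eq' (frob_ne_id hF) (frob_frob hF) (fx l)
      have x0 : x ≠ 0 := by
        rintro rfl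
        exact l0 (Subtype.ext (by simpa using hx.symm))
      have s0 : (frob hF x)⁻¹ ≠ 0 := inv_ne_zero ((map_ne_zero _).2 x0)
      refine ⟨π (mkSU hF _ (tm_det j0 t2 x0 s0) (tm_unit j0 t2 j1 x0 (frob_frob hF x))),
        fun a => ?_⟩
      rw [← map_inv π, ← map_mul π, ← map_mul π]
      refine congrArg π (mul_inv_eq_iff_eq_mul.2 ?_)
      refine mat_ext ((tm_cc j0 t2 s0 _).trans ?_)
      rw [mat_mul]
      congr 3
      push_cast
      rw [inv_inv, ← hx]; ring
  · right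
    obtain ⟨s, hs⟩ : ∃ s, frob hF s ≠ s := by
      by_contra! e
      exact frob_ne_id hF (RingHom.ext e)
    let U : K → SU 3 K q := fun s => mkSU hF (uu j s (frob hF s)) (H81.LDH.uu_det j0 t2 _ _)
      (H81.LDH.uu_unit j0 t2 s j1 (frob_frob hF s))
    let ι := (slToMat 3 K).comp (SU 3 K q).subtype
    have e1 : ι (U 1) = uu j 1 1 := congrArg (uu j 1) (map_one _)
    have e2 : ι (U s) = uu j s (frob hF s) := rfl
    have cm : ι (U 1) * ι (U s) = (1 + H81.LDH.cc j (s - frob hF s)) * (ι (U s) * ι (U 1)) := by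
      rw [e1, e2]; exact H81.LDH.uu_cm j0 t2 _ _
    refine ⟨?_, _, _, (H81.LDH.hz_of (ι := ι) (fun _ _ => mat_ext) r2
      (by rw [e1]; exact H81.LDH.uu_nil j0 t2 _ _) (by rw [e2]; exact H81.LDH.uu_nil j0 t2 _ _) cm
      (by rw [e1]; exact H81.LDH.uu_cc j0 t2 _ _ _)
      (by rw [e2]; exact H81.LDH.uu_cc j0 t2 _ _ _)).heis
      (cc_not hF (g := ⁅U 1, U s⁆) (sub_ne_zero.2 hs.symm) (H81.LDH.cm_eq (ι := ι) cm))⟩
    have := hp.two_le
    have : r ≠ 4 := by rintro rfl; exact absurd hp (by decide)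
    omega

theorem jobMU3 : JobMU3 := fun K _ _ q r _ hF ho h3 => by
  have t2 : (2 : K) ≠ 0 := by
    obtain ⟨r', _, _, h2⟩ := H81.LDH.char_odd K (hF ▸ ho.pow)
    exact Ring.two_ne_zero (by rwa [ringChar.eq K r'])
  exact ⟨crs hF r h3 t2, tln hF r ho h3 t2⟩

end H1.O7U
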