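import Cfsg.Agent.H70.ReeSpec
import Cfsg.Agent.H28.Sw1

/-! ORD3.md R1: three colours of each index live in one component of `G / R(G)`. -/

set_option autoImplicit false

namespace H1.Ord3

open Cfsg Subgroup H24 H70.Sq H14

universe u

theorem split (n : ℕ) {s t : ℕ} (hs : s.Prime) (ht : t.Prime) (hst : s ≠ t) :
    ∀ (Q : Type u) [Group Q] [Finite Q] [Group.IsSolvable Q], Nat.card Q = n → s ∣ n → t ∣ n →
    ∃ C : Subgroup Q, C.Normal ∧
      (s ∣ Nat.card C ∧ t ∣ C.index ∨ t ∣ Nat.card C ∧ s ∣ C.index) := by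
  induction n using Nat.strong_induction_on with
  | _ n ih =>
  intro Q _ _ _ hn h1 h2
  subst hn
  have : Nontrivial Q := Finite.one_lt_card_iff_nontrivial.1
    (hs.one_lt.trans_le (Nat.le_of_dvd Nat.card_pos h1))
  obtain ⟨p, N, hp, hN, -, hN1, -, hP, -⟩ :=
    H2.exists_elementaryAbelian_normal_le (⊤ : Subgroup Q) top_ne_bot
  have := Fact.mk hp
  obtain ⟨k, hk⟩ := IsPGroup.iff_card.1 hP
  have hp1 : p ∣ Nat.card N := hk ▸ dvd_pow_self p (by
    rintro rfl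
    exact hN1 (card_eq_one.1 hk))
  have key : ∀ {a : ℕ}, a.Prime → a ∣ Nat.card Q → a ≠ p → a ∣ N.index := fun ha hd hne => by
    rw [← card_mul_index N, hk] at hd
    exact (ha.dvd_mul.1 hd).resolve_left fun e =>
      hne ((Nat.prime_dvd_prime_iff_eq ha hp).1 (ha.dvd_of_dvd_pow e))
  by_cases e1 : s = p
  · exact ⟨N, hN, .inl ⟨e1 ▸ hp1, key ht h2 (e1 ▸ hst.symm)⟩⟩
  by_cases e2 : t = p
  · exact ⟨N, hN, .inr ⟨e2 ▸ hp1, key hs h1 e1⟩⟩
  obtain ⟨C, hC, h⟩ := ih _ (H4.card_quotient_lt N hN1) (Q ⧸ N) rfl (key hs h1 e1) (key ht h2 e2)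
  have hf := QuotientGroup.mk'_surjective N
  have i1 : Nat.card C ∣ Nat.card (C.comap (QuotientGroup.mk' N)) := by
    conv_lhs => rw [← map_comap_eq_self_of_surjective hf C]
    exact card_map_dvd _ _
  refine ⟨C.comap (QuotientGroup.mk' N), inferInstance, ?_⟩
  rw [index_comap_of_surjective _ hf]
  exact h.imp (And.imp_left fun e => e.trans i1) (And.imp_left fun e => e.trans i1)

variable {G : Type u} [Group G] [Finite G]

/-- Three pairwise non-adjacent primes. -/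
structure NA (G : Type*) [Group G] (s t u : ℕ) : Prop where
  hs : s.Prime
  ht : t.Prime
  hu : u.Prime
  st : s ≠ t
  su : s ≠ u
  tu : t ≠ u
  nst : ¬ Ord G (s * t)
  nsu : ¬ Ord G (s * u)
  ntu : ¬ Ord G (t * u)

omit [Finite G] in
theorem NA.swap {s t u : ℕ} (h : NA G s t u) : NA G t s u :=
  ⟨h.ht, h.hs, h.hu, h.st.symm, h.tu, h.su, mul_comm s t ▸ h.nst, h.ntu, h.nsu⟩

omit [Finite G] in
theorem NA.swap' {s t u : ℕ} (h : NA G s t u) : NA G s u t :=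
  ⟨h.hs, h.hu, h.ht, h.su, h.st, h.tu.symm, h.nsu, h.nst, mul_comm t u ▸ h.ntu⟩

theorem NA.chain {s t u : ℕ} (h : NA G s t u) (K M : Subgroup G) [K.Normal] [M.Normal]
    (hKM : K ≤ M) (h1 : s ∣ Nat.card K) (h2 : t ∣ K.relIndex M) (h3 : u ∣ M.index) : False := by
  rcases H28.Sw.three_primes (X := ⊤) ⟨le_top, le_normalizer_of_normal⟩
    ⟨le_top, le_normalizer_of_normal⟩ hKM h.hs h.ht h.hu h.st h.su h.tu h1 h2
    (by rwa [relIndex_top_right]) with e | e | e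
  exacts [h.nst e, h.nsu e, h.ntu e]

theorem NA.low {s t u : ℕ} (h : NA G s t u) (R : Subgroup G) [R.Normal] [Group.IsSolvable R]
    (h1 : s ∣ Nat.card R) (h2 : t ∣ Nat.card R) (h3 : u ∣ Nat.card G) : False := by
  obtain ⟨x, hx⟩ := ord_of_prime h.hu h3
  have := H5.isSolvable_sup_of_le_normalizer (V := R) (B := zpowers x) le_normalizer_of_normal
  rcases H5.three_primes (G := (R ⊔ zpowers x : Subgroup G)) h.hs h.ht h.hu h.st h.su h.tu
    (h1.trans (card_dvd_of_le le_sup_left)) (h2.trans (card_dvd_of_le le_sup_left))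
    (hx ▸ orderOf_dvd_natCard _ (mem_sup_right (mem_zpowers x))) with ⟨y, e⟩ | ⟨y, e⟩ | ⟨y, e⟩
  exacts [h.nst ⟨y, (orderOf_coe y).trans e⟩, h.nsu ⟨y, (orderOf_coe y).trans e⟩,
    h.ntu ⟨y, (orderOf_coe y).trans e⟩]

theorem NA.high {s t u : ℕ} (h : NA G s t u) (M : Subgroup G) [M.Normal]
    [Group.IsSolvable (G ⧸ M)] (h1 : s ∣ M.index) (h2 : t ∣ M.index) (h3 : u ∣ Nat.card G) :
    False := by
  have hf := QuotientGroup.mk'_surjective M
  rw [← card_mul_index M] at h3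
  rcases h.hu.dvd_mul.1 h3 with h3 | h3
  · obtain ⟨C, hC, e⟩ := split _ h.hs h.ht h.st (G ⧸ M) rfl h1 h2
    have i1 : M.relIndex (C.comap (QuotientGroup.mk' M)) = Nat.card C := by
      conv_rhs => rw [← map_comap_eq_self_of_surjective hf C, ← relIndex_ker, QuotientGroup.ker_mk']
    rw [← i1, ← index_comap_of_surjective _ hf] at e
    rcases e with e | e
    · exact h.swap'.swap.chain M _ (QuotientGroup.le_comap_mk' M C) h3 e.1 e.2
    · exact h.swap.swap'.swap.chain M _ (QuotientGroup.le_comap_mk' M C) h3 e.1 e.2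
  · rcases H5.three_primes (G := G ⧸ M) h.hs h.ht h.hu h.st h.su h.tu h1 h2 h3 with e | e | e
    exacts [h.nst (e.of_map _ hf), h.nsu (e.of_map _ hf), h.ntu (e.of_map _ hf)]

theorem NA.two {s t u : ℕ} (h : NA G s t u) (R M : Subgroup G) [R.Normal] [M.Normal]
    [Group.IsSolvable R] [Group.IsSolvable (G ⧸ M)] (hRM : R ≤ M)
    (h1 : s ∣ Nat.card R ∨ s ∣ M.index) (h2 : t ∣ Nat.card R ∨ t ∣ M.index)
    (h3 : u ∣ Nat.card G) : False := by
  have mix : ∀ {s t : ℕ}, NA G s t u → s ∣ Nat.card R → t ∣ M.index → False := fun h h1 h2 => by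
    have h4 := h3
    rw [← card_mul_index R, ← relIndex_mul_index hRM, h.hu.dvd_mul, h.hu.dvd_mul] at h4
    rcases h4 with h4 | h4 | h4
    · exact h.swap'.low R h1 h4 (h2.trans M.index_dvd_card)
    · exact h.swap'.chain R M hRM h1 h4 h2
    · exact h.swap.swap'.high M h2 h4 (h1.trans (card_subgroup_dvd_card R))
  rcases h1 with h1 | h1 <;> rcases h2 with h2 | h2
  exacts [h.low R h1 h2 h3, mix h h1 h2, mix h.swap h2 h1, h.high M h1 h2 h3]

/-- An element whose primes divide the order of only one component lies in it. -/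
theorem mem_cmp (h : SS G) {T : Subgroup G} (hT : IsComponent T) {g : G} (hg : g ∈ layer G)
    (ho : ∀ s : ℕ, s.Prime → s ∣ orderOf g → ∀ L : Subgroup G, IsComponent L → s ∣ Nat.card L →
      L = T) : g ∈ T := by
  have hc : ⁅T, centralizer (T : Set G)⁆ = ⊥ :=
    commutator_eq_bot_symm (commutator_eq_bot_iff_le_centralizer.2 le_rfl)
  obtain ⟨t, ht, c, hc, rfl⟩ := mem_sup_of_commutator_eq_bot hc
    ((sSup_le fun L hL => by
      by_cases e : L = T
      · exact e.le.trans le_sup_left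
      · exact le_sup_of_le_right fun a ha b hb => (commute_of_comp hT hL (Ne.symm e) hb ha).eq :
      layer G ≤ T ⊔ centralizer (T : Set G)) hg)
  have k : Commute t c := hc t ht
  have c1 : c ∈ layer G ⊓ centralizer (T : Set G) :=
    ⟨(mul_mem_cancel_left (comp_le_layer hT ht)).1 hg, hc⟩
  have e1 : t ^ orderOf (t * c) * c ^ orderOf (t * c) = 1 := by
    rw [← k.mul_pow, pow_orderOf_eq_one]
  have e2 : c ^ orderOf (t * c) = 1 := mem_bot.1 ((h.inf_cent hT).le ⟨by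
    rw [eq_inv_of_mul_eq_one_right e1]; exact T.inv_mem (T.pow_mem ht _), pow_mem hc _⟩)
  have sn : (layer G ⊓ centralizer (T : Set G)).IsSubnormal :=
    .step _ _ inf_le_left (Normal.isSubnormal inferInstance) (normal_subgroupOf_of_le_normalizer
      (H98.le_normalizer_inf le_normalizer
        (H98.le_normalizer_centralizer (layer_le_normalizer_comp hT))))
  by_cases e : c = 1
  · simpa [e] using ht
  obtain ⟨s, hs, hd⟩ := Nat.exists_prime_and_dvd (mt orderOf_eq_one_iff.1 e)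
  obtain ⟨L, hL, hle, e3⟩ := h.dvd_cmp sn inf_le_left hs (hd.trans (orderOf_dvd_natCard _ c1))
  obtain rfl := ho s hs (hd.trans (orderOf_dvd_of_pow_eq_one e2)) L hL e3
  exact absurd (le_bot_iff.1 ((le_inf le_rfl (hle.trans inf_le_right)).trans (h.inf_cent hL).le))
    (comp_ne_bot hL)

theorem jobR1 : JobR1.{u} := by
  intro ι _ _ m hm G _ _ hS hF i
  have hom : ∀ {n : ℕ}, Ord G n → OmR m n := fun ⟨g, e⟩ => e ▸ hS g
  let R := solvableRadical G
  have hf := QuotientGroup.mk'_surjective R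
  have ss := ss_quot G
  have odd := ss.odd_index ((ab2_of_no_four fun e => hm.no4 (hom e)).2.quotient _)
  let M := (layer (G ⧸ R)).comap (QuotientGroup.mk' R)
  have iM : M.index = (layer (G ⧸ R)).index := index_comap_of_surjective _ hf
  have : Group.IsSolvable (G ⧸ M) := H42.odd_order (iM ▸ odd :)
  have ne : ∀ {x y : Fin 4} {s t : ℕ}, x ≠ y → s.Prime → s ∣ rc (m i) x → t ∣ rc (m i) y → s ≠ t :=
    fun {x y s t} h hs h1 h2 e => hs.one_lt.ne' (Nat.eq_one_of_dvd_coprimes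
      (hm.cop i x i y fun e => h (Prod.mk.inj e).2) h1 (e ▸ h2))
  have dv : ∀ {x : Fin 4} {s : ℕ}, s ∣ rc (m i) x → s ∣ Nat.card G := fun {x s} h =>
    (hF i x).elim fun g e => h.trans (e ▸ orderOf_dvd_natCard g)
  have pr : ∀ x, ∃ s : ℕ, s.Prime ∧ s ∣ rc (m i) x := fun x =>
    Nat.exists_prime_and_dvd (hm.one_lt i x).ne'
  let Bad : Fin 4 → Prop := fun x => ∃ s : ℕ, s.Prime ∧ s ∣ rc (m i) x ∧
    (s ∣ Nat.card R ∨ s ∣ M.index)
  have one : ∀ x y, Bad x → Bad y → x = y := by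
    rintro x y ⟨s, hs, s1, s2⟩ ⟨t, ht, t1, t2⟩
    by_contra hxy
    obtain ⟨z, z1, z2⟩ := (by decide : ∀ x y : Fin 4, ∃ z, x ≠ z ∧ y ≠ z) x y
    obtain ⟨u, hu, u1⟩ := pr z
    exact NA.two (G := G) ⟨hs, ht, hu, ne hxy hs s1 t1, ne z1 hs s1 u1, ne z2 ht t1 u1,
      fun e => hm.adj i x y s t hxy hs ht s1 t1 (hom e), fun e => hm.adj i x z s u z1 hs hu s1 u1 (hom e),
      fun e => hm.adj i y z t u z2 ht hu t1 u1 (hom e)⟩ R M (QuotientGroup.le_comap_mk' R _) s2 t2 (dv u1)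
  obtain ⟨x₀, hx₀⟩ : ∃ x₀, ∀ x, x ≠ x₀ → ¬ Bad x := by
    by_cases h : ∃ x, Bad x
    · exact h.imp fun x₀ h x hx e => hx (one _ _ e h)
    · exact ⟨0, fun x _ e => h ⟨x, e⟩⟩
  have cmp : ∀ x, x ≠ x₀ → ∃ s : ℕ, s.Prime ∧ s ∣ rc (m i) x ∧
      ∃ L : Subgroup (G ⧸ R), IsComponent L ∧ s ∣ Nat.card L := fun x hx => by
    obtain ⟨s, hs, s1⟩ := pr x
    have h := dv s1
    rw [← card_mul_index R, hs.dvd_mul, index, ← card_mul_index (layer (G ⧸ R)), ← iM,
      hs.dvd_mul] at h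
    obtain ⟨L, hL, -, e⟩ := ss.dvd_cmp (Normal.isSubnormal inferInstance) le_rfl hs
      ((h.resolve_left fun e => hx₀ x hx ⟨s, hs, s1, .inl e⟩).resolve_right
        fun e => hx₀ x hx ⟨s, hs, s1, .inr e⟩)
    exact ⟨s, hs, s1, L, hL, e⟩
  have same : ∀ {x y : Fin 4} {s t : ℕ} {A B : Subgroup (G ⧸ R)}, x ≠ y → s.Prime → t.Prime →
      s ∣ rc (m i) x → t ∣ rc (m i) y → IsComponent A → IsComponent B → s ∣ Nat.card A →
      t ∣ Nat.card B → A = B := fun {x y s t A B} h hs ht s1 t1 hA hB s2 t2 => by_contra fun e =>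
    hm.adj i x y s t h hs ht s1 t1 (hom (Ord.of_surjective hf (ord_of_comp2 hA hB e
      (ord_of_prime hs s2) (ord_of_prime ht t2) ((Nat.coprime_primes hs ht).2 (ne h hs s1 t1)))))
  obtain ⟨x₁, x₂, n1, n2, n3⟩ :=
    (by decide : ∀ x₀ : Fin 4, ∃ x₁ x₂ : Fin 4, x₁ ≠ x₀ ∧ x₂ ≠ x₀ ∧ x₁ ≠ x₂) x₀
  obtain ⟨s₁, p1, d1, T, hT, e1⟩ := cmp x₁ n1
  obtain ⟨s₂, p2, d2, T', hT', e2⟩ := cmp x₂ n2
  obtain rfl := same n3 p1 p2 d1 d2 hT hT' e1 e2
  have own : ∀ x (s : ℕ), s.Prime → s ∣ rc (m i) x → ∀ L : Subgroup (G ⧸ R), IsComponent L →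
      s ∣ Nat.card L → L = T := fun x s hs s1 L hL s2 => by
    by_cases e : x = x₁
    · exact same (e ▸ n3) hs p2 s1 d2 hL hT s2 e2
    · exact same e hs p1 s1 d1 hL hT s2 e1
  refine ⟨T, hT, x₀, fun x hx => ⟨?_, own x⟩⟩
  have cp : ∀ n, (∀ s : ℕ, s.Prime → s ∣ rc (m i) x → ¬ s ∣ n) → (rc (m i) x).Coprime n :=
    fun n h => Nat.coprime_of_dvd h
  obtain ⟨g, e⟩ := ord_of_coprime_ker (QuotientGroup.mk' R) (hF i x) (cp _ fun s hs s1 s2 =>
    hx₀ x hx ⟨s, hs, s1, .inl (by rwa [QuotientGroup.ker_mk'] at s2)⟩)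
  have hg : g ∈ layer (G ⧸ R) := by
    rw [← QuotientGroup.eq_one_iff, ← orderOf_eq_one_iff]
    exact Nat.eq_one_of_dvd_coprimes (cp _ fun s hs s1 s2 => hx₀ x hx ⟨s, hs, s1, .inr (iM ▸ s2)⟩)
      (e ▸ orderOf_map_dvd (QuotientGroup.mk' _) g) (orderOf_dvd_natCard _)
  exact ⟨⟨g, mem_cmp ss hT hg fun s hs s1 => own x s hs (e ▸ s1)⟩, (orderOf_coe _).symm.trans e⟩

end H1.Ord3
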