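import Cfsg.Agent.H70.ReeSpec

/-! ORD3.md R4: a product of Ree groups has no cover by an irreducible module. -/

set_option autoImplicit false

namespace H1.Ord3

open Cfsg Subgroup H24 H70.Sq H14 H98

universe u

variable {ι : Type} [Fintype ι] [DecidableEq ι] {m : ι → ℕ} {G H : Type u} [Group G] [Finite G]
  [Group H] {ψ : G →* H} {T : ι → Subgroup H} {r : ℕ}

/-- Every subgroup covering `T` has an element of order `e` with a fixed point on every non-trivial
subgroup of the kernel that it normalizes. -/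
def Fx (ψ : G →* H) (T : Subgroup H) (r e : ℕ) : Prop := ∀ K W : Subgroup G, K.map ψ = T →
  W ≤ ψ.ker → W ≠ ⊥ → K ≤ normalizer (W : Set G) →
  ∃ x ∈ K, ∃ u ∈ W, orderOf x = e ∧ orderOf u = r ∧ Commute x u

omit [Fintype ι] [DecidableEq ι] [Finite G] in
theorem le_cx (hD : Dec m T) {i j : ι} (h : i ≠ j) : (T i).comap ψ ≤ cx ψ (T j) :=
  comap_mono (commutator_eq_bot_iff_le_centralizer.1 (hD.comm i j h))

theorem cover (hψ : Function.Surjective ψ) (hr : r.Prime) (hV : IsElementaryAbelian r ψ.ker)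
    {T : Subgroup H} {y : G} (hy : y ∈ cx ψ T) (hc : (orderOf y).Coprime r) :
    (T.comap ψ ⊓ centralizer {y}).map ψ = T := by
  have := Fact.mk hr
  have := hV.1
  refine le_antisymm ((map_mono inf_le_left).trans (map_comap_le _ _)) fun t ht => ?_
  obtain ⟨j, rfl⟩ := hψ t
  obtain ⟨n, hn, e⟩ := H1.exists_centralizer_mem_coset' (A := zpowers y) (N := ψ.ker)
    le_normalizer_of_normal (H2.coprime_card_of_isPGroup (H2.isPGroup_of_isElementaryAbelian hV)
      (by rwa [Nat.card_zpowers])).symm (Or.inr (H1.isSolvable_of_isMulCommutative _)) j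
    fun a ha => by
      have := zpowers_le_of_mem hy ha _ ht
      rw [MonoidHom.mem_ker, map_mul, map_mul, map_mul, ← this]
      simp
  have e' : ψ (n * j) = ψ j := by rw [map_mul, hn, one_mul]
  exact ⟨n * j, ⟨mem_comap.2 (e' ▸ ht),
    mem_centralizer_singleton_iff.2 (e y (mem_zpowers y)).symm⟩, e'⟩

theorem nest (hψ : Function.Surjective ψ) (hD : Dec m T) (hr : r.Prime)
    (hV : IsElementaryAbelian r ψ.ker) (h0 : ψ.ker ≠ ⊥) {e : ι → ℕ}
    (he : ∀ i j, i ≠ j → (e i).Coprime (e j)) (her : ∀ i, (e i).Coprime r)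
    (hx : ∀ l, Fx ψ (T l) r (e l)) : Ord G (r * ∏ i, e i) := by
  have key : ∀ s : Finset ι, ∃ y : G, (∀ l ∉ s, y ∈ cx ψ (T l)) ∧ orderOf y = ∏ i ∈ s, e i ∧
      ∃ u ∈ ψ.ker, orderOf u = r ∧ Commute y u := fun s => by
    induction s using Finset.induction_on with
    | empty =>
      obtain ⟨u, hu, e⟩ := exists_ord_of_elem hr hV h0
      exact ⟨1, fun _ _ => one_mem _, by simp, u, hu, e, Commute.one_left u⟩
    | insert l s hl ih =>
      obtain ⟨y, y1, y2, u, u1, u2, u3⟩ := ih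
      obtain ⟨x, x1, v, v1, x2, v2, k⟩ := hx l _ (ψ.ker ⊓ centralizer {y})
        (cover hψ hr hV (y1 l hl) (y2 ▸ Nat.Coprime.prod_left fun i _ => her i)) inf_le_left
        (fun e => hr.one_lt.ne' (by
          rw [← u2, mem_bot.1 (e.le ⟨u1, mem_centralizer_singleton_iff.2 u3.symm⟩), orderOf_one]))
        (le_normalizer_inf le_normalizer_of_normal (le_normalizer_of_le inf_le_right))
      have c : Commute x y := mem_centralizer_singleton_iff.1 x1.2
      refine ⟨x * y, fun l' hl' => ?_, ?_, v, v1.1, v2,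
        k.mul_left (mem_centralizer_singleton_iff.1 v1.2 : Commute v y).symm⟩
      · rw [Finset.mem_insert, not_or] at hl'
        exact mul_mem (le_cx hD (Ne.symm hl'.1) x1.1) (y1 l' hl'.2)
      · rw [c.orderOf_mul_eq_mul_orderOf_of_coprime (x2 ▸ y2 ▸ Nat.Coprime.prod_right fun i hi =>
          he l i fun e => hl (e ▸ hi)), Finset.prod_insert hl, x2, y2]
  obtain ⟨y, -, y2, u, -, u2, k⟩ := key Finset.univ
  rw [← y2, ← u2]
  exact ord_of_commute k.symm (u2 ▸ y2 ▸ (Nat.Coprime.prod_left fun i _ => her i).symm)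

omit [Finite G] in
theorem triv_of (hψ : Function.Surjective ψ) (hV : IsElementaryAbelian r ψ.ker) {T : Subgroup H}
    [IsSimpleGroup T] {g : G} (hg : g ∈ T.comap ψ) (h1 : ψ g ≠ 1)
    (hc : g ∈ centralizer (ψ.ker : Set G)) : T.comap ψ ≤ centralizer (ψ.ker : Set G) := by
  intro x hx
  obtain ⟨y, hy, e⟩ := (map_inf_cent (map_comap_eq_self_of_surjective hψ T) le_normalizer_of_normal
    hg h1 hc).ge hx
  have : y⁻¹ * x ∈ centralizer (ψ.ker : Set G) := fun v hv =>
    elem_comm hV hv (by simp [MonoidHom.mem_ker, e])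
  simpa using mul_mem hy.2 this

theorem fx_of_triv (hr : r.Prime) (hV : IsElementaryAbelian r ψ.ker) {T : Subgroup H} {e : ℕ}
    (h : T.comap ψ ≤ centralizer (ψ.ker : Set G)) (he : Ord T e) : Fx ψ T r e :=
  fun K W hK hW h0 _ => by
    obtain ⟨x, hx, e1⟩ := exists_ord_of_map hK he
    obtain ⟨u, hu, e2⟩ := exists_ord_of_elem hr (elem_of_le hV hW) h0
    exact ⟨x, hx, u, hu, e1, e2, (h (hK.le (mem_map_of_mem ψ hx)) u (hW hu)).symm⟩

theorem noEx_three {s k : ℕ} (hs : s.Coprime 210) : NoEx s k 3 := fun l j _ _ e =>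
  Nat.not_even_iff_odd.2 ((Nat.coprime_two_right.1 (hs.coprime_dvd_right (by norm_num))).pow)
    (by rw [e]; exact (Odd.pow (by decide)).add_one)

theorem noEx_seven : NoEx 7 0 2 := fun l j hl _ e => by
  obtain rfl : l = 0 := by omega
  have : (2 : ℕ) ^ j = 6 := by omega
  exact absurd (Nat.prime_three.dvd_of_dvd_pow (this ▸ (by norm_num : 3 ∣ 6))) (by norm_num)

theorem jobR4 (hG : JobRG.{u}) (h27 : JobR27.{u}) : JobR4.{u} := by
  intro ι _ _ m hg hm G H _ _ _ ψ T r hψ hD hS hr hV hmin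
  by_contra h0
  have := Finite.of_surjective ψ hψ
  have hom : ∀ {n : ℕ}, Ord G n → OmR m n := fun ⟨g, e⟩ => e ▸ hS g
  have R : ∀ l, RGrp (m l) (T l) := fun l => hG _ (by have := hg.big l; omega) (fun e => by
    have := (Nat.prime_dvd_prime_iff_eq Nat.prime_three (hg.prime l)).1 e
    have := hg.big l
    omega) _ (hD.ree l)
  have sim := fun l => (R l).simple
  obtain ⟨v, hv, ev⟩ := exists_ord_of_elem hr hV h0
  have c210 : ∀ {i x} {s : ℕ}, s ∣ rc (m i) x → s.Coprime 210 := fun h =>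
    (hm.cop210 _ _).coprime_dvd_left h
  have cop : ∀ {i j x y} {s t : ℕ}, i ≠ j ∨ x ≠ y → s ∣ rc (m i) x → t ∣ rc (m j) y → s.Coprime t :=
    fun h h1 h2 => ((hm.cop _ _ _ _ fun e => h.elim (· (Prod.mk.inj e).1) (· (Prod.mk.inj e).2)
      ).coprime_dvd_left h1).coprime_dvd_right h2
  have ne : ∀ {s a : ℕ}, s.Coprime 210 → a ∣ 210 → a ≠ 1 → s ≠ a := fun h h1 h2 e =>
    h2 (Nat.eq_one_of_dvd_coprimes h (e ▸ dvd_rfl) h1)
  have all : r = 2 ∨ r = 3 ∨ r = 7 → ¬ ∀ l, (T l).comap ψ ≤ centralizer (ψ.ker : Set G) :=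
    fun h ht => hm.sel2 (fun l => rc (m l) 2) r (fun l => ⟨hm.one_lt l 2, dvd_rfl⟩) h
      (hom (nest hψ hD hr hV h0 (fun i j e => cop (.inl e) dvd_rfl dvd_rfl)
        (fun l => (hm.cop210 l 2).coprime_dvd_right (by rcases h with rfl | rfl | rfl <;> norm_num))
        fun l => fx_of_triv hr hV (ht l) ((R l).full 2)))
  have f0 : r ≠ 3 → ∀ l (s : ℕ), s.Prime → s ∣ rc (m l) 0 →
      ∃ k, s ^ (k + 1) ∣ rc (m l) 0 ∧ Fx ψ (T l) r (s ^ (k + 1)) := fun h3 l s hs hd => by
    obtain ⟨k, k1, k2⟩ := hm.pow l 0 s hs hd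
    exact ⟨k, k1, fun K W hK hW h0 hn => fix_gen hK hr hs Nat.prime_three (elem_of_le hV hW) h0 hn
      h3.symm (ne (c210 hd) (by norm_num) (by norm_num)) ((R l).fr0 s k hs k1)
      (exp_of_not_ord hs fun e => k2 (hom e)) (noEx_three (c210 hd))⟩
  have pr : ∀ l x, ∃ s : ℕ, s.Prime ∧ s ∣ rc (m l) x := fun l x =>
    Nat.exists_prime_and_dvd (hm.one_lt l x).ne'
  rcases hm.prime r hr (hom ⟨v, ev⟩) with rfl | rfl | rfl | ⟨i, x, hd⟩
  · refine all (.inl rfl) fun l => ?_
    obtain ⟨⟨t, ht⟩, et⟩ := ((R l).full 4).of_dvd (show 2 ∣ 6 by norm_num)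
    obtain ⟨g, rfl⟩ := hψ t
    have sq : ∀ w : G, ψ w = ψ g → w * w = 1 := fun w hw =>
      (ab2_of_no_four fun e => hm.no4 (hom e)).1 w 2 (by
        rw [show 2 ^ 2 = 2 * 2 from rfl, pow_mul]
        refine hV.2 _ ?_
        rw [MonoidHom.mem_ker, map_pow, hw]
        exact congrArg Subtype.val (et ▸ pow_orderOf_eq_one (⟨ψ g, ht⟩ : T l)))
    refine triv_of hψ hV ht (fun e => ?_) fun w hw => ?_
    · rw [show (⟨ψ g, ht⟩ : T l) = 1 from Subtype.ext e] at et
      simp at et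
    · have e1 := sq (w * g) (by rw [map_mul, hw, one_mul])
      have e2 : w * w = 1 := by rw [← pow_two]; exact hV.2 w hw
      rw [← inv_eq_of_mul_eq_one_right e1, mul_inv_rev, inv_eq_of_mul_eq_one_right e2,
        inv_eq_of_mul_eq_one_right (sq g rfl)]
  · obtain ⟨i, hi⟩ := not_forall.1 (all (.inr (.inl rfl)))
    have ex : Exp G 3 2 := exp_of_not_ord Nat.prime_three fun e => hm.no27 (hom e)
    by_cases h1 : ∀ l, l ≠ i → (T l).comap ψ ≤ centralizer (ψ.ker : Set G)
    · let e : ι → ℕ := fun l => if l = i then 7 else rc (m l) 2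
      have e1 : ∀ l, l ≠ i → e l = rc (m l) 2 := fun l h => if_neg h
      have e2 : e i = 7 := if_pos rfl
      have c7 : ∀ l, l ≠ i → (e l).Coprime (e i) := fun l h =>
        e1 l h ▸ e2 ▸ (hm.cop210 l 2).coprime_dvd_right (by norm_num)
      refine hm.sel21 e i e2 (fun l h => ⟨(e1 l h).symm ▸ hm.one_lt l 2, (e1 l h).dvd⟩)
        (hom (nest hψ hD hr hV h0 (fun a b hab => ?_) (fun l => ?_) fun l => ?_))
      · by_cases ha : a = i
        · exact ha ▸ (c7 b (ha ▸ hab.symm)).symm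
        by_cases hb : b = i
        · exact hb ▸ c7 a ha
        exact cop (.inl hab) (e1 a ha).dvd (e1 b hb).dvd
      · by_cases h : l = i
        · rw [h, e2]; norm_num
        · exact e1 l h ▸ (hm.cop210 l 2).coprime_dvd_right (by norm_num)
      · by_cases h : l = i
        · rw [h, e2]
          exact fun K W hK hW h0 hn => fix_gen (p := 7) (n := 0) hK hr (by norm_num) Nat.prime_two
            (elem_of_le hV hW) h0 hn (by norm_num) (by norm_num) (R i).fr7
            (exp_of_not_ord (by norm_num) fun e => hm.no49 (hom e)) noEx_seven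
        · exact e1 l h ▸ fx_of_triv hr hV (h1 l h) ((R l).full 2)
    push Not at h1
    obtain ⟨j, hij, hj⟩ := h1
    have lift : ∀ l, ¬ (T l).comap ψ ≤ centralizer (ψ.ker : Set G) → ∃ y ∈ (T l).comap ψ,
        y ^ 9 = 1 ∧ y ^ 3 ∉ centralizer (ψ.ker : Set G) := fun l hl => by
      obtain ⟨⟨t, ht⟩, et⟩ := (R l).full 5
      obtain ⟨y, rfl⟩ := hψ t
      rw [← orderOf_coe] at et
      have et : orderOf (ψ y) = 9 := et
      refine ⟨y, ht, ex y ⟨3, ?_⟩, fun e => hl (triv_of hψ hV (pow_mem (mem_comap.2 ht) 3) (fun e => ?_) e)⟩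
      · rw [show 3 ^ 3 = 9 * 3 from rfl, pow_mul]
        refine hV.2 _ ?_
        rw [MonoidHom.mem_ker, map_pow, ← et, pow_orderOf_eq_one]
      · rw [map_pow, ← orderOf_dvd_iff_pow_eq_one, et] at e
        norm_num at e
    obtain ⟨y, y1, y2, y3⟩ := lift j hj
    obtain ⟨x, x1, x2, x3⟩ := lift i hi
    refine (h27 G ψ.ker ((T j).comap ψ) (cx ψ (T j)) inferInstance hV hmin
      (fun e => hm.no4 (hom e)) ex ?_ ?_ y y1 x (le_cx hD hij.symm x1) y2 x2).elim y3 x3
    · rw [comap_sup_eq ψ _ _ hψ, eq_top_iff, ← comap_top ψ, ← hD.top]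
      refine comap_mono (iSup_le fun l => ?_)
      by_cases e : l = j
      · exact e ▸ le_sup_left
      · exact le_sup_of_le_right (commutator_eq_bot_iff_le_centralizer.1 (hD.comm l j e))
    · rw [commutator_comm, ← Subgroup.map_eq_bot_iff, map_commutator,
        map_comap_eq_self_of_surjective hψ, map_comap_eq_self_of_surjective hψ,
        commutator_eq_bot_iff_le_centralizer]
  · choose s s1 s2 using fun l => pr l 0
    choose k k1 k2 using fun l => f0 (by norm_num) l (s l) (s1 l) (s2 l)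
    exact hm.sel0 (fun l => s l ^ (k l + 1))
      (fun l => ⟨Nat.one_lt_pow (by omega) (s1 l).one_lt, k1 l⟩)
      (hom (nest hψ hD hr hV h0 (fun i j e => cop (.inl e) (k1 i) (k1 j))
        (fun l => (c210 (k1 l)).coprime_dvd_right (by norm_num)) k2))
  have h3 : r ≠ 3 := ne (c210 hd) (by norm_num) (by norm_num)
  have hT := map_comap_eq_self_of_surjective hψ (T i)
  by_cases hx : x = 0
  · subst hx
    obtain ⟨k, k1, k2⟩ := hm.pow i 0 r hr hd
    obtain ⟨g, g1, g2, g3⟩ := (hh_amb hT hr hr Nat.prime_three hV le_normalizer_of_normal h3.symm h3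
      ((R i).fr0 r k hr k1) (exp_of_not_ord hr fun e => k2 (hom e))
      (noEx_three (c210 hd))).resolve_right fun e => e.1 rfl
    obtain ⟨t, t1, t2⟩ := pr i 1
    obtain ⟨y, -, u, -, rfl, rfl, c⟩ := fx_of_triv hr hV (triv_of hψ hV g1 g2 g3)
      (((R i).full 1).of_dvd (t2.mul_left 2)) _ _ hT le_rfl h0 le_normalizer_of_normal
    exact hm.adj i 1 0 _ _ (by decide) t1 hr t2 hd
      (hom (ord_of_commute c (cop (.inr (by decide)) t2 hd)))
  · obtain ⟨s, s1, s2⟩ := pr i 0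
    obtain ⟨k, k1, k2⟩ := f0 h3 i s s1 s2
    obtain ⟨y, -, u, -, e, rfl, c⟩ := k2 _ _ hT le_rfl h0 le_normalizer_of_normal
    exact hm.adj i 0 x _ _ (Ne.symm hx) s1 hr s2 hd
      (hom ((ord_of_commute c (cop (.inr (Ne.symm hx)) (e ▸ k1) hd)).of_dvd
        (mul_dvd_mul_right (e ▸ dvd_pow_self s k.succ_ne_zero) _)))

end H1.Ord3
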