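import Cfsg.Agent.H1.PrSt

/-! `blueprints/PRIME.md`, part 2: `JobFeit`, `JobSplit` and the row S0899. -/

set_option autoImplicit false
set_option linter.unusedSectionVars false

namespace H1.PR2

open Cfsg H28 H87 H2.PR Subgroup

universe u

section
variable {G : Type*} [Group G] [Finite G] {p : ℕ} [hp : Fact p.Prime] {χ : G → ℂ}

theorem fb_of_quot {T : Subgroup G} [hT : T.Normal] (h : IsPGroup p T) (fb : FB p (G ⧸ T)) :
    FB p G := fun P => by
  have hs := QuotientGroup.mk'_surjective T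
  have h1 : (P : Subgroup G).index = ((P : Subgroup G).map (QuotientGroup.mk' T)).index :=
    (index_map_eq _ hs (by rw [QuotientGroup.ker_mk']; exact h.le_sylow_of_normal P)).symm
  have h2 := index_comap_of_surjective (pCore p (G ⧸ T)) hs
  have h3 : (pCore p (G ⧸ T)).comap (QuotientGroup.mk' T) ≤ pCore p G := le_core inferInstance
    (core_p.comap_of_ker_isPGroup _ (by rwa [QuotientGroup.ker_mk']))
  refine dvd_trans ?_ (mul_dvd_mul_left p (card_dvd_of_le h3))
  have h4 := mul_dvd_mul_left (Nat.card T) (fb (P.mapSurjective hs))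
  have k : ∀ A : Subgroup G, ∀ B : Subgroup (G ⧸ T), A.index = B.index →
      Nat.card T * Nat.card B = Nat.card A := fun A B e => by
    refine Nat.eq_of_mul_eq_mul_left (Nat.pos_of_ne_zero B.index_ne_zero_of_finite) ?_
    rw [mul_left_comm, index_mul_card, ← e, index_mul_card, mul_comm]
    exact T.card_eq_card_quotient_mul_card_subgroup.symm
  rwa [mul_left_comm, k _ _ h2, Sylow.coe_mapSurjective, k _ _ h1] at h4

theorem card_quot_lt {T : Subgroup G} [T.Normal] (h : T ≠ ⊥) : Nat.card (G ⧸ T) < Nat.card G := by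
  rw [T.card_eq_card_quotient_mul_card_subgroup]
  exact lt_mul_of_one_lt_right Nat.card_pos ((one_lt_card_iff_ne_bot T).2 h)

theorem card_sub_lt {L : Subgroup G} (h : L ≠ ⊤) : Nat.card L < Nat.card G :=
  lt_of_le_of_ne (card_le_card_group L) fun e => h (eq_top_of_card_eq L e)

theorem res_ker (hχ : IsCharacter G χ) (hk : charKer χ = ⊥) (L : Subgroup G) :
    charKer (fun x : L => χ x) = ⊥ := by rw [hχ.charKer_restrict, hk, bot_subgroupOf]

/-- the subgroup generated by the `p`-elements -/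
def RR (p : ℕ) (G : Type*) [Group G] : Subgroup G := closure {g | ∃ k, g ^ p ^ k = 1}

instance : (RR p G).Normal := ⟨fun _ hx g =>
  (closure_le ((RR p G).comap (MulAut.conj g).toMonoidHom)).2 (fun s hs => subset_closure
    (hs.imp fun k hs => show (g * s * g⁻¹) ^ _ = 1 by
      rw [conj_pow, hs, mul_one, mul_inv_cancel])) hx⟩

theorem le_RR (P : Sylow p G) : (P : Subgroup G) ≤ RR p G := fun x hx =>
  subset_closure ((P.isPGroup' ⟨x, hx⟩).imp fun _ h => congrArg Subtype.val h)

theorem gen_RR (S : Sylow p (RR p G)) : Gen (S : Subgroup (RR p G)) := fun _ hN h =>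
  (closure_preimage_eq_top _).ge.trans ((closure_le _).2 fun _ ⟨_, hg⟩ =>
    pel_mem hN h (Subtype.ext hg))

theorem nn_RR {P : Sylow p G} (hn : ¬ (P : Subgroup G).Normal) :
    ¬ (P.subtype (le_RR P) : Subgroup (RR p G)).Normal := fun h => hn ⟨fun y hy g => by
  obtain ⟨k, hk⟩ := P.isPGroup' ⟨y, hy⟩
  exact pel_mem h le_rfl (x := ⟨_, Normal.conj_mem inferInstance y (le_RR P hy) g⟩) (k := k)
    (Subtype.ext (show (g * y * g⁻¹) ^ _ = 1 by
      rw [conj_pow, show y ^ p ^ k = 1 from congrArg Subtype.val hk, mul_one, mul_inv_cancel]))⟩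

theorem St.le {ψ θ : G → ℂ} (h : St p χ ψ θ) : p ≤ 2 * charDegree χ + 1 := by
  have := h.irr.isCharacter.charDegree_add h.chr
  have := h.big
  rw [h.add]
  omega

end

theorem jobFeit (hSt : JobSt.{u}) (hN : JobNTI.{u}) (hT : JobTI.{u}) : JobFeit.{u} := by
  intro G _ _ p hp χ
  induction hm : Nat.card G + charDegree χ using Nat.strong_induction_on generalizing G with
  | _ m ih0 =>
  intro hχ hk hd
  have ih : ∀ (H : Type u) [Group H] [Finite H] (η : H → ℂ),
      Nat.card H + charDegree η < Nat.card G + charDegree χ → IsCharacter H η → charKer η = ⊥ →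
      charDegree η + 1 < p → FB p H := fun H _ _ η h => ih0 _ (hm ▸ h) H η rfl
  have sub : ∀ L : Subgroup G, L ≠ ⊤ → FB p L := fun L h =>
    ih L _ (Nat.add_lt_add_right (card_sub_lt h) _) (hχ.restrict L) (res_ker hχ hk L) hd
  classical
  cases nonempty_fintype G
  intro P
  by_cases hg : Gen (P : Subgroup G)
  swap
  · obtain ⟨N, hN, h1, h2⟩ : ∃ N : Subgroup G, N.Normal ∧ (P : Subgroup G) ≤ N ∧ N ≠ ⊤ := by
      by_contra! h
      exact hg fun N a b => (h N a b).ge
    have h3 := sub N h2 (P.subtype h1)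
    rw [Sylow.coe_subtype, H46.card_subgroupOf h1, ← card_map_of_injective N.subtype_injective
      (K := pCore p N)] at h3
    exact h3.trans (mul_dvd_mul_left p (card_dvd_of_le (le_core inferInstance (core_p.map _))))
  by_cases hn : (P : Subgroup G).Normal
  · exact (card_dvd_of_le (le_core hn P.isPGroup')).mul_left p
  have hc := syl_comm hχ hk hd P
  have nc : commutator G ≠ ⊥ := fun e => hn ⟨fun x hx g => by
    rwa [mem_center_iff.1 (((commutator_eq_bot_iff_center_eq_top G).1 e).ge (mem_top x)) g,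
      mul_inv_cancel_right]⟩
  obtain ⟨φ, hφ, h1⟩ := hχ.exists_constituent fun e => nc (eq_bot_iff.2 fun g _ =>
    hk.le fun x => by rw [e]; rfl)
  have hθ := hχ.sub_irr hφ h1
  by_cases h0 : χ - φ = 0
  · obtain rfl : χ = φ := sub_eq_zero.1 h0
    by_cases hQ : pCore p G = ⊥
    · by_contra h2
      obtain ⟨a, ha⟩ := P.isPGroup'.exists_card_eq
      have M : Mc p P χ := ⟨hφ, hk, hd, hQ, hg, by
        rw [ha] at h2 ⊢
        refine pow_dvd_pow p (by_contra fun h => h2 (Dvd.dvd.mul_right ?_ _))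
        simpa using pow_dvd_pow p (show a ≤ 1 by omega), sub⟩
      exact hT G p P χ M (hN G p P χ M)
    obtain ⟨l, a, h2, h3⟩ := exists_twist (p := p) hχ (not_dvd_deg hφ (by omega))
    have h4 := (hφ.mul_linear (isCharacter_of_hom l⁻¹) (by simp)).isCharacter
    have := h4.charKer_normal
    obtain ⟨η, h5, h6, h7⟩ := exists_faithful h4
    rw [show charDegree (χ * fun g => (l⁻¹ g : ℂ)) = charDegree χ from charDegree_congr (by simp)]
      at h7
    refine fb_of_quot (fun g => ⟨a, Subtype.ext (faith hχ hk _ ?_)⟩) (ih _ η (by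
      rw [h7]
      refine Nat.add_lt_add_right (card_quot_lt fun e => hQ (eq_bot_iff.2 (le_trans ?_ e.le))) _
      intro z hz x
      obtain ⟨k, e⟩ := core_p (p := p) ⟨z, hz⟩
      simp only [Pi.mul_apply, h3 z (hφ.center_le_charCenter (core_central hχ hk hd hg hz))
        ⟨k, congrArg Subtype.val e⟩, map_mul, MonoidHom.inv_apply, Units.val_mul,
        Units.val_inv_eq_inv_val]
      field_simp) h5 h6 (h7 ▸ hd)) P
    have := apply_of_mem_charKer (g ^ p ^ a).2
    rw [Pi.mul_apply, Pi.mul_apply, coe_pow, map_pow, MonoidHom.inv_apply, inv_pow, h2] at this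
    simpa only [inv_one, Units.val_one, mul_one, map_one, coe_pow] using this
  have h2 := hφ.isCharacter.charDegree_add hθ
  have h3 := hφ.isCharacter.charKer_add hθ
  rw [add_sub_cancel] at h2 h3
  have h4 := hφ.charDegree_pos
  have h5 : 0 < charDegree (χ - φ) := Nat.pos_of_ne_zero fun e =>
    h0 (hθ.eq_zero_of_apply_one (by rw [← hθ.cast_charDegree, e, Nat.cast_zero]))
  have key : ∀ η : G → ℂ, IsCharacter G η → charDegree η < charDegree χ →
      (IsPGroup p (charKer η) → FB p G) ∧ ((commutator G ≤ charKer η ∧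
        ∀ g, ∃ k, g ^ p ^ k ∈ charKer η) ∨ p ≤ 2 * charDegree η + 1) := fun η hη h => by
    have := hη.charKer_normal
    have hs := QuotientGroup.mk'_surjective (charKer η)
    obtain ⟨ζ, k1, k2, k3⟩ := exists_faithful hη
    have fb := ih _ ζ (Nat.add_lt_add_of_le_of_lt (Nat.card_le_card_of_surjective _ hs) (k3 ▸ h))
      k1 k2 (by omega)
    refine ⟨fun e => fb_of_quot e fb, ?_⟩
    by_cases k4 : ((P : Subgroup G).map (QuotientGroup.mk' (charKer η))).Normal
    · obtain ⟨k5, k6⟩ := comm_le_of_normal hg hc k4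
      refine .inl ⟨k6, fun g => ?_⟩
      obtain ⟨k, e⟩ := P.isPGroup'.map (QuotientGroup.mk' (charKer η)) ⟨g, k5.ge (mem_top _)⟩
      exact ⟨k, (QuotientGroup.eq_one_iff _).1 (congrArg Subtype.val e)⟩
    · obtain ⟨ψ, θ, st⟩ := hSt _ p (P.mapSurjective hs) ζ k1 k2 (by omega) (fun N hN e y _ => by
        obtain ⟨y, rfl⟩ := hs y
        exact hg _ (hN.comap _) (map_le_iff_le_comap.1 e) (mem_top y)) k4 fb
      exact .inr (k3 ▸ St.le st)
  obtain ⟨a1, a2⟩ := key φ hφ.isCharacter (by omega)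
  obtain ⟨b1, b2⟩ := key _ hθ (by omega)
  rw [hk] at h3
  rcases a2 with ⟨a2, a3⟩ | a2 <;> rcases b2 with ⟨b2, b3⟩ | b2
  · exact absurd (eq_bot_iff.2 ((le_inf a2 b2).trans h3.ge)) nc
  · exact b1 (fun g => (a3 g).imp fun k e => Subtype.ext (mem_bot.1 (h3.ge ⟨e, (g ^ p ^ k).2⟩))) P
  · exact a1 (fun g => (b3 g).imp fun k e => Subtype.ext (mem_bot.1 (h3.ge ⟨(g ^ p ^ k).2, e⟩))) P
  · omega

theorem st_RR (hSt : JobSt.{u}) (hF : JobFeit.{u}) {G : Type u} [Group G] [Finite G] {p : ℕ}
    [Fact p.Prime] {P : Sylow p G} {χ : G → ℂ} (hχ : IsCharacter G χ) (hk : charKer χ = ⊥)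
    (hd : charDegree χ + 1 < p) (hn : ¬ (P : Subgroup G).Normal) :
    ∃ ψ θ, St p (fun x : RR p G => χ x) ψ θ :=
  hSt _ p _ _ (hχ.restrict _) (res_ker hχ hk _) hd (gen_RR _) (nn_RR hn)
    (hF _ p _ (hχ.restrict _) (res_ker hχ hk _) hd)

theorem jobSplit (hSt : JobSt.{u}) (hF : JobFeit.{u}) : JobSplit.{u} := by
  intro G _ _ p hp P χ hχ hk hd hn
  classical
  obtain ⟨ψ, θ, st⟩ := st_RR hSt hF hχ.isCharacter hk hd hn
  have e0 : ∀ x : RR p G, χ x = ψ x + θ x := congrFun st.add
  obtain rfl : θ = 0 := by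
    let A := (commutator (RR p G)).map (RR p G).subtype
    cases nonempty_fintype A
    by_contra h0
    obtain ⟨a, ha⟩ := (st.irr.isCharacter.comp (inclusion (map_subtype_le _ : A ≤ _))).classInner_nat
      isCharacter_one
    have h1 := hχ.le_charKer_of_classInner_ne_zero A (by
      rw [show (fun x : A => χ x) = (fun x => ψ (inclusion (map_subtype_le _ : A ≤ _) x)) +
          θ 1 • fun _ => (1 : ℂ) from funext fun ⟨_, x, hx, rfl⟩ => by
        exact (e0 x).trans (by rw [apply_of_mem_charKer (st.ker hx)]; simp; rfl),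
        classInner_add_left, ha,
        classInner_smul_left, isIrrCharacter_one.classInner_self, mul_one, ← st.chr.cast_charDegree,
        ← Nat.cast_add, Nat.cast_ne_zero]
      exact fun e => h0 (st.chr.eq_zero_of_apply_one (by
        rw [← st.chr.cast_charDegree, (Nat.add_eq_zero_iff.1 e).2, Nat.cast_zero])))
    have h2 := st.dvd
    rw [← card_map_of_injective (RR p G).subtype_injective, show map _ _ = ⊥ from
      eq_bot_iff.2 (h1.trans hk.le), card_bot] at h2
    exact hp.out.one_lt.ne' (Nat.dvd_one.1 h2)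
  simp only [Pi.zero_apply, add_zero] at e0
  let Q := (pCore p (RR p G)).map (RR p G).subtype
  have hQ : Q ≤ charCenter χ := by
    rintro _ ⟨z, hz, rfl⟩
    have := st.irr.mem_charCenter.1 (st.irr.center_le_charCenter (st.cen hz))
    rw [← e0, ← e0] at this
    exact hχ.mem_charCenter.2 this
  have hZ : Q ≤ center G := hQ.trans (hχ.charCenter_eq_center hk).le
  obtain ⟨l, a, h1, h2⟩ := exists_twist (p := p) hχ.isCharacter (not_dvd_deg hχ (by omega))
  have h3 : l.ker ⊓ Q = ⊥ := eq_bot_iff.2 fun z hz => hk.le fun x => by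
    obtain ⟨k, e⟩ := core_p.map _ (⟨z, hz.2⟩ : Q)
    rw [h2 z (hQ hz.2) ⟨k, congrArg Subtype.val e⟩, show l z = 1 from hz.1, Units.val_one, one_mul]
  have h4 : ∀ x ∈ commutator (RR p G), (x : G) ∈ l.ker := fun x hx =>
    Abelianization.commutator_subset_ker (l.comp (RR p G).subtype) hx
  have h5 : ∀ g : G, ∃ a ∈ l.ker, ∃ q ∈ Q, g = a * q := fun g => by
    have : Q.Normal := ⟨fun x hx g => by rwa [mem_center_iff.1 (hZ hx) g, mul_inv_cancel_right]⟩
    have h6 : RR p G ≤ l.ker ⊔ Q := fun x hx => by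
      obtain ⟨a, ha, q, hq, e⟩ := st.sup ⟨x, hx⟩
      rw [show x = a * q from congrArg Subtype.val e]
      exact mul_mem (mem_sup_left (h4 a ha)) (mem_sup_right ⟨q, hq, rfl⟩)
    obtain ⟨a, ha, q, hq, e⟩ := mem_sup_of_normal_right.1 ((QuotientGroup.eq_one_iff g).1
      ((pow_eq_one_iff_of_coprime (((Nat.Prime.coprime_iff_not_dvd hp.out).2 fun h =>
        P.not_dvd_index (h.trans (index_dvd_of_le ((le_RR P).trans h6)))).pow_left a)).1
        ⟨(QuotientGroup.eq_one_iff (g ^ p ^ a)).2 (mem_sup_left (show l _ = 1 by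
          rw [map_pow, h1])), pow_card_eq_one'⟩))
    exact ⟨a, ha, q, hq, e.symm⟩
  have cp : ∀ {H : Type u} [Group H] {A B : Subgroup H}, (∀ g ∈ A, g ∈ B → g = 1) →
      (∀ g, ∃ a ∈ A, ∃ q ∈ B, g = a * q) → Nat.card A * Nat.card B = Nat.card H :=
    fun e1 e2 => (isComplement'_of_disjoint_and_mul_eq_univ (disjoint_def.2 fun a b => e1 _ a b)
      (Set.eq_univ_of_forall fun g => by
        obtain ⟨a, ha, q, hq, rfl⟩ := e2 g
        exact Set.mul_mem_mul ha hq)).card_mul_card
  have h6 := cp (fun g a b => mem_bot.1 (h3.le ⟨a, b⟩)) h5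
  rw [card_map_of_injective (RR p G).subtype_injective, ← (RR p G).card_mul_index,
    ← cp st.inf st.sup, mul_right_comm] at h6
  replace h6 := Nat.eq_of_mul_eq_mul_right Nat.card_pos h6
  obtain ⟨R, hR⟩ := exists_sylow_card (h6 ▸ st.dvd.mul_right _) fun h => st.syl (by
    rw [h6] at h
    exact (((Nat.Prime.coprime_iff_not_dvd hp.out).2 fun e => P.not_dvd_index
      (e.trans (index_dvd_of_le (le_RR P)))).pow_left 2).dvd_of_dvd_mul_right h)
  refine ⟨l.ker, Q, R, hZ, h3, h5, hR, no_normal st.inf st.dvd st.gen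
    (((RR p G).subtype.comp (commutator _).subtype).codRestrict _ fun x => h4 x x.2)
    (fun a b e => Subtype.ext (Subtype.ext (Subtype.ext_iff.1 e :))) R,
    irr_restrict hχ fun g => ?_⟩
  obtain ⟨a, ha, q, hq, e⟩ := h5 g
  exact ⟨a, ha, q, hZ hq, e⟩

theorem s0899_of (hSt : JobSt.{u}) (hF : JobFeit.{u}) {G : Type u} [Group G] [Finite G] (n : ℕ)
    (ρ : Representation ℂ G (Fin n → ℂ)) (hρ : Function.Injective ρ) (p : ℕ) [Fact p.Prime]
    (h : (n + 1) ^ 2 ≤ p ∨ (n + 1 < p ∧ ∀ K : Subgroup G, ¬ p ^ 2 ∣ Nat.card K →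
      ∀ Q : Sylow p K, (Q : Subgroup K).Normal)) (P : Sylow p G) : (P : Subgroup G).Normal := by
  by_contra hn
  have h1 : charDegree ρ.character = n := by rw [charDegree_rep, Module.finrank_fin_fun]
  have h2 := (Fact.out : p.Prime).two_le
  obtain ⟨ψ, θ, st⟩ := st_RR hSt hF (isCharacter_rep ρ)
    (by rw [charKer_rep, (MonoidHom.ker_eq_bot_iff _).2 hρ])
    (by rw [h1]; rcases h with h | h; exacts [by nlinarith, h.1]) hn
  rcases h with h | ⟨-, h⟩
  · have h3 : p ≤ 2 * n + 1 := h1 ▸ (St.le st :)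
    nlinarith
  · exact no_normal st.inf st.dvd st.gen ((commutator _).equivMapOfInjective _
      (RR p G).subtype_injective).toMonoidHom (MulEquiv.injective _) (Classical.arbitrary _)
      (h _ (by rw [card_map_of_injective (RR p G).subtype_injective]; exact st.syl) _)

end H1.PR2
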