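import Cfsg.Agent.H2.PrSpec2
import Cfsg.Agent.H87.LinD
import Cfsg.Agent.H32.McE
import Cfsg.Agent.H18.PSolv
import Cfsg.Agent.S4465
import Cfsg.Agent.S4468

/-! `blueprints/PRIME.md`, part 2: `JobEig → JobSt`. -/

set_option autoImplicit false
set_option linter.unusedSectionVars false

namespace H1.PR2

open Cfsg H28 H87 H2.PR Subgroup
open scoped commutatorElement

universe u

variable {G : Type*} [Group G] [Finite G] {p : ℕ} [hp : Fact p.Prime] {χ : G → ℂ}

theorem le_core {N : Subgroup G} (hN : N.Normal) (h : IsPGroup p N) : N ≤ pCore p G :=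
  le_sSup ⟨hN, h⟩

theorem core_le (P : Sylow p G) : pCore p G ≤ P :=
  sSup_le fun _ h => by have := h.1; exact h.2.le_sylow_of_normal P

theorem core_p : IsPGroup p (pCore p G) :=
  (Classical.arbitrary (Sylow p G)).isPGroup'.to_le (core_le _)

theorem zp_p {x : G} {k : ℕ} (h : x ^ p ^ k = 1) : IsPGroup p (zpowers x) := fun ⟨_, j, e⟩ =>
  ⟨k, Subtype.ext (by
    subst e
    change (x ^ j) ^ p ^ k = 1
    rw [← zpow_natCast, ← zpow_mul, mul_comm, zpow_mul, zpow_natCast, h, one_zpow])⟩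

theorem le_of_idx {N S : Subgroup G} (hN : N.Normal) (hS : IsPGroup p S) (h : ¬ p ∣ N.index) :
    S ≤ N := fun x hx => by
  obtain ⟨k, hk⟩ := hS ⟨x, hx⟩
  refine (QuotientGroup.eq_one_iff x).1 ((pow_eq_one_iff_of_coprime
    (((Nat.Prime.coprime_iff_not_dvd hp.out).2 h).pow_left k)).1 ⟨?_, pow_card_eq_one'⟩)
  rw [← QuotientGroup.mk_pow, show x ^ p ^ k = 1 from congrArg Subtype.val hk, QuotientGroup.mk_one]

/-- a normal subgroup containing a Sylow subgroup contains all `p`-elements -/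
theorem pel_mem {N : Subgroup G} (hN : N.Normal) {P : Sylow p G} (h : (P : Subgroup G) ≤ N) {x : G}
    {k : ℕ} (hx : x ^ p ^ k = 1) : x ∈ N :=
  le_of_idx hN (zp_p hx)
    (fun e => P.not_dvd_index (e.trans (index_dvd_of_le h))) (mem_zpowers x)

theorem faith (hχ : IsCharacter G χ) (hk : charKer χ = ⊥) (g : G) (h : χ g = χ 1) : g = 1 :=
  mem_bot.1 (hk.le (hχ.mem_charKer.2 h))

/-- Blichfeldt: the Sylow subgroups are abelian. -/
theorem syl_comm (hχ : IsCharacter G χ) (hk : charKer χ = ⊥) (hd : charDegree χ + 1 < p)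
    (P : Sylow p G) : ∀ a ∈ (P : Subgroup G), ∀ b ∈ (P : Subgroup G), a * b = b * a := by
  obtain ⟨A, h1, -, h2⟩ := Cfsg.Agent.S4465.result χ hχ (faith hχ hk) _ rfl
  obtain ⟨T⟩ : Nonempty (Sylow p A) := inferInstance
  have h3 : ¬ p ∣ ((T : Subgroup A).map A.subtype).index := by
    rw [index_map_subtype, hp.out.dvd_mul]
    exact fun h => h.elim T.not_dvd_index fun h => by have := h2 p hp.out h; omega
  obtain ⟨g, rfl⟩ := MulAction.exists_smul_eq G ((T.isPGroup'.map _).toSylow h3) P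
  rintro _ ⟨_, ⟨a, -, rfl⟩, rfl⟩ _ ⟨_, ⟨b, -, rfl⟩, rfl⟩
  exact Commute.map (h1 _ a.2 _ b.2) (MulAut.conj g)

theorem core_central (hχ : IsCharacter G χ) (hk : charKer χ = ⊥) (hd : charDegree χ + 1 < p)
    {P : Sylow p G} (hg : Gen (P : Subgroup G)) : pCore p G ≤ center G := fun z hz =>
  mem_center_iff.2 fun g => (hg (centralizer (pCore p G : Set G)) inferInstance
    (fun a ha b hb => syl_comm hχ hk hd P b (core_le P hb) a ha) (mem_top g) z hz).symm

/-- The linear character of `p`-power order given by the scalar action of the `p`-elements. -/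
theorem exists_twist (hχ : IsCharacter G χ) (hd : ¬ p ∣ charDegree χ) :
    ∃ (l : G →* ℂˣ) (a : ℕ), (∀ g, l g ^ p ^ a = 1) ∧
      ∀ z ∈ charCenter χ, (∃ k, z ^ p ^ k = 1) → ∀ x, χ (z * x) = l z * χ x := by
  obtain ⟨a, r, h1, h2⟩ := Nat.exists_eq_pow_mul_and_not_dvd (Nat.card_pos (α := G)).ne' p
    hp.out.one_lt.ne'
  have hc : (r * charDegree χ).Coprime (p ^ a) := (Nat.Coprime.pow_left a
    ((Nat.Prime.coprime_iff_not_dvd hp.out).2 fun h => (hp.out.dvd_mul.1 h).elim h1 hd)).symm
  obtain ⟨m, hm⟩ : ∃ m, r * charDegree χ * m ≡ 1 [MOD p ^ a] := by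
    obtain ⟨m, hm⟩ := Nat.exists_mul_mod_eq_of_coprime 1 hc (pow_pos hp.out.pos a).ne'
    exact ⟨m, hm.2⟩
  refine ⟨H32.detH χ ^ (r * m), a, fun g => ?_, fun z hz ⟨k, hk⟩ x => ?_⟩
  · rw [MonoidHom.pow_apply, ← pow_mul, mul_right_comm, mul_comm r, ← h2, pow_mul, ← map_pow,
      pow_card_eq_one', map_one, one_pow]
  obtain ⟨n, ρ, rfl, h3⟩ := H32.exists_rep_detChar hχ
  obtain ⟨ω, hω⟩ := (mem_charCenter_rep ρ).1 hz
  rw [charDegree_rep] at hd hm
  have : Nontrivial (Fin n → ℂ) := Module.nontrivial_of_finrank_pos (R := ℂ)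
    (Nat.pos_of_ne_zero fun e => hd (e ▸ dvd_zero p))
  have h4 : z ^ p ^ a = 1 := by
    obtain ⟨j, -, hj⟩ := (Nat.dvd_prime_pow hp.out).1 (orderOf_dvd_of_pow_eq_one hk)
    refine orderOf_dvd_iff_pow_eq_one.1 ?_
    have := orderOf_dvd_natCard z
    rw [h2, hj] at this
    exact hj ▸ (((Nat.Prime.coprime_iff_not_dvd hp.out).2 h1).pow_left j).dvd_of_dvd_mul_right this
  have h5 : ω ^ p ^ a = 1 := by
    have := congrArg ρ h4
    rw [map_pow, hω, map_one, ← Module.End.one_eq_id, _root_.smul_pow, one_pow] at this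
    exact smul_left_injective ℂ (one_ne_zero (α := Module.End ℂ (Fin n → ℂ)))
      (this.trans (one_smul ℂ _).symm)
  rw [MonoidHom.pow_apply, Units.val_pow_eq_pow_val, H32.detH_apply, h3]
  simp only [Representation.character, map_mul, hω, LinearMap.det_smul, LinearMap.det_id, mul_one]
  rw [← pow_mul, mul_left_comm, ← mul_assoc, pow_eq_pow_of_modEq hm h5, pow_one,
    ← Module.End.one_eq_id, smul_mul_assoc, one_mul, map_smul, smul_eq_mul]

theorem not_dvd_deg {φ : G → ℂ} (hφ : IsIrrCharacter G φ) (h : charDegree φ < p) :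
    ¬ p ∣ charDegree φ := Nat.not_dvd_of_pos_of_lt hφ.charDegree_pos h

theorem irr_restrict (hχ : IsIrrCharacter G χ) {K : Subgroup G}
    (h : ∀ g, ∃ a ∈ K, ∃ z ∈ center G, g = a * z) : IsIrrCharacter K fun a => χ a := by
  have hc := hχ.center_le_charCenter
  obtain ⟨n, ρ, hρ, rfl⟩ := hχ
  obtain ⟨h1, h2⟩ := (isIrreducible_iff_submodule ρ).1 hρ
  refine ⟨n, ρ.comp K.subtype, (isIrreducible_iff_submodule _).2
    ⟨h1, fun U hU => h2 U fun g v hv => ?_⟩, rfl⟩
  obtain ⟨a, ha, z, hz, rfl⟩ := h g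
  obtain ⟨ω, hω⟩ := (mem_charCenter_rep ρ).1 (hc hz)
  rw [map_mul, Module.End.mul_apply, hω]
  exact hU ⟨a, ha⟩ _ (U.smul_mem ω hv)

theorem exists_faithful (hχ : IsCharacter G χ) [(charKer χ).Normal] :
    ∃ η : G ⧸ charKer χ → ℂ, IsCharacter _ η ∧ charKer η = ⊥ ∧ charDegree η = charDegree χ := by
  obtain ⟨η, hη, h⟩ := hχ.exists_quotient _ le_rfl
  refine ⟨η, hη, charKer_eq_bot_of_forall fun y hy => ?_, charDegree_congr (h 1)⟩
  obtain ⟨y, rfl⟩ := QuotientGroup.mk_surjective y
  exact (QuotientGroup.eq_one_iff _).2 (hχ.mem_charKer.2 ((h y).symm.trans (hy.trans (h 1))))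

theorem comm_le_of_normal {P T : Subgroup G} [T.Normal] (hg : Gen P)
    (hc : ∀ a ∈ P, ∀ b ∈ P, a * b = b * a) (h : (P.map (QuotientGroup.mk' T)).Normal) :
    P.map (QuotientGroup.mk' T) = ⊤ ∧ commutator G ≤ T := by
  have h1 : ∀ g, QuotientGroup.mk' T g ∈ P.map (QuotientGroup.mk' T) := fun g =>
    hg _ (h.comap _) (le_comap_map _ _) (mem_top g)
  refine ⟨eq_top_iff.2 fun y _ => ?_, commutator_le.2 fun a _ b _ => ?_⟩
  · obtain ⟨y, rfl⟩ := QuotientGroup.mk'_surjective T y
    exact h1 y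
  obtain ⟨x, hx, ex⟩ := h1 a
  obtain ⟨y, hy, ey⟩ := h1 b
  rw [← QuotientGroup.eq_one_iff, ← QuotientGroup.mk'_apply, map_commutatorElement, ← ex, ← ey,
    ← map_commutatorElement, commutatorElement_eq_one_iff_mul_comm.2 (hc x hx y hy), map_one]

theorem big_of {S : Sylow p G} (hS : Nat.card (S : Subgroup G) = p) (hg : Gen (S : Subgroup G))
    (hc : commutator G = ⊤) (hχ : IsCharacter G χ) (h : charKer χ ≠ ⊤) :
    p ≤ 2 * charDegree χ + 1 := by
  have hN := hχ.charKer_normal
  have h1 : ¬ p ∣ Nat.card (charKer χ) := fun e => h (top_le_iff.1 (hg _ hN (le_of_idx hN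
    S.isPGroup' fun e' => S.not_dvd_index ?_)))
  · obtain ⟨η, h2, h3, h4⟩ := exists_faithful hχ
    by_contra h5
    have := (brauer_half.{_, 0} (card_sylow_quot hS h1) (fun e => h (top_le_iff.1 (hc.ge.trans
      (comm_le_of_normal hg (fun a ha b hb => le_centralizer_prime hS hb a ha) e).2)))
      h2 h3 (by omega)).1
    omega
  · have := mul_dvd_mul e' e
    rw [index_mul_card, ← (S : Subgroup G).index_mul_card, hS] at this
    exact Nat.dvd_of_mul_dvd_mul_right hp.out.pos this

theorem no_normal (hi : ∀ g ∈ commutator G, g ∈ pCore p G → g = 1)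
    (hd : p ∣ Nat.card (commutator G))
    (hg : commutator G ≤ closure {s | s ∈ commutator G ∧ orderOf s = p})
    {L : Type*} [Group L] [Finite L] (f : commutator G →* L) (hf : Function.Injective f)
    (R : Sylow p L) : ¬ (R : Subgroup L).Normal := fun h => by
  have h1 : commutator G ≤ ((R : Subgroup L).comap f).map (commutator G).subtype :=
    hg.trans ((closure_le _).2 fun s hs => ⟨⟨s, hs.1⟩, pel_mem h le_rfl (k := 1) (by
      rw [← map_pow, show (⟨s, hs.1⟩ : commutator G) ^ p ^ 1 = 1 from Subtype.ext (by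
        rw [coe_pow, pow_one]; exact orderOf_dvd_iff_pow_eq_one.1 hs.2.dvd), map_one]), rfl⟩)
  have h2 := le_core inferInstance (((R.isPGroup'.comap_of_injective f hf).map _).to_le h1)
  rw [show commutator G = ⊥ from eq_bot_iff.2 fun g hg => mem_bot.2 (hi g hg (h2 hg)),
    card_bot] at hd
  exact hp.out.one_lt.ne' (Nat.dvd_one.1 hd)

theorem jobSt (hE : JobEig.{u}) : JobSt.{u} := by
  intro G _ _ p hp P χ hχ hk hd hg hn fb
  classical
  cases nonempty_fintype G
  have cen := core_central hχ hk hd hg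
  have cP : Nat.card (P : Subgroup G) = p * Nat.card (pCore p G) := by
    have h1 := fb P
    obtain ⟨k, e⟩ := card_dvd_of_le (core_le P)
    rw [e, mul_comm p] at h1 ⊢
    rcases (Nat.dvd_prime hp.out).1 (Nat.dvd_of_mul_dvd_mul_left Nat.card_pos h1) with rfl | rfl
    · exact absurd (eq_of_le_of_card_ge (core_le P) (by rw [e, mul_one]) ▸ inferInstance) hn
    · rfl
  have top : ∀ N : Subgroup G, N.Normal → p ∣ (pCore p G).relIndex (N ⊔ pCore p G) → ∀ g : G,
      ∃ a ∈ N, ∃ q ∈ pCore p G, g = a * q := fun N hN h g => by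
    have h1 := hg (N ⊔ pCore p G) inferInstance (le_of_idx inferInstance P.isPGroup' fun e =>
      P.not_dvd_index (by
        have := mul_dvd_mul e (mul_dvd_mul_right h (Nat.card (pCore p G)))
        rw [mul_comm (relIndex _ _), H46.card_mul_relIndex le_sup_right, index_mul_card,
          ← (P : Subgroup G).index_mul_card, cP] at this
        exact Nat.dvd_of_mul_dvd_mul_right (mul_pos hp.out.pos Nat.card_pos) this)) (mem_top g)
    obtain ⟨a, ha, q, hq, e⟩ := mem_sup_of_normal_right.1 h1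
    exact ⟨a, ha, q, hq, e.symm⟩
  have sup := top (commutator G) inferInstance (by
    by_contra h
    have h1 : IsPSolvable p G := H18.isPSolvable_of_normal_of_quotient (commutator G ⊔ pCore p G)
      (H18.isPSolvable_of_normal_of_quotient ((pCore p G).subgroupOf _)
        (H18.isPSolvable_of_isPGroup core_p.comap_subtype) (H18.isPSolvable_of_coprime
          ((Nat.Prime.coprime_iff_not_dvd hp.out).2 h).symm))
      (by
        have := Group.isSolvable_of_comm (G := G ⧸ (commutator G ⊔ pCore p G)) fun a b =>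
          (Normal.quotient_commutative_iff_commutator_le.2 le_sup_left).is_comm.comm a b
        exact H18.isPSolvable_of_isSolvable p)
    have := (Cfsg.Agent.S4468.result χ hχ (faith hχ hk) _ rfl p hp.out h1 hd.le P hn).1
    omega)
  have inf : ∀ g ∈ commutator G, g ∈ pCore p G → g = 1 := fun g h1 h2 =>
    mem_bot.1 (hk.le (hχ.mem_charKer_iff_constituents.2 fun φ hφ h3 x => by
      obtain ⟨l, a, -, h4⟩ := exists_twist (p := p) hφ.isCharacter (not_dvd_deg hφ (by
        have := hχ.charDegree_le_of_constituent hφ h3; omega))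
      obtain ⟨k, e⟩ := core_p (p := p) ⟨g, h2⟩
      rw [h4 g (hφ.center_le_charCenter (cen h2)) ⟨k, congrArg Subtype.val e⟩,
        show l g = 1 from Abelianization.commutator_subset_ker l h1, Units.val_one, one_mul]))
  have cG : Nat.card (commutator G) = p * (P : Subgroup G).index := by
    have h1 : (commutator G).IsComplement' (pCore p G) :=
      isComplement'_of_disjoint_and_mul_eq_univ (disjoint_def.2 fun h1 h2 => inf _ h1 h2)
        (Set.eq_univ_of_forall fun g => by
          obtain ⟨a, ha, q, hq, rfl⟩ := sup g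
          exact Set.mul_mem_mul ha hq)
    have := h1.card_mul_card
    rw [← (P : Subgroup G).index_mul_card, cP, ← mul_assoc, mul_comm _ p] at this
    exact Nat.eq_of_mul_eq_mul_right Nat.card_pos this
  have dvd : p ∣ Nat.card (commutator G) := ⟨_, cG⟩
  have syl : ¬ p ^ 2 ∣ Nat.card (commutator G) := fun h => P.not_dvd_index (by
    rw [cG, sq] at h
    exact Nat.dvd_of_mul_dvd_mul_left hp.out.pos h)
  have gen : commutator G ≤ closure {s | s ∈ commutator G ∧ orderOf s = p} := by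
    have h1 : closure {s | s ∈ commutator G ∧ orderOf s = p} ≤ commutator G :=
      (closure_le _).2 fun _ h => h.1
    have h2 : (closure {s | s ∈ commutator G ∧ orderOf s = p}).Normal := ⟨fun x hx g =>
      (closure_le ((closure {s | s ∈ commutator G ∧ orderOf s = p}).comap
        (MulAut.conj g).toMonoidHom)).2 (fun s hs => subset_closure
          ⟨Normal.conj_mem inferInstance s hs.1 g, (H46.orderOf_conj g s).trans hs.2⟩) hx⟩
    intro g hg
    obtain ⟨s, hs, h3⟩ := H46.cauchy hp.out dvd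
    obtain ⟨a, ha, q, hq, rfl⟩ := top _ h2 (by
      rw [relIndex_sup_right, ← inf_relIndex_right, show pCore p G ⊓ _ = ⊥ from eq_bot_iff.2
        fun x hx => mem_bot.2 (inf x (h1 hx.2) hx.1), relIndex_bot_left]
      exact h3.symm.dvd.trans (orderOf_dvd_natCard _ (subset_closure ⟨hs, h3⟩))) g
    rwa [inf q ((mul_mem_cancel_left (h1 ha)).1 hg) hq, mul_one]
  have perf : ⁅commutator G, commutator G⁆ = commutator G := by
    refine le_antisymm (commutator_le_left _ _) (commutator_le.2 fun g _ h _ => ?_)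
    obtain ⟨a, ha, q, hq, rfl⟩ := sup g
    obtain ⟨b, hb, r, hr, rfl⟩ := sup h
    have h1 := mem_center_iff.1 (cen hq)
    have h2 := mem_center_iff.1 (cen hr)
    rw [show ⁅a * q, b * r⁆ = ⁅a, b⁆ by
      calc _ = a * (q * (b * r)) * (q⁻¹ * a⁻¹) * (r⁻¹ * b⁻¹) := by group
        _ = a * b * (r * a⁻¹) * (r⁻¹ * b⁻¹) := by rw [← h1]; group
        _ = _ := by rw [← h2]; group]
    exact commutator_mem_commutator ha hb
  have nn := no_normal inf dvd gen (MonoidHom.id _) Function.injective_id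
  have cS : ∀ S : Sylow p (commutator G), Nat.card (S : Subgroup (commutator G)) = p := fun S => by
    obtain ⟨S', h⟩ := exists_sylow_card dvd syl
    rw [S.card_eq_multiplicity, ← S'.card_eq_multiplicity, h]
  have big : ∀ η : G → ℂ, IsCharacter G η → ¬ commutator G ≤ charKer η →
      p ≤ 2 * charDegree η + 1 := fun η hη h => by
    obtain ⟨S⟩ : Nonempty (Sylow p (commutator G)) := inferInstance
    refine big_of (χ := fun x : commutator G => η x) (cS S) (fun N hN h1 x _ => ?_) ?_ (hη.restrict _) fun e => h ?_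
    · obtain ⟨y, hy, e⟩ := (closure_le (N.map (commutator G).subtype)).2 (fun s hs =>
        ⟨⟨s, hs.1⟩, mem_of_orderOf hN h1 ((orderOf_mk _ _).trans hs.2), rfl⟩) (gen x.2)
      exact Subtype.ext e ▸ hy
    · apply map_injective (commutator G).subtype_injective
      rw [map_subtype_commutator, perf, ← MonoidHom.range_eq_map, range_subtype]
    · rwa [hη.charKer_restrict, subgroupOf_eq_top] at e
  obtain ⟨ψ, hψ, h1, h2⟩ : ∃ ψ, IsIrrCharacter G ψ ∧ classInner χ ψ ≠ 0 ∧
      ¬ commutator G ≤ charKer ψ := by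
    by_contra! h
    rw [show commutator G = ⊥ from eq_bot_iff.2 (le_trans (fun g hg => hχ.mem_charKer_iff_constituents.2
      fun φ hφ h1 => h φ hφ h1 hg) hk.le), card_bot] at dvd
    exact hp.out.one_lt.ne' (Nat.dvd_one.1 dvd)
  have hθ := hχ.sub_irr hψ h1
  have h3 := hψ.isCharacter.charDegree_add hθ
  rw [add_sub_cancel] at h3
  have h4 := big ψ hψ.isCharacter h2
  have ker : commutator G ≤ charKer (χ - ψ) := by
    by_contra h
    have := big _ hθ h
    omega
  have fa : ∀ a ∈ commutator G, ψ a = ψ 1 → a = 1 := fun a ha e => faith hχ hk a (by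
    have := apply_of_mem_charKer (ker ha)
    rw [Pi.sub_apply, Pi.sub_apply, e] at this
    exact sub_left_injective this)
  refine ⟨ψ, χ - ψ, hψ, hθ, (add_sub_cancel _ _).symm, ker, cen, sup, inf, dvd, syl, gen, perf, fa,
    h4, fun s hs h5 => ?_⟩
  obtain ⟨S, hS⟩ := (zp_p (x := (⟨s, hs⟩ : commutator G)) (k := 1) (Subtype.ext (by
    rw [coe_pow, pow_one]; exact orderOf_dvd_iff_pow_eq_one.1 h5.dvd))).exists_le_sylow
  exact (hE _ p S (cS S) (nn S) _ (irr_restrict hψ fun g => by
    obtain ⟨a, ha, q, hq, e⟩ := sup g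
    exact ⟨a, ha, q, cen hq, e⟩) (charKer_eq_bot_of_forall fun a e => Subtype.ext (fa _ a.2 e))
    (show charDegree ψ + 1 < p by omega)).2.2 ⟨s, hs⟩ (hS (mem_zpowers _)) fun e =>
      ne_one_of_orderOf_prime h5 (congrArg Subtype.val e)

end H1.PR2
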