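import Cfsg.Agent.H70.RRSpec
import Cfsg.Agent.H1.InvSylow
import Cfsg.Agent.H90.Zass
import Cfsg.Agent.H8.SylowInf
import Cfsg.Agent.H18.Misc2
import Cfsg.Agent.H98.Sylow

/-! RR-W (S3530). -/

set_option autoImplicit false

namespace H1.RR

open Cfsg Subgroup H24 H70.Sq H10.W H70.RR H98

universe u

section
variable {G : Type u} [Group G] [Finite G]

theorem ord_pq {K : Subgroup G} {x y : G} (hx : x ∈ K) (hy : y ∈ K) (c : Commute x y) {p q : ℕ}
    (hpq : p.Coprime q) (h1 : p ∣ orderOf x) (h2 : q ∣ orderOf y) : Ord K (p * q) := by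
  have e1 := orderOf_pow_orderOf_div (orderOf_pos x).ne' h1
  have e2 := orderOf_pow_orderOf_div (orderOf_pos y).ne' h2
  have e3 := (c.pow_pow (orderOf x / p) (orderOf y / q)).orderOf_mul_eq_mul_orderOf_of_coprime
    (by rwa [e1, e2])
  rw [e1, e2] at e3
  exact e3 ▸ ord_mem (mul_mem (pow_mem hx _) (pow_mem hy _))

theorem ex_ord {K : Subgroup G} {p : ℕ} (hp : p.Prime) (h : p ∣ Nat.card K) : ∃ x ∈ K, orderOf x = p :=
  let ⟨x, hx⟩ := ord_of_prime hp h
  ⟨x, x.2, (orderOf_coe x).trans hx⟩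

omit [Finite G] in
theorem pg {p : ℕ} {W : Subgroup G} (h : IsElementaryAbelian p W) : IsPGroup p W :=
  isPGroup_iff_forall.2 fun x hx => ⟨1, by rw [pow_one, h.2 x hx]⟩

/-- an element of order `p` in the kernel of rank one, and an element of order `q` of `T` -/
theorem up (kB : KitB.{u}) {H : Type u} [Group H] [Finite H] {ψ : G →* H} {K : Subgroup G} {T : Subgroup H}
    (hT : ⁅T, T⁆ = T) (hK : T ≤ K.map ψ) {p q : ℕ} (hp : p.Prime) (hq : q.Prime) (hpq : p.Coprime q)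
    (hp2 : p ≠ 2) (hr : ¬ Rk p (K ⊓ ψ.ker)) (h1 : p ∣ Nat.card ↥(K ⊓ ψ.ker)) (h2 : q ∣ Nat.card T) :
    Ord K (p * q) := by
  obtain ⟨x, hx, hxp⟩ := ex_ord hp h1
  obtain ⟨t, ht, htq⟩ := ex_ord hq h2
  obtain ⟨g, hg, rfl⟩ := kB.p1 hT hK hp hp2 hr hx hxp ht
  exact ord_pq hx.1 hg.1 (mem_centralizer_singleton_iff.1 hg.2).symm hpq hxp.symm.dvd
    (htq ▸ orderOf_map_dvd ψ g)

end

theorem jobW (kA : KitA.{u}) (kB : KitB.{u}) (hAF : JobAF.{u}) : JobW.{u} := by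
  intro m G H _ _ _ _ ψ hA T l n d ν β i j k b a c hT hL hl2 h3ν hnd hb hl ha hc hbν had hbR hrb hrc
    ⟨g, hgb, hgT, hg1⟩
  by_contra hno
  have hN := hA.num
  simp only [List.nodup_cons, List.mem_cons, List.not_mem_nil, or_false, not_or] at hnd
  obtain ⟨⟨n1, n2, n3, n4⟩, ⟨n5, n6, n7⟩, ⟨n8, -⟩, -⟩ := hnd
  have h3 : Cl m 0 3 := (hN.zero 3).2 rfl
  have ne : ∀ {x y : Fin 5} {p q : ℕ}, x ≠ y → Cl m x p → Cl m y q → p ≠ q := fun h hp hq =>
    (Nat.coprime_primes hp.1 hq.1).1 (hN.cop h hp hq)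
  have := Fact.mk hb.1
  obtain ⟨hq1, hq2, -⟩ : 2 * d + 1 = l ^ n ∧ ν = d + 1 ∧ True := by
    rcases hL.par with h | h
    · exact absurd h.1 hl2
    · exact ⟨h.2.2.2.1, h.2.2.2.2, trivial⟩
  have hcT : Nat.card T = ν * (2 * (l ^ n * d)) := by rw [hL.card, ← hq1, hq2]; ring
  have hsol := hA.sol
  obtain ⟨L, hLR, hL1, hL2, -, hL4, hL5⟩ := kA.hall (K := ψ.ker) {b, c} hsol
  have hcov : ∀ {K K' : Subgroup G}, K ≤ ψ.ker ⊔ K' → K.map ψ ≤ K'.map ψ := fun h =>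
    (map_mono h).trans (by rw [Subgroup.map_sup, (map_eq_bot_iff ψ.ker).2 le_rfl, bot_sup_eq])
  have hNT : T ≤ (normalizer (L : Set G)).map ψ := by
    have := hcov ((hL5 ⊤ le_top (normalizer_eq_top _).ge).trans (by rw [top_inf_eq]))
    rw [map_top_of_surjective _ hA.sj] at this
    exact le_top.trans this
  obtain ⟨u, hu, hub⟩ := ex_ord hb.1 ((hL1 b hb.1).2 ⟨Or.inl rfl, hbR⟩)
  have hu1 : u ≠ 1 := fun e => hb.1.ne_one (by rw [← hub, e, orderOf_one])
  obtain ⟨r, W, hr, hWL, hW1, hWe, hWn⟩ := kB.min (K := normalizer (L : Set G)) (N := L)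
    (Group.isSolvable_of_isSolvable_injective (f := inclusion hLR) (inclusion_injective hLR))
    (fun e => hu1 (mem_bot.1 (e ▸ hu))) le_rfl
  obtain rfl : r = c := by
    have := Fact.mk hr
    rcases ((hL1 r hr).1 (((pg hWe).card_eq_or_dvd.resolve_left fun e => hW1 (card_eq_one.1 e)).trans
      (card_dvd_of_le hWL))).1 with e | e
    · subst e
      obtain ⟨x, hx, v, hv, h1, h2, h4⟩ := kA.f1 hc.1 hr (ne n7 hb hc).symm (hL4 c (Or.inr rfl) hc.1 hrc)
        (pg hWe) hW1 (le_sup_right.trans hWn)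
      exact (hno (ord_pq (hLR (hWL hv)) (hLR hx) h4.symm (hN.cop n7 hb hc) h2.symm.dvd h1.symm.dvd)).elim
    · exact e
  set K0 := normalizer (L : Set G) ⊓ centralizer {u} with hK0
  have hK0T : T ≤ K0.map ψ := kB.p1 hT.perf hNT hb.1 (hN.ne_two hb) (fun e => hrb (e.mono inf_le_right))
    ⟨le_normalizer hu, hLR hu⟩ hub
  have hsK : Group.IsSolvable ↥(K0 ⊓ ψ.ker) :=
    Group.isSolvable_of_isSolvable_injective (f := inclusion inf_le_right) (inclusion_injective _)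
  have h30 : ¬ 3 ∣ Nat.card ↥(K0 ⊓ ψ.ker) := fun h0 => by
    refine hN.tri hA.sub (Ne.symm n1) n6 n3 hb h3 ha hub (ord_mono (K := K0) inf_le_right ?_)
    have c3a := hN.cop n3 h3 ha
    by_cases r3 : Rk 3 (K0 ⊓ ψ.ker)
    · by_cases ha0 : a ∣ Nat.card ↥(K0 ⊓ ψ.ker)
      · by_cases ra : Rk a (K0 ⊓ ψ.ker)
        · exact ord_mono inf_le_left (kA.nc2 h3.1 ha.1 (ne n3 h3 ha) hsK r3 ra)
        · exact mul_comm a 3 ▸ up kB hT.perf hK0T ha.1 h3.1 c3a.symm (hN.ne_two ha) ra ha0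
            (hcT ▸ h3ν.mul_right _)
      obtain ⟨P, W3, hP, h1, h2, h4, -, h5, h6⟩ := kB.syl (K := K0) h3.1 inf_le_left
        (le_normalizer_inf le_normalizer (le_top.trans (normalizer_eq_top _).ge)) h0
      obtain ⟨x, hx, w, hw, e1, -, e2, e3⟩ := hAF G H ψ T (K0 ⊓ normalizer (P : Set G)) W3 a l 3 hT.simple
        (hK0T.trans (hcov (h6.trans (sup_le_sup_right inf_le_right _)))) ha.1 hl.1 h3.1 (ne n8 hl ha).symm
        (ne n3 h3 ha).symm (ne n2 h3 hl).symm (fun e => absurd e hl2) (hL.fr a ha.1 had)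
        (fun e => ha0 (e.trans (card_dvd_of_le (inf_le_inf_right _ inf_le_left)))) h4 h2
        (inf_le_right.trans h5)
      exact ord_pq (hP.le (h1 hw)).1 hx.1 e3.symm c3a e2.symm.dvd e1.symm.dvd
    · exact up kB hT.perf hK0T h3.1 ha.1 c3a (by decide) r3 h0
        (hcT ▸ ((had.mul_left _).mul_left _).mul_left _)
  have hK0W : K0 ≤ normalizer (W : Set G) := inf_le_left.trans (le_sup_left.trans hWn)
  obtain ⟨S2, -, x2, hx2⟩ := hL.ns3 hl2
  obtain ⟨x, hx, w, hw, e1, hxT, e2, e3⟩ := hAF G H ψ T K0 W 3 2 r hT.simple hK0T h3.1 Nat.prime_two hr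
    (by decide) (ne n4 h3 hc) (hN.ne_two hc).symm (fun _ => hN.ab2 hA.sub) ⟨S2, x2, S2.2, hx2⟩ h30 hWe hW1 hK0W
  have hrk : Rk b (K0 ⊓ centralizer {x}) := by
    by_contra hrk
    have hy : orderOf (ψ x) = 3 := ((Nat.dvd_prime h3.1).1 (e1 ▸ orderOf_map_dvd ψ x)).resolve_left fun e =>
      h30 (e1 ▸ (K0 ⊓ ψ.ker).orderOf_dvd_natCard ⟨hx, orderOf_eq_one_iff.1 e⟩)
    have hy' : orderOf (⟨ψ x, hxT⟩ : T) = 3 := (orderOf_coe _).symm.trans hy
    have hZ := (hL.cen ⟨ψ x, hxT⟩ (hy' ▸ h3.1) (by omega) (hy' ▸ h3ν)).2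
    set Z := (centralizer ({⟨ψ x, hxT⟩} : Set T)).map T.subtype with hZd
    have hZT : Z ≤ T := map_subtype_le _
    have i1 : ¬ b ∣ Z.relIndex T := by
      have h1 := (centralizer ({⟨ψ x, hxT⟩} : Set T)).card_mul_index
      rw [hZ, hcT] at h1
      rw [relIndex, hZd, subgroupOf, comap_map_eq_self_of_injective T.subtype_injective,
        Nat.eq_of_mul_eq_mul_left (by omega) h1]
      intro e
      rcases (Nat.Prime.dvd_mul hb.1).1 e with e | e
      · exact hN.ne_two hb ((Nat.prime_dvd_prime_iff_eq hb.1 Nat.prime_two).1 e)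
      rcases (Nat.Prime.dvd_mul hb.1).1 e with e | e
      · exact ne n5 hb hl ((Nat.prime_dvd_prime_iff_eq hb.1 hl.1).1 (hb.1.dvd_of_dvd_pow e))
      · exact hb.1.ne_one (Nat.dvd_one.1 ((Nat.dvd_add_right e).1 (hq2 ▸ hbν)))
    have hc3 : (Nat.card (zpowers x)).Coprime (Nat.card ↥(K0 ⊓ ψ.ker)) := by
      rw [Nat.card_zpowers, e1]; exact (Nat.Prime.coprime_iff_not_dvd h3.1).2 h30
    have hZc : Z ≤ (K0 ⊓ centralizer (zpowers x : Set G)).map ψ :=
      kB.cov hsol (hZT.trans hK0T) (zpowers_le.2 hx) hc3 (by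
        rw [MonoidHom.map_zpowers, zpowers_le]
        rintro _ ⟨z, hz, rfl⟩
        exact congrArg Subtype.val (mem_centralizer_singleton_iff.1 hz))
    have hup : IsPGroup b (zpowers u) := isPGroup_zpowers (k := 1) (by rw [pow_one, ← hub, pow_orderOf_eq_one])
    have huK : u ∈ K0 ⊓ ψ.ker := ⟨⟨le_normalizer hu, mem_centralizer_singleton_iff.2 rfl⟩, hLR hu⟩
    obtain ⟨S1, hS1, hu1'⟩ := exists_isSyl_le hup (zpowers_le.2 hu)
    have hc1 := kA.cyc hb.1 (hN.ne_two hb) hrb (hS1.le.trans hLR) hS1.isPGroup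
    obtain ⟨P0, -, hP0⟩ := H1.exists_invariant_sylow_ge_subgroup (zpowers x) (K0 ⊓ ψ.ker)
      ((zpowers_le.2 hx).trans (le_normalizer_inf le_normalizer (le_top.trans (normalizer_eq_top _).ge))) hc3
      (Or.inr hsK) b ⊥ bot_le IsPGroup.of_bot (le_top.trans (normalizer_eq_top _).ge)
    have hS0 := isSyl_map_subtype P0
    set S0 := (P0 : Subgroup ↥(K0 ⊓ ψ.ker)).map (K0 ⊓ ψ.ker).subtype
    have hS0R : IsSyl b S0 ψ.ker := by
      obtain ⟨X, hX⟩ := exists_isSyl b ψ.ker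
      obtain ⟨s, -, hs⟩ := hL2 X hX.le fun p hp hd => by
        obtain ⟨e, he⟩ := IsPGroup.iff_card.1 hX.isPGroup
        exact Or.inl ((Nat.prime_dvd_prime_iff_eq hp hb.1).1 (hp.dvd_of_dvd_pow (he ▸ hd)))
      refine hX.of_card_ge hS0.isPGroup (hS0.le.trans inf_le_right) ((card_cj s X).ge.trans
        ((hS1.card_le (isPGroup_cj s hX.isPGroup) ?_).trans (hS0.card_le hS1.isPGroup fun y hy =>
          ⟨⟨le_normalizer (hS1.le hy), mem_centralizer_singleton_iff.2 ?_⟩, hLR (hS1.le hy)⟩)))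
      · rintro _ ⟨y, hy, rfl⟩
        exact hs y hy
      · exact congrArg Subtype.val (hc1.commGroup.mul_comm ⟨y, hy⟩ ⟨u, hu1' (mem_zpowers u)⟩)
    have hK0u : K0 ≤ normalizer (zpowers u : Set G) := inf_le_right.trans (by
      rw [← centralizer_zpowers]; exact centralizer_le_normalizer _)
    have huS : u ∈ S0 := hS0.le_of_le_normalizer hup (zpowers_le.2 huK)
      (hS0.le.trans (inf_le_left.trans hK0u)) (mem_zpowers u)
    have := kA.cyc hb.1 (hN.ne_two hb) hrb hS0R.le hS0.isPGroup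
    have hxS := H90.mem_centralizer_of_cyclic hS0.isPGroup (hP0 (mem_zpowers x))
      (e1 ▸ hN.cop n1 h3 hb) huS hu1 (mem_centralizer_singleton_iff.1 hx.2)
    set A := K0 ⊓ centralizer {x} ⊓ Z.comap ψ with hAd
    have hSA : S0 ≤ A := fun y hy => ⟨⟨(hS0.le hy).1, mem_centralizer_singleton_iff.2 (hxS y hy)⟩,
      ker_le_comap ψ Z (hS0R.le hy)⟩
    have hM : ψ.ker ⊔ A = Z.comap ψ := le_antisymm (sup_le (ker_le_comap ψ Z) inf_le_right) fun z hz => by
      obtain ⟨y, hy, e⟩ := hZc hz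
      rw [show z = z * y⁻¹ * y by group]
      refine mul_mem (mem_sup_left (by simp [MonoidHom.mem_ker, e])) (mem_sup_right
        ⟨⟨hy.1, mem_centralizer_singleton_iff.2 (hy.2 x (mem_zpowers x)).symm⟩, ?_⟩)
      exact mem_comap.2 (e ▸ hz)
    obtain ⟨S, hS, huS'⟩ := exists_isSyl_le hup ((zpowers_le.2 huS).trans hSA)
    have hAM : A ≤ Z.comap ψ := inf_le_right
    have hSG : IsSyl b S (T.comap ψ) := by
      refine isSyl_of_not_dvd_relIndex (hS.le.trans (hAM.trans (comap_mono hZT))) hS.isPGroup fun e => ?_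
      rw [← relIndex_mul_relIndex S A _ hS.le (hAM.trans (comap_mono hZT)),
        ← relIndex_mul_relIndex A _ _ hAM (comap_mono hZT), relIndex_comap,
        map_comap_eq_self_of_surjective hA.sj, ← hM, H8.relIndex_sup_of_normal] at e
      rcases (Nat.Prime.dvd_mul hb.1).1 e with e | e
      · exact hS.not_dvd_relIndex e
      rcases (Nat.Prime.dvd_mul hb.1).1 e with e | e
      · exact hS0R.not_dvd_relIndex (e.trans (relIndex_dvd_of_le_left _ hSA))
      · exact i1 e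
    obtain ⟨s, -, hs⟩ := hSG.exists_cj_le (isPGroup_zpowers (x := g) (k := 1)
      (by rw [pow_one, ← hgb, pow_orderOf_eq_one])) (zpowers_le.2 hgT)
    have h7 := H18.mem_zpowers_of_orderOf_dvd (kA.cyc hb.1 (hN.ne_two hb) hrk (hS.le.trans inf_le_left)
      hS.isPGroup) (hs (conj_mem_cj (mem_zpowers g))) (huS' (mem_zpowers u))
      (by rw [← MulAut.conj_apply, MulEquiv.orderOf_eq, hgb, hub])
    have h8 : ψ (s * g * s⁻¹) = 1 := zpowers_le.2 (hLR hu) h7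
    exact hg1 (by simpa using h8)
  obtain ⟨y, hy, v, hv, f1, f2, f3⟩ := kA.f1 (V := W ⊓ centralizer {x}) hb.1 hr (ne n7 hb hc) hrk
    ((pg hWe).to_le inf_le_left) (fun e => hr.ne_one (by
      have : w ∈ (⊥ : Subgroup G) := e ▸ ⟨hw, mem_centralizer_singleton_iff.2 e3.symm⟩
      rw [← e2, mem_bot.1 this, orderOf_one]))
    (le_normalizer_inf (inf_le_left.trans hK0W) (inf_le_right.trans le_normalizer))
  exact hN.tri hA.sub n1 n4 n7 h3 hb hc e1
    (ord_pq hy.2 hv.2 f3 (hN.cop n7 hb hc) f1.symm.dvd f2.symm.dvd)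

end H1.RR
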