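import Cfsg.Agent.H67.SAInd

/-! STD-A tower, job A5: the remaining commutator relations of the big root subgroups. -/

set_option autoImplicit false

namespace H1.SA5

open H64.SG (Cz Cs Ns cjs Is2 mem_Cs mem_Cz is2_of_sq)
open Matrix H57 Subgroup H67.SA

universe u

variable {n : ℕ} {F : Type} [Field F] [Finite F] [CharP F 2] {G : Type u} [Group G]
  {e : SLn n F →* G} {t g : G} {A : Fin (n + 1) → Fin (n + 1) → Subgroup G}
  {i j k l r : Fin (n + 1)} {a b : G}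

theorem cent (hn : 2 ≤ n) (h : CH e t) (π : Equiv.Perm (Fin (n + 1)))
    {S T T' : Fin (n + 1) → Fin (n + 1) → Prop}
    (H : ∀ β : Au n F, (∀ u ∈ Pat n F S, β u = u) → β ∈ cI (Pat n F T)) (hg : g ∈ Cz t)
    (hc : ∀ a b, a ≠ b → S a b → ∀ c, e (x (π a) (π b) c) * g = g * e (x (π a) (π b) c))
    (hT : ∀ a b, a ≠ b → T a b → T' (π a) (π b)) : ∃ μ ∈ Pat n F T', g = e μ ∨ g = t * e μ := by
  obtain ⟨p, hp⟩ : ∃ p : SLn n F, p = pm π := ⟨_, rfl⟩
  have h1 : (e p)⁻¹ * g * e p ∈ Cz t := mul_mem (mul_mem (inv_mem (h.mem_Cz p)) hg) (h.mem_Cz p)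
  obtain ⟨β, hβ⟩ := exists_ind hn h.ker (h.cz h1)
  obtain ⟨μ, hμ, rfl⟩ := mem_cI.1 (H β (hβ.fix_Pat h.ker (mem_Cs_map_Pat.2 fun a b hab hs c => by
    have := hc a b hab hs c
    rw [← pm_conj, ← hp, map_mul, map_mul, map_inv] at this
    calc e (x a b c) * ((e p)⁻¹ * g * e p)
        = (e p)⁻¹ * (e p * e (x a b c) * (e p)⁻¹ * g) * e p := by group
      _ = _ := by rw [this]; group)))
  refine ⟨p * μ * p⁻¹, ?_, ?_⟩
  · have : p * μ * p⁻¹ ∈ cjs p (Pat n F T) := conj_mem_cjs.2 hμ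
    rw [hp, cjs_pm, ← hp] at this
    exact Pat_mono (fun a b hab ht => by
      simpa using hT _ _ (fun e => hab (π⁻¹.injective e)) ht) this
  · rw [map_mul, map_mul, map_inv]
    rcases h.ck _ (mul_mem h1 (inv_mem (h.mem_Cz μ))) (ind_conj_iff.1 hβ) with e1 | e1
    · exact Or.inl (by rw [← mul_inv_eq_one.1 e1]; group)
    · refine Or.inr ?_
      rw [← mul_assoc, ← mul_assoc, h.comm p, mul_assoc (e p), ← mul_inv_eq_iff_eq_mul.1 e1]
      group

theorem inv_cm (ha : a * a = 1) : a * cm a b * a⁻¹ = (cm a b)⁻¹ := by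
  calc a * cm a b * a⁻¹ = (a * a) * b * a⁻¹ * b⁻¹ * a⁻¹ := by group
    _ = b * (a * a) * a⁻¹ * b⁻¹ * a⁻¹ := by rw [ha]; group
    _ = _ := by group

theorem cm_inv : (cm b a)⁻¹ = cm a b := by unfold cm; group

theorem five {y : G} (h1 : y * a = a * y) (h2 : b⁻¹ = b)
    (h3 : y * cm a b * y⁻¹ * b = b * (y * cm a b * y⁻¹)) (h4 : (cm a b)⁻¹ = cm a b) :
    cm a (cm b y) = cm (cm a b) y := by
  have e1 : cm a (y * b⁻¹ * y⁻¹) = y * cm a b * y⁻¹ := by
    rw [h2]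
    unfold cm
    calc _ = (a * y) * b * (a * y)⁻¹ * y * b⁻¹ * y⁻¹ := by group
      _ = _ := by rw [← h1]; group
  calc cm a (cm b y) = cm a b * (b * cm a (y * b⁻¹ * y⁻¹)) * b⁻¹ := by unfold cm; group
    _ = cm a b * y * cm a b * y⁻¹ := by rw [e1, ← h3]; group
    _ = _ := by rw [cm_eq (cm a b), commutatorElement_def, h4]

theorem cm_comm {u α : G} (h1 : a⁻¹ = a) (h2 : a * u * a⁻¹ = α * u) (h3 : b * u = u * b)
    (h4 : a * α = α * a) (h5 : b * α = α * b) (h6 : α * α = 1) : u * cm a b = cm a b * u := by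
  have e1 : a⁻¹ * u * a = α * u := by rw [← h2, h1]
  rw [eq_comm, ← mul_inv_eq_iff_eq_mul]
  unfold cm
  calc _ = a * b * a⁻¹ * b⁻¹ * (u * b) * a * b⁻¹ * a⁻¹ := by group
    _ = a * b * (a⁻¹ * u * a) * b⁻¹ * a⁻¹ := by rw [← h3]; group
    _ = a * (b * α) * u * b⁻¹ * a⁻¹ := by rw [e1]; group
    _ = a * α * (b * u) * b⁻¹ * a⁻¹ := by rw [h5]; group
    _ = α * (a * u * a⁻¹) := by rw [h3, h4]; group
    _ = _ := by rw [h2, ← mul_assoc, h6, one_mul]

/-- the block with rows `i`, `k` and columns `j`, `l` -/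
abbrev Rc (n : ℕ) (F : Type) [Field F] (i k j l : Fin (n + 1)) : Subgroup (SLn n F) :=
  Pat n F fun a b => (a = i ∨ a = k) ∧ (b = j ∨ b = l)

/-- four distinct indices -/
structure D4 (i j k l : Fin (n + 1)) : Prop where
  ij : i ≠ j
  kl : k ≠ l
  ik : i ≠ k
  il : i ≠ l
  jk : j ≠ k
  jl : j ≠ l

theorem D4.symm (d : D4 i j k l) : D4 k l i j :=
  ⟨d.kl, d.ij, d.ik.symm, d.jk.symm, d.il.symm, d.jl.symm⟩

theorem D4.three (d : D4 i j k l) : 3 ≤ n := by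
  obtain ⟨h1, h2, h3, h4, h5, h6⟩ := d
  simp only [ne_eq, Fin.ext_iff] at *
  omega

theorem centK (fa : FA n F) (h : CH e t) (d : D4 i j k l) (hg : g ∈ Cz t)
    (hc : ∀ a b, a ≠ b → b ≠ i → b ≠ k → a ≠ j → a ≠ l → ∀ c, e (x a b c) * g = g * e (x a b c)) :
    ∃ μ ∈ Rc n F i k j l, g = e μ ∨ g = t * e μ := by
  have h3 := d.three
  obtain ⟨π, hπ⟩ := Equiv.Perm.exists_extending_pair
    (f := (![⟨0, by omega⟩, ⟨1, by omega⟩, ⟨n - 1, by omega⟩, ⟨n, by omega⟩] : Fin 4 → Fin (n + 1)))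
    (g := ![i, k, j, l]) (fun a b => by
      fin_cases a <;> fin_cases b <;> simp [Fin.ext_iff] <;> omega) fun a b => by
      obtain ⟨h1, h2, h3, h4, h5, h6⟩ := d
      fin_cases a <;> fin_cases b <;> simp [*, h1.symm, h2.symm, h3.symm, h4.symm, h5.symm, h6.symm]
  have e0 : π ⟨0, by omega⟩ = i := hπ 0
  have e1 : π ⟨1, by omega⟩ = k := hπ 1
  have e2 : π ⟨n - 1, by omega⟩ = j := hπ 2
  have e3 : π ⟨n, by omega⟩ = l := hπ 3
  refine cent (by omega) h π (T := fun a b => a.val < 2 ∧ n + 1 ≤ b.val + 2)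
    (S := fun a b => (a.val < 2 ∧ 2 ≤ b.val) ∨ (a.val < n + 1 - 2 ∧ n + 1 - 2 ≤ b.val))
    (fun β hβ => fa.ctK 2 one_le_two (by omega) β fun u hu => hβ u (by rwa [← Qk_eq])) hg
    (fun a b hab hs => hc _ _ (π.injective.ne hab) ?_ ?_ ?_ ?_) fun a b _ ht => ?_
  all_goals
    subst e0 e1 e2 e3
    simp only [ne_eq, π.injective.eq_iff, Fin.ext_iff]
    omega

theorem centQ (fa : FA n F) (hn : 2 ≤ n) (h : CH e t) (hik : i ≠ k) (hg : g ∈ Cz t)
    (hc : ∀ a b, a ≠ b → a = i ∨ b = k → ∀ c, e (x a b c) * g = g * e (x a b c)) :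
    ∃ c, g = e (x i k c) ∨ g = t * e (x i k c) := by
  obtain ⟨π, hπ⟩ := Equiv.Perm.exists_extending_pair
    (f := (![0, la n] : Fin 2 → Fin (n + 1))) (g := ![i, k]) (fun a b => by
      fin_cases a <;> fin_cases b <;> simp [Fin.ext_iff] <;> omega) fun a b => by
      fin_cases a <;> fin_cases b <;> simp [hik, hik.symm]
  have e0 : π 0 = i := hπ 0
  have e1 : π (la n) = k := hπ 1
  obtain ⟨μ, hμ, h1⟩ := cent hn h π (T := fun a b => a = 0 ∧ b = la n)
    (T' := fun a b => a = i ∧ b = k) (S := fun a b => a = 0 ∨ b = la n)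
    (fun β hβ => fa.ctQ β fun u hu => hβ u (by rwa [← QQ_eq])) hg
    (fun a b hab hs => hc _ _ (π.injective.ne hab) (hs.imp (fun e => by rw [e, e0]) fun e => by rw [e, e1]))
    fun a b _ ht => ⟨ht.1 ▸ e0, ht.2 ▸ e1⟩
  obtain ⟨c, rfl⟩ := mem_XX.1 hμ
  exact ⟨c, h1⟩

omit [Finite F] [CharP F 2] in
theorem mem_Rc (d : D4 i j k l) {μ : SLn n F} : μ ∈ Rc n F i k j l ↔ (∀ a, μ.1 a a = 1) ∧
    ∀ a b, a ≠ b → ¬ ((a = i ∨ a = k) ∧ (b = j ∨ b = l)) → μ.1 a b = 0 :=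
  mem_Pat (uni_rect fun a k1 k2 => by
    obtain ⟨h1, h2, h3, h4, h5, h6⟩ := d
    rcases k1 with rfl | rfl <;> rcases k2 with rfl | rfl <;> simp_all)

omit [Finite F] in
theorem sq_Rc (d : D4 i j k l) {μ : SLn n F} (h : μ ∈ Rc n F i k j l) : μ * μ = 1 :=
  sq_of_Pat (Pat_le_Cs fun a b a' b' _ _ k1 k2 => by
    obtain ⟨h1, h2, h3, h4, h5, h6⟩ := d
    obtain ⟨rfl | rfl, rfl | rfl⟩ := k1 <;> obtain ⟨rfl | rfl, rfl | rfl⟩ := k2 <;>
      simp [*, h1.symm, h2.symm, h4.symm, h5.symm]) h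

omit [Finite F] [CharP F 2] in
theorem Rc_le (d : D4 i j k l) : Rc n F i k j l ≤ P0 n F i j := Pat_mono fun a b _ h => by
  obtain ⟨h1, h2, h3, h4, h5, h6⟩ := d
  obtain ⟨rfl | rfl, rfl | rfl⟩ := h <;> simp [*, h1.symm, h4.symm, h5.symm]

omit [Finite F] [CharP F 2] in
theorem Rc_le' (d : D4 i j k l) : Rc n F i k j l ≤ P0 n F k l :=
  (Pat_mono fun _ _ _ h => ⟨h.1.symm, h.2.symm⟩).trans (Rc_le d.symm)

omit [Finite F] [CharP F 2] in
theorem Rc_add (d : D4 i j k l) {μ ν : SLn n F} (h : μ ∈ Rc n F i k j l) (h' : ν ∈ Rc n F i k j l) :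
    (μ * ν).1 i j = μ.1 i j + ν.1 i j := by
  rw [mem_Rc d] at h h'
  rw [val_mul, mul_apply, Finset.sum_eq_add i j d.ij (fun m _ hm => ?_) (by simp) (by simp), h.1,
    h'.1, one_mul, mul_one, add_comm]
  by_cases hl : m = l
  · rw [h'.2 m j hm.2 (by simp [hl, d.il.symm, d.kl.symm]), mul_zero]
  · rw [h.2 i m hm.1.symm (by simp [hl, hm.2]), zero_mul]

omit [Finite F] [CharP F 2] in
theorem hd_entry (d : Fin (n + 1) → Fˣ) (h : ∏ i, d i = 1) (μ : SLn n F) (a b : Fin (n + 1)) :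
    (hd d h * μ * (hd d h)⁻¹).1 a b * d b = d a * μ.1 a b := by
  have e : (hd d h * μ * (hd d h)⁻¹ * hd d h).1 a b = (hd d h * μ).1 a b := by
    rw [inv_mul_cancel_right]
  rwa [val_mul _ (hd d h), val_mul (hd d h) μ, hd, mul_diagonal, diagonal_mul] at e

/-- `w` translates `t` by `x i j c` -/
def Dl (e : SLn n F →* G) (t : G) (i j : Fin (n + 1)) (w : G) (c : F) : Prop :=
  w * t * w⁻¹ = t * e (x i j c)

section PB

variable (fa : FA n F) (h : CH e t) (P : PB e t A)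
include h P

omit [Finite F] [CharP F 2] h in
theorem sq (hij : i ≠ j) (ha : a ∈ A i j) : a * a = 1 := ((P.mem i j hij a).1 ha).1

omit [Finite F] [CharP F 2] h in
theorem inv_eq (hij : i ≠ j) (ha : a ∈ A i j) : a⁻¹ = a :=
  inv_eq_of_mul_eq_one_right (sq P hij ha)

omit [Finite F] [CharP F 2] h in
theorem cP (hij : i ≠ j) (ha : a ∈ A i j) {μ : SLn n F} (hμ : μ ∈ P0 n F i j) :
    e μ * a = a * e μ := mem_Cs_map.1 ((P.mem i j hij a).1 ha).2.1 μ hμ

omit [Finite F] [CharP F 2] h in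
theorem cx (hij : i ≠ j) (ha : a ∈ A i j) {u v : Fin (n + 1)} (h1 : v ≠ i) (h2 : u ≠ j) (c : F) :
    e (x u v c) * a = a * e (x u v c) := cP P hij ha (x_mem_Pat ⟨h1, h2⟩ c)

omit [Finite F] [CharP F 2] h in
theorem exD (hij : i ≠ j) (ha : a ∈ A i j) : ∃ c, Dl e t i j a c := ((P.mem i j hij a).1 ha).2.2.1

omit [Finite F] [CharP F 2] h in
theorem Dl_mul (hij : i ≠ j) (ha : a ∈ A i j) {c c' : F} (h1 : Dl e t i j a c)
    (h2 : Dl e t i j b c') : Dl e t i j (a * b) (c + c') := by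
  unfold Dl at *
  calc a * b * t * (a * b)⁻¹ = a * (b * t * b⁻¹) * a⁻¹ := by group
    _ = a * t * (e (x i j c') * a⁻¹) := by rw [h2]; group
    _ = a * t * a⁻¹ * e (x i j c') := by
      rw [inv_eq P hij ha, cx P hij ha hij.symm hij]; group
    _ = _ := by rw [h1, x_add, map_mul, mul_assoc]

omit [Finite F] h in
theorem eq_mul (hij : i ≠ j) (ha : a ∈ A i j) (hb : b ∈ A i j) {c : F} (h1 : Dl e t i j a c)
    (h2 : Dl e t i j b c) : ∃ c', b = a * e (x i j c') := by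
  have h3 := Dl_mul P hij ha h1 h2
  rw [CharTwo.add_self_eq_zero, Dl, x_zero, map_one, mul_one, mul_inv_eq_iff_eq_mul] at h3
  obtain ⟨c', hc⟩ := P.fix i j hij _ (mul_mem ha hb) (mem_Cz.2 h3.symm)
  exact ⟨c', by rw [← hc, ← mul_assoc, sq P hij ha, one_mul]⟩

omit [Finite F] [CharP F 2] in
theorem hd_mem (hij : i ≠ j) (ha : a ∈ A i j) (d : Fin (n + 1) → Fˣ) (hd1 : ∏ i, d i = 1) {c : F}
    (h1 : Dl e t i j a c) : e (hd d hd1) * a * (e (hd d hd1))⁻¹ ∈ A i j ∧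
      Dl e t i j (e (hd d hd1) * a * (e (hd d hd1))⁻¹) (d i * c * ((d j)⁻¹ : Fˣ)) := by
  set p := e (hd d hd1) with hp
  have hx : ∀ u v c, p * e (x u v c) * p⁻¹ = e (x u v (d u * c * ((d v)⁻¹ : Fˣ))) := fun u v c => by
    rw [hp, ← map_inv, ← map_mul, ← map_mul, hd_conj]
  have hx' : ∀ u v c, ∃ c', p * e (x u v c') * p⁻¹ = e (x u v c) := fun u v c =>
    ⟨((d u)⁻¹ : Fˣ) * c * d v, by rw [hx]; simp [mul_assoc]⟩
  have ht : p * t * p⁻¹ = t := h.conj_t _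
  have h2 : Dl e t i j (p * a * p⁻¹) (d i * c * ((d j)⁻¹ : Fˣ)) := by
    unfold Dl at *
    calc p * a * p⁻¹ * t * (p * a * p⁻¹)⁻¹
        = p * a * p⁻¹ * (p * t * p⁻¹) * (p * a * p⁻¹)⁻¹ := by rw [ht]
      _ = p * (a * t * a⁻¹) * p⁻¹ := by group
      _ = p * t * p⁻¹ * (p * e (x i j c) * p⁻¹) := by rw [h1]; group
      _ = _ := by rw [ht, hx]
  refine ⟨(P.mem i j hij _).2 ⟨by rw [conj_mul, sq P hij ha, mul_one, mul_inv_cancel],
    mem_Cs_map_Pat.2 fun u v _ hs c => ?_, ⟨_, h2⟩, fun c e1 => ?_⟩, h2⟩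
  · obtain ⟨c', e1⟩ := hx' u v c
    rw [← e1, conj_mul, conj_mul, cx P hij ha hs.1 hs.2]
  · obtain ⟨c', e2⟩ := hx' i j c
    rw [← e2, ← ht, conj_mul] at e1
    exact ((P.mem i j hij a).1 ha).2.2.2 c' (by simpa using e1)

include fa

theorem gam (d : D4 i j k l) (ha : a ∈ A i j) (hb : b ∈ A k l) :
    ∃ μ ∈ Rc n F i k j l, cm a b = e μ := by
  obtain ⟨c, h1⟩ := exD P d.ij ha
  obtain ⟨c', h2⟩ := exD P d.kl hb
  have e1 := cx P d.ij ha d.il.symm d.jk.symm c'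
  have e2 := cx P d.kl hb d.jk d.il c
  have e3 : cm a b = (b * a)⁻¹ * (a * b) := by
    rw [cm, _root_.mul_inv_rev, inv_eq P d.ij ha, inv_eq P d.kl hb, mul_assoc]
  have hz : cm a b ∈ Cz t := by
    have e4 : a * b * t * (a * b)⁻¹ = b * a * t * (b * a)⁻¹ := by
      unfold Dl at *
      calc a * b * t * (a * b)⁻¹ = a * (b * t * b⁻¹) * a⁻¹ := by group
        _ = a * t * a⁻¹ * (a * e (x k l c') * a⁻¹) := by rw [h2]; group
        _ = t * e (x i j c * x k l c') := by rw [h1, ← e1, map_mul]; group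
        _ = b * t * b⁻¹ * (b * e (x i j c) * b⁻¹) := by
          rw [h2, ← e2, x_comm d.jk d.il, map_mul]; group
        _ = b * (a * t * a⁻¹) * b⁻¹ := by rw [h1]; group
        _ = _ := by group
    rw [e3, mem_Cz]
    calc t * ((b * a)⁻¹ * (a * b)) = (b * a)⁻¹ * (b * a * t * (b * a)⁻¹) * (a * b) := by group
      _ = _ := by rw [← e4]; group
  obtain ⟨μ, hμ, e4 | e4⟩ := centK fa h d hz fun u v _ h1 h2 h3 h4 c =>
    ((((show Commute (e (x u v c)) a from cx P d.ij ha h1 h3 c).mul_right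
      (cx P d.kl hb h2 h4 c)).mul_right
      (show Commute (e (x u v c)) a from cx P d.ij ha h1 h3 c).inv_right).mul_right
      (show Commute (e (x u v c)) b from cx P d.kl hb h2 h4 c).inv_right).eq
  · exact ⟨μ, hμ, e4⟩
  · have e5 : cm a b * cm a b = 1 := by
      rw [e4, mul_assoc, ← mul_assoc (e μ), ← h.comm, mul_assoc, ← map_mul, sq_Rc d hμ, map_one,
        mul_one, h.inv.1]
    have e6 : a * cm a b = cm a b * a := by
      rw [← mul_inv_eq_iff_eq_mul, inv_cm (sq P d.ij ha), inv_eq_of_mul_eq_one_right e5]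
    rw [e4, mul_assoc, cP P d.ij ha (Rc_le d hμ), ← mul_assoc, ← mul_assoc,
      mul_right_cancel_iff] at e6
    obtain ⟨c, rfl⟩ := P.fix i j d.ij a ha (mem_Cz.2 e6.symm)
    exact ⟨1, one_mem _, by rw [map_one, cm_eq_one, cx P d.kl hb d.jk d.il]⟩

omit fa h [Finite F] in
theorem cm_left (d : D4 i j k l) {a' : G} (ha : a ∈ A i j) (ha' : a' ∈ A i j) (hb : b ∈ A k l)
    {c : F} (h1 : Dl e t i j a c) (h2 : Dl e t i j a' c) : cm a' b = cm a b := by
  obtain ⟨c', rfl⟩ := eq_mul P d.ij ha ha' h1 h2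
  unfold cm
  calc _ = a * (e (x i j c') * b) * (e (x i j c'))⁻¹ * a⁻¹ * b⁻¹ := by group
    _ = _ := by rw [cx P d.kl hb d.jk d.il]; group

omit fa h [Finite F] in
theorem cm_right (d : D4 i j k l) {b' : G} (ha : a ∈ A i j) (hb : b ∈ A k l) (hb' : b' ∈ A k l)
    {c : F} (h1 : Dl e t k l b c) (h2 : Dl e t k l b' c) : cm a b' = cm a b := by
  have := cm_left P d.symm hb hb' ha h1 h2
  rw [← cm_inv, this, cm_inv]

theorem col_five (d : D4 i j k l) (hi : r ≠ i) (hj : r ≠ j) (hk : r ≠ k) (hl : r ≠ l)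
    (ha : a ∈ A i j) (hb : b ∈ A k l) : cm a b ∈ (Col n F l).map e := by
  obtain ⟨c, h2⟩ := exD P d.kl hb
  obtain ⟨b', hb', h3⟩ := P.onto k r hk.symm c
  have d' : D4 i j k r := ⟨d.ij, hk.symm, d.ik, hi.symm, d.jk, hj.symm⟩
  obtain ⟨μ, hμ, e1⟩ := gam fa h P d' ha hb'
  obtain ⟨y, hy⟩ : ∃ y, y = e (x r l 1) := ⟨_, rfl⟩
  have hb'' : cm b' y ∈ A k l := hy ▸ P.ar k r l hk.symm hl d.kl b' hb' 1
  have yt : y * t * y⁻¹ = t := hy ▸ h.conj_t _
  have yy : y⁻¹ = y := by rw [hy, ← map_inv, x_inv]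
  have h4 : Dl e t k l (cm b' y) c := by
    have e2 : y * e (x k r c) * y⁻¹ = e (x k r c) * e (x k l c) := by
      have := x_cm hk.symm hl d.kl c 1
      rw [mul_one] at this
      rw [← this, hy, ← map_inv, ← map_mul, ← map_mul, ← map_mul, cm, x_inv, x_inv, ← mul_assoc,
        ← mul_assoc, ← mul_assoc, x_mul_self, one_mul]
    have yt' : y⁻¹ * t * y = t := by simpa only [yy] using yt
    have h3' : b'⁻¹ * t * b' = t * e (x k r c) := by rw [← h3, inv_eq P hk.symm hb']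
    unfold Dl cm
    calc _ = b' * (y * (b'⁻¹ * (y⁻¹ * t * y) * b') * y⁻¹) * b'⁻¹ := by group
      _ = b' * (y * t * y⁻¹ * (y * e (x k r c) * y⁻¹)) * b'⁻¹ := by rw [yt', h3']; group
      _ = b' * t * b'⁻¹ * (b' * e (x k r c * x k l c) * b'⁻¹) := by rw [yt, e2, map_mul]; group
      _ = _ := by
        rw [h3, ← cP P hk.symm hb' (mul_mem (x_mem_Pat ⟨hk, hk.symm⟩ c)
          (x_mem_Pat ⟨d.kl.symm, hk.symm⟩ c)), mul_inv_cancel_right, mul_assoc, ← map_mul,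
          ← mul_assoc, x_mul_self, one_mul]
  have e3 : y * a = a * y := hy ▸ cx P d.ij ha d.il.symm hj 1
  have hN : μ ∈ Ns (Col n F l) := Pat_le_Ns (fun _ _ _ _ _ _ _ h => h) (fun u v w _ _ _ k1 k2 => by
      obtain ⟨rfl | rfl, -⟩ := k2
      exacts [(d.il k1).elim, (d.kl k1).elim]) (fun u v _ k1 k2 => by
      obtain ⟨rfl | rfl, -⟩ := k1
      exacts [(d.il k2).elim, (d.kl k2).elim]) hμ
  have hP : x r l 1 * μ * (x r l 1)⁻¹ ∈ P0 n F k r := by
    have hT : x r l 1 ∈ Ns (Pat n F fun u v => (u = i ∨ u = k) ∧ v ≠ k) :=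
      Pat_le_Ns (S := fun u v => u = r ∧ v = l) (fun u v w _ _ _ k1 k2 => by
        obtain ⟨-, rfl⟩ := k1
        exact (k2.1.elim d.il.symm d.kl.symm).elim)
        (fun u v w _ _ _ k1 k2 => ⟨k1.1, k2.2 ▸ d.kl.symm⟩) (fun u v _ k1 k2 => by
        obtain ⟨-, rfl⟩ := k1
        exact (k2.1.elim d.il.symm d.kl.symm).elim) (x_mem_Pat ⟨rfl, rfl⟩ 1)
    exact Pat_mono (fun u v _ k1 => ⟨k1.2, k1.1.elim (· ▸ hi.symm) (· ▸ hk.symm)⟩)
      ((mem_normalizer_iff.1 hT μ).1 (Pat_mono (fun u v _ k1 =>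
        ⟨k1.1, k1.2.elim (· ▸ d.jk) (· ▸ hk)⟩) hμ))
  refine ⟨cm μ (x r l 1), mul_mem ((mem_normalizer_iff.1 hN _).1 (x_mem_Col r l 1))
    (inv_mem (x_mem_Col r l 1)), ?_⟩
  rw [← cm_right P d ha hb hb'' h2 h4]
  have e4 := cP P hk.symm hb' hP
  rw [map_mul, map_mul, map_inv, ← hy, ← e1] at e4
  have e5 : (cm a b')⁻¹ = cm a b' := by
    rw [e1, ← map_inv, inv_eq_of_mul_eq_one_right (sq_Rc d' hμ)]
  rw [five e3 (inv_eq P hk.symm hb') e4 e5, e1, hy]
  simp only [cm, map_mul, map_inv]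

theorem col_tor (d : D4 i j k l) {s : F} (s0 : s ≠ 0) (s1 : s ≠ 1) (ha : a ∈ A i j)
    (hb : b ∈ A k l) : cm a b ∈ (Col n F l).map e := by
  obtain ⟨c, h1⟩ := exD P d.ij ha
  obtain ⟨c', h2⟩ := exD P d.kl hb
  obtain ⟨μ, hμ, e1⟩ := gam fa h P d ha hb
  have hcj : ∀ p : SLn n F, cm (e p * a * (e p)⁻¹) (e p * b * (e p)⁻¹) = e (p * μ * p⁻¹) :=
    fun p => by rw [map_mul, map_mul, map_inv, ← e1]; unfold cm; group
  have is2 : ∀ p : SLn n F, Is2 (p * μ * p⁻¹) := fun p => (is2_of_sq (sq_Rc d hμ)).conj p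
  have hkj : μ.1 k j = 0 := by
    let u : Fˣ := Units.mk0 s s0
    let D : Fin (n + 1) → Fˣ := (fun a => if a = i then u else if a = k then u⁻¹ else 1) *
      fun a => if a = j then u else if a = l then u⁻¹ else 1
    have hD : ∏ a, D a = 1 := by
      simp only [D, Pi.mul_apply, Finset.prod_mul_distrib, prod_hh d.ik, prod_hh d.jl, mul_one]
    obtain ⟨h1, h2, h3, h4, h5, h6⟩ := id d
    have Di : D i = u := by simp [D, *]
    have Dj : D j = u := by simp [D, *, h1.symm]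
    have Dk : D k = u⁻¹ := by simp [D, *, h3.symm, h5.symm]
    have Dl' : D l = u⁻¹ := by simp [D, *, h2.symm, h4.symm, h6.symm]
    obtain ⟨a1, a2⟩ := hd_mem h P d.ij ha D hD ‹Dl e t i j a c›
    obtain ⟨b1, b2⟩ := hd_mem h P d.kl hb D hD ‹Dl e t k l b c'›
    rw [Di, Dj, mul_comm, ← mul_assoc, Units.inv_mul, one_mul] at a2
    rw [Dk, Dl', mul_comm, ← mul_assoc, Units.inv_mul, one_mul] at b2
    have e2 := hcj (hd D hD)
    rw [cm_left P d ha a1 b1 ‹Dl e t i j a c› a2, cm_right P d ha hb b1 ‹Dl e t k l b c'› b2,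
      e1] at e2
    have e3 := hd_entry D hD μ k j
    rw [← inj2 h.ker (is2_of_sq (sq_Rc d hμ)) (is2 _) e2, Dj, Dk, Units.val_inv_eq_inv_val,
      Units.val_mk0] at e3
    by_contra hne
    have e4 : s * s = 1 := by
      field_simp at e3
      rw [← e3]; ring
    rcases mul_self_eq_one_iff.1 e4 with e5 | e5
    · exact s1 e5
    · exact s1 (by rw [e5, CharTwo.neg_eq])
  have key : ∀ v : F, v ≠ 0 → ∃ b' ∈ A k l, Dl e t k l b' (v * v * c') ∧
      ∃ ν ∈ Rc n F i k j l, cm a b' = e ν ∧ ν.1 i j = μ.1 i j := fun v v0 => by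
    let u : Fˣ := Units.mk0 v v0
    let D : Fin (n + 1) → Fˣ := fun a => if a = k then u else if a = l then u⁻¹ else 1
    have hD : ∏ a, D a = 1 := prod_hh d.kl u
    have Di : D i = 1 := by simp [D, d.ik, d.il]
    have Dj : D j = 1 := by simp [D, d.jk, d.jl]
    have Dk : D k = u := by simp [D]
    have Dl' : D l = u⁻¹ := by simp [D, d.kl.symm]
    obtain ⟨a1, a2⟩ := hd_mem h P d.ij ha D hD h1
    obtain ⟨b1, b2⟩ := hd_mem h P d.kl hb D hD h2
    rw [Di, Dj, inv_one, Units.val_one, one_mul, mul_one] at a2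
    rw [Dk, Dl', inv_inv, Units.val_mk0, mul_right_comm] at b2
    obtain ⟨ν, hν, e2⟩ := gam fa h P d ha b1
    refine ⟨_, b1, b2, ν, hν, e2, ?_⟩
    have e3 := hd_entry D hD μ i j
    rwa [← inj2 h.ker (is2_of_sq (sq_Rc d hν)) (is2 _) (by
      rw [← e2, ← hcj, cm_left P d ha a1 b1 h1 a2]), Di, Dj, Units.val_one, one_mul, mul_one] at e3
  have hij : μ.1 i j = 0 := by
    obtain ⟨b1, m1, d1, ν1, n1, f1, g1⟩ := key s s0
    obtain ⟨b2, m2, d2, ν2, n2, f2, g2⟩ := key (s + 1) fun e => s1 (by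
      rw [eq_neg_of_add_eq_zero_left e, CharTwo.neg_eq])
    have d3 := Dl_mul P d.kl m1 d1 h2
    rw [show s * s * c' + c' = (s + 1) * (s + 1) * c' by
      linear_combination (-(s * c')) * (CharTwo.two_eq_zero (R := F))] at d3
    have e2 := cm_right P d ha m2 (mul_mem m1 hb) d2 d3
    have e3 : cm a (b1 * b) = e (ν1 * μ) := by
      calc cm a (b1 * b) = cm a b1 * (b1 * cm a b * b1⁻¹) := by unfold cm; group
        _ = _ := by rw [f1, e1, ← cP P d.kl m1 (Rc_le' d hμ), map_mul]; group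
    have e4 := inj2 h.ker (is2_of_sq (sq_Rc d (mul_mem n1 hμ))) (is2_of_sq (sq_Rc d n2))
      (by rw [← e3, e2, f2])
    have e5 := Rc_add d n1 hμ
    rwa [e4, g1, g2, CharTwo.add_self_eq_zero] at e5
  refine ⟨μ, mem_Col.2 ⟨((mem_Rc d).1 hμ).1, fun u v huv hv => ?_⟩, e1.symm⟩
  by_cases hs : (u = i ∨ u = k) ∧ (v = j ∨ v = l)
  · obtain ⟨rfl | rfl, rfl | rfl⟩ := hs
    exacts [hij, (hv rfl).elim, hkj, (hv rfl).elim]
  · exact ((mem_Rc d).1 hμ).2 u v huv hs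

theorem col (hp : Par n F) (d : D4 i j k l) (ha : a ∈ A i j) (hb : b ∈ A k l) :
    cm a b ∈ (Col n F l).map e := by
  by_cases hn : n ≤ 3
  · have := hp.four hn
    obtain ⟨s, hs⟩ : ∃ s : F, s ∉ ({0, 1} : Set F) := by
      by_contra! hc
      have h1 := Set.ncard_le_ncard (s := Set.univ) (fun s _ => hc s) (Set.toFinite _)
      have h2 := Set.ncard_insert_le (0 : F) {1}
      rw [Set.ncard_univ] at h1
      rw [Set.ncard_singleton] at h2
      omega
    exact col_tor fa h P d (fun e => hs (Or.inl e)) (fun e => hs (Or.inr e)) ha hb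
  · obtain ⟨r, hr⟩ : ∃ r, r ∉ ({i, j, k, l} : Finset (Fin (n + 1))) := by
      by_contra! hc
      have h1 := Finset.card_le_card (s := Finset.univ) fun s _ => hc s
      have h2 := Finset.card_le_four (a := i) (b := j) (c := k) (d := l)
      rw [Finset.card_univ, Fintype.card_fin] at h1
      omega
    simp only [Finset.mem_insert, Finset.mem_singleton, not_or] at hr
    exact col_five fa h P d hr.1 hr.2.1 hr.2.2.1 hr.2.2.2 ha hb

theorem pol (hp : Par n F) (d : D4 i j k l) : A i j ≤ Cs (A k l) := fun a ha b hb => by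
  have h1 := col fa h P hp d ha hb
  have h2 := inv_mem (col fa h P hp d.symm hb ha)
  rw [cm_inv] at h2
  have hP : ∀ m, IsPGroup 2 (Col n F m) := fun m => H64.SG.isPGroup_iff_is2.2 fun _ hx =>
    is2_of_sq (sq_Col hx)
  have h3 : cm a b ∈ (Col n F l ⊓ Col n F j).map e := map_inf2 h.ker (hP l) (hP j) ▸ ⟨h1, h2⟩
  rw [Col, Col, Pat_inf (uni_Col l) (uni_Col j), eq_bot_iff.2 (Pat_le.2 fun _ _ _ hs =>
    (d.jl (hs.2.symm.trans hs.1)).elim), Subgroup.map_bot, mem_bot] at h3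
  exact (cm_eq_one.1 h3).symm

theorem neg (hn : 2 ≤ n) (hij : i ≠ j) (hjk : j ≠ k) (hik : i ≠ k) (ha : a ∈ A i j)
    (hb : b ∈ A j k) : cm a b ∈ A i k := by
  obtain ⟨c, h1⟩ := exD P hij ha
  obtain ⟨c', h2⟩ := exD P hjk hb
  have ca : ∀ w ∈ A i k, a * w = w * a := fun w hw => (P.row i j k hij hik ha w hw).symm
  have cb : ∀ w ∈ A i k, b * w = w * b := fun w hw => P.col i j k hik hjk hw b hb
  have ai := inv_eq P hij ha
  have bi := inv_eq P hjk hb
  have xi : ∀ u v c, (e (x u v c))⁻¹ = e (x u v c) := fun u v c => by rw [← map_inv, x_inv]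
  have ea : ∀ c, a * e (x j k c) * a⁻¹ = cm a (e (x j k c)) * e (x j k c) := fun c => by
    unfold cm; group
  have eb : ∀ c, b * e (x i j c) * b⁻¹ = cm (e (x i j c)) b * e (x i j c) := fun c => by
    rw [← cx P hik (P.ac i j k hij hjk hik b hb c) hij.symm hik, cm, xi, ← mul_assoc, ← mul_assoc,
      ← mul_assoc, ← map_mul, x_mul_self, map_one, one_mul]
  obtain ⟨ζ, hζ, e1⟩ : ∃ ζ ∈ A i k, cm a b * t * (cm a b)⁻¹ = t * ζ := by
    have hα := P.ar i j k hij hjk hik a ha c'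
    have hβ := P.ac i j k hij hjk hik b hb c
    have e2 := ea c'
    have e3 := eb c
    have e4 : cm (e (x i j c)) (e (x j k c')) ∈ A i k := by
      have := P.sub i k hik (c * c')
      rw [← x_cm hij hjk hik] at this
      simpa only [cm, map_mul, map_inv] using this
    have aX := cx P hij ha hij.symm hij c
    have bY := cx P hjk hb hjk.symm hjk c'
    have cX : ∀ w ∈ A i k, _ := fun w hw => cx P hik hw hij.symm hik c
    have cY : ∀ w ∈ A i k, _ := fun w hw => cx P hik hw hik.symm hjk c'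
    rw [cm, xi, xi] at e4
    unfold Dl at h1 h2
    generalize cm a (e (x j k c')) = α at *
    generalize cm (e (x i j c)) b = β at *
    generalize e (x i j c) = X at *
    generalize e (x j k c') = Y at *
    refine ⟨X * Y * X * Y * (α * β * α * α), mul_mem e4
      (mul_mem (mul_mem (mul_mem hα hβ) hα) hα), ?_⟩
    have s2 : a * (t * Y) * a⁻¹ = t * X * α * Y := by
      calc _ = a * t * a⁻¹ * (a * Y * a⁻¹) := by group
        _ = _ := by rw [h1, e2]; group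
    have s3 : b * (t * X * α * Y) * b⁻¹ = t * Y * β * X * α * Y := by
      calc _ = b * t * b⁻¹ * (b * X * b⁻¹) * (b * α) * (Y * b⁻¹) := by group
        _ = t * Y * β * X * α * (b * Y) * b⁻¹ := by rw [h2, e3, cb α hα]; group
        _ = _ := by rw [← bY]; group
    have s4 : a * (t * Y * β * X * α * Y) * a⁻¹ = t * X * α * Y * β * X * α * α * Y := by
      calc _ = a * (t * Y) * a⁻¹ * (a * β) * X * α * a⁻¹ * (a * Y * a⁻¹) := by group
        _ = t * X * α * Y * β * (a * X) * α * a⁻¹ * α * Y := by rw [s2, e2, ca β hβ]; group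
        _ = t * X * α * Y * β * X * (a * α) * a⁻¹ * α * Y := by rw [← aX]; group
        _ = _ := by rw [ca α hα]; group
    have h2' : b⁻¹ * t * b = t * Y := by simpa only [bi] using h2
    have s2' : a⁻¹ * (t * Y) * a = t * X * α * Y := by simpa only [ai] using s2
    calc cm a b * t * (cm a b)⁻¹ = a * (b * (a⁻¹ * (b⁻¹ * t * b) * a) * b⁻¹) * a⁻¹ := by
          unfold cm; group
      _ = t * X * (α * Y) * (β * X) * (α * α * Y) := by rw [h2', s2', s3, s4]; group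
      _ = t * X * Y * (α * X) * (β * Y) * α * α := by
        rw [← cY α hα, ← cX β hβ, ← cY _ (mul_mem hα hα)]; group
      _ = t * X * Y * X * (α * Y) * β * α * α := by rw [← cX α hα, ← cY β hβ]; group
      _ = _ := by rw [← cY α hα]; group
  have e2 : ζ ∈ Cz t := by
    have : t * ζ * (t * ζ) = 1 := by rw [← e1, conj_mul, h.inv.1, mul_one, mul_inv_cancel]
    rw [mem_Cz, ← inv_eq_of_mul_eq_one_right this, _root_.mul_inv_rev, inv_eq P hik hζ, h.inv_eq]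
  obtain ⟨c0, rfl⟩ := P.fix i k hik ζ hζ e2
  obtain ⟨a0, h0, e3⟩ := P.onto i k hik c0
  have hz : a0⁻¹ * cm a b ∈ Cz t := by
    rw [mem_Cz]
    calc t * (a0⁻¹ * cm a b) = a0⁻¹ * (a0 * t * a0⁻¹) * cm a b := by group
      _ = _ := by rw [e3, ← e1]; group
  obtain ⟨c1, e4 | e4⟩ := centQ fa hn h hik hz fun u v huv hs c => by
    refine ((show Commute (e (x u v c)) a0 from cx P hik h0 (hs.elim (· ▸ huv.symm) (· ▸ hik.symm))
      (hs.elim (· ▸ hik) (· ▸ huv)) c).inv_right.mul_right ?_).eq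
    by_cases k1 : u = j ∧ v = k
    · obtain ⟨rfl, rfl⟩ := k1
      have hα := P.ar _ _ _ hij hjk hik a ha c
      exact cm_comm ai (ea c) (cx P hjk hb hjk.symm hjk c).symm (ca _ hα) (cb _ hα) (sq P hik hα)
    · by_cases k2 : u = i ∧ v = j
      · obtain ⟨rfl, rfl⟩ := k2
        have hβ := P.ac _ _ _ hij hjk hik b hb c
        rw [← cm_inv]
        exact Commute.inv_right (cm_comm bi (eb c) (cx P hij ha hij.symm hij c).symm (cb _ hβ)
          (ca _ hβ) (sq P hik hβ))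
      · have k3 : Commute (e (x u v c)) a := cx P hij ha (hs.elim (· ▸ huv.symm) (· ▸ hik.symm))
          (hs.elim (· ▸ hij) fun k4 k5 => k1 ⟨k5, k4⟩) c
        have k4 : Commute (e (x u v c)) b := cx P hjk hb
          (hs.elim (fun k4 k5 => k2 ⟨k4, k5⟩) (· ▸ hjk.symm)) (hs.elim (· ▸ hik) (· ▸ huv)) c
        exact ((k3.mul_right k4).mul_right k3.inv_right).mul_right k4.inv_right
  · rw [inv_mul_eq_iff_eq_mul.1 e4]
    exact mul_mem h0 (P.sub i k hik c1)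
  · have h3 : a0 * e (x i k c1) ∈ A i k := mul_mem h0 (P.sub i k hik c1)
    rw [inv_mul_eq_iff_eq_mul, h.comm, ← mul_assoc] at e4
    generalize a0 * e (x i k c1) = a1 at h3 e4
    obtain ⟨c2, h4⟩ := exD P hik h3
    have e5 := inv_cm (b := b) (sq P hij ha)
    rw [e4, _root_.mul_inv_rev, h.inv_eq, inv_eq P hik h3, ← mul_assoc, ca a1 h3, mul_assoc a1,
      mul_assoc a1, h1] at e5
    have e6 : e (x i k c2 * x i j c) = 1 := by
      rw [map_mul, ← mul_left_cancel_iff (a := t), ← mul_assoc, ← h4, mul_assoc, inv_eq P hik h3,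
        ← cx P hik h3 hij.symm hik, ← mul_assoc, mul_assoc a1, e5, mul_assoc, sq P hik h3]
    have e7 := eq_one2 h.ker (is2_of_sq (sq_Row (mul_mem (x_mem_Row i k c2) (x_mem_Row i j c)))) e6
    rw [mul_eq_one_iff_eq_inv, x_inv] at e7
    have e8 := congrArg (fun g : SLn n F => g.1 i j) e7
    simp only [x_apply_same hij, x_apply hik, hij, hjk.symm, if_false, and_false, add_zero] at e8
    rw [← e8, Dl, x_zero, map_one, mul_one, mul_inv_eq_iff_eq_mul] at h1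
    obtain ⟨c3, rfl⟩ := P.fix i j hij a ha (mem_Cz.2 h1.symm)
    exact e4 ▸ P.ac i j k hij hjk hik b hb c3

end PB

theorem jobA5 (hFA : JobFA) : JobA5.{u} := fun n F _ _ _ hp _ _ _ _ _ _ h P =>
  ⟨fun _ _ _ _ h1 h2 h3 h4 h5 h6 => pol (hFA n F hp) h P hp ⟨h1, h2, h3, h4, h5, h6⟩,
    fun _ _ _ h1 h2 h3 _ ha _ hb => neg (hFA n F hp) h P hp.two_le h1 h2 h3 ha hb⟩

end H1.SA5
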