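import Cfsg.Agent.H1.SOEb

/-! STD-O tower, job FE: automorphisms of `Q` and of the radical of the stabiliser of `π`. -/

set_option autoImplicit false
set_option linter.unusedSectionVars false

namespace H1.SOE

open H64.SG (Cz Cs Ns mem_Cs mem_Cz)
open H67.SA (cm cm_eq_one)
open H59.SO H46.SOG H56 H58 QuadraticMap Module Subgroup

theorem K_smul {F N : Type} [Field F] [AddCommGroup N] [Module F N] (q : QuadraticForm F N) {m : ℕ}
    (a : Fin m → N) (x : N) (d : F) (i j k : Fin m) :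
    K q a (Pi.single k (d • x)) i j = d * K q a (Pi.single k x) i j := by
  simp [K, Pi.single_smul, mul_sub]

theorem K_two {F N : Type} [Field F] [AddCommGroup N] [Module F N] (q : QuadraticForm F N)
    (a : Fin 2 → N) (x y : N) : K q ![y, -x] a 0 1 = polar q x (a 0) + polar q y (a 1) := by
  simp [K, polar_comm q x, add_comm]

variable {F V : Type} [Field F] [Finite F] [CharP F 2] [AddCommGroup V] [Module F V]
  [FiniteDimensional F V] {Q : QuadraticForm F V} (r : Fr Q) {u v g : Om Q} {θ : Om Q → Om Q}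

/-- the first two frame vectors -/
abbrev b2 : Fin 2 → V := fun i => r.e i.castSucc
/-- their duals -/
abbrev f2 : Fin 2 → V := fun i => r.f i.castSucc
/-- the middle section -/
abbrev N2 : Submodule F V := framePerp Q (b2 r) (f2 r)

theorem H2 : IsHypFrame Q (b2 r) (f2 r) :=
  ⟨fun _ => r.qe _, fun _ => r.qf _, fun i j => by simp [r.ef], fun _ _ => r.ee .., fun _ _ => r.ff ..⟩

/-- `e 2` -/
def e2 : N2 r := ⟨r.e 2, fun i => ⟨r.ee .., by fin_cases i <;> simp [r.fe]⟩⟩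
/-- `f 2` -/
def f2' : N2 r := ⟨r.f 2, fun i => ⟨by fin_cases i <;> simp [r.ef], r.ff ..⟩⟩

theorem N_LP (a : N2 r) : (a : V) ∈ LP r := (mem_LP r).2 ⟨(a.2 0).1, (a.2 1).1⟩

theorem E_QQ (i : Fin 2) (a : N2 r) : E Q (b2 r i) a ∈ r.QQ := by
  fin_cases i
  exacts [(E_mem_Ql (a.2 0).1 (a.2 1).1).1, (E_mem_Ql (a.2 0).1 (a.2 1).1).2]

theorem Fx_b (hg : g ∈ Fx r) (j : Fin 2) : g.1 (b2 r j) = b2 r j := by
  fin_cases j
  exacts [((mem_Fx r).1 hg).1, ((mem_Fx r).1 hg).2]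

theorem z_f (c : F) : polar Q (r.f 0) ((r.z c).1 (r.f 1)) = c := by
  simp [← pz_z, pz_apply, cb, r.ff, r.fe, r.ef]

variable (p : Par0 Q)
include p

theorem sp2 : Sp (Q.restrict (N2 r)) (e2 r) (f2' r) :=
  ⟨r.qe 2, r.qf 2, (polar_restrict ..).trans (by simp [e2, f2', r.ef]), (H2 r).nondeg_perp p.nd, fun c => by
    obtain ⟨w, hw, e⟩ := r.exists_Q_eq p c
    exact ⟨⟨w, fun i => hw _⟩, (polar_restrict ..).trans (hw 2).1, (polar_restrict ..).trans (hw 2).2, e⟩⟩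

theorem cd2 : Cd (H2 r) r.QQ r.Z := by
  have h1 : r.QQ ≤ TT Q (b2 r) (f2 r) := Ql_le.2 fun w w0 w1 =>
    ⟨E_mem_TT (H2 r) 0 (Fin.forall_fin_two.2 ⟨w0, w1⟩), E_mem_TT (H2 r) 1 (Fin.forall_fin_two.2 ⟨w0, w1⟩)⟩
  refine ⟨h1, fun u hu => ⟨fun h => ?_, fun h => ?_⟩, fun a => ⟨_, mul_mem (E_QQ r 0 (a 0)) (E_QQ r 1 (a 1)),
    ?_⟩, zq r⟩
  · obtain ⟨c, rfl⟩ := r.mem_Z.1 h
    refine funext fun i => Subtype.ext ?_
    change pr Q _ _ _ = 0
    rw [E_apply (r.qe 0) (by simp [r.ee])]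
    simp [pr_f (H2 r), show pr Q (b2 r) (f2 r) (r.e 0) = 0 from pr_b (H2 r) 0,
      show pr Q (b2 r) (f2 r) (r.e 1) = 0 from pr_b (H2 r) 1]
  · obtain ⟨c, e⟩ := r.ts.exists_eq_of_fix p.nd (k := u.1) fun x x0 x1 =>
      ker_fix (H2 r) (h1 hu) h (Fin.forall_fin_two.2 ⟨x0, x1⟩)
    exact r.mem_Z.2 ⟨c, Subtype.ext e⟩
  · rw [ψ_mul _ (h1 (E_QQ r _ _)) (h1 (E_QQ r _ _)), ψ_E, ψ_E]
    ext i; fin_cases i <;> simp

theorem cd3 : Cd r.hyp r.QP r.Pi := by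
  have h1 : r.QP ≤ TT Q r.e r.f := r.QP_le.2 fun i w hw => E_mem_TT r.hyp i hw
  have h2 : ∀ i (a : r.W), E Q (r.e i) a ∈ r.QP := fun i a => r.E_mem_QP i fun j => (a.2 j).1
  refine ⟨h1, fun u hu => ⟨fun h => ?_, fun h => mem_Pi_of_fix r p fun x hx => ker_fix r.hyp (h1 hu) h hx⟩,
    fun a => ⟨_, mul_mem (mul_mem (h2 0 (a 0)) (h2 1 (a 1))) (h2 2 (a 2)), ?_⟩, zp r p⟩
  · obtain ⟨s, t, c, rfl⟩ := (mem_Pi r).1 h
    refine funext fun i => Subtype.ext ?_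
    change pr Q _ _ _ = 0
    simp [pz_apply, cb, pr_f r.hyp, pr_b r.hyp]
  · rw [ψ_mul _ (h1 (mul_mem (h2 _ _) (h2 _ _))) (h1 (h2 _ _)), ψ_mul _ (h1 (h2 _ _)) (h1 (h2 _ _)),
      ψ_E, ψ_E, ψ_E]
    ext i; fin_cases i <;> simp

theorem cj_QQ (hg : g ∈ Fx r) (hu : u ∈ r.QQ) : g * u * g⁻¹ ∈ r.QQ :=
  cj_mem (P0_le_Ns p.nd r.ts (Fx_le_P0 r hg)) hu

theorem ψ_Fx (hg : g ∈ Fx r) (hu : u ∈ r.QQ) :
    ψ (H2 r) (g * u * g⁻¹) = fun i => act (H2 r) g (ψ (H2 r) u i) :=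
  funext (ψ_conj' (H2 r) (Fx_b r hg) ((cd2 r p).le hu))

theorem gens {z w : N2 r} (hz : z = e2 r ∨ z = f2' r) (h1 : polar (Q.restrict (N2 r)) (e2 r) w = 0)
    (h2 : polar (Q.restrict (N2 r)) (f2' r) w = 0) :
    ∃ g ∈ Fx r, ∀ a, act (H2 r) g a = eich (Q.restrict (N2 r)) z w a := by
  refine ⟨_, E_mem_Fx r (N_LP r z) (N_LP r w), fun a => ?_⟩
  rw [polar_restrict] at h1 h2
  rcases hz with rfl | rfl
  exacts [act_E _ _ _ _ (r.qe 2) h1, act_E _ _ _ _ (r.qf 2) h2]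

theorem e2_ne : e2 r ≠ 0 := fun h => r.ne 2 (congrArg Subtype.val h)

theorem cm_z (hu : u ∈ r.QQ) (hv : v ∈ r.QQ) :
    cm u v = r.z (K (Q.restrict (N2 r)) (ψ (H2 r) u) (ψ (H2 r) v) 0 1) := by
  obtain ⟨c, e⟩ := r.mem_Z.1 ((zq r).le (commutator_mem_commutator hu hv))
  have := κ_cm (H2 r) ((cd2 r p).le hu) ((cd2 r p).le hv) 0 1
  change cm u v = _ at e
  rw [e] at this ⊢
  rw [K, polar_restrict, polar_restrict, ← this]
  exact congrArg _ (z_f r c).symm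

theorem qe (h4 : Four Q) (hθ : AutOn r.QQ θ)
    (h : ∀ p ∈ r.P1, ∀ u ∈ r.QQ, θ (p * u * p⁻¹) * (p * θ u * p⁻¹)⁻¹ ∈ r.Z) :
    ∃ h ∈ Ns r.Z, ∀ u ∈ r.QQ, θ u * (h * u * h⁻¹)⁻¹ ∈ r.Z := by
  have c := cd2 r p
  obtain ⟨Θ, hΘ⟩ := c.exists_Θ hθ
  obtain ⟨M, hM⟩ := (sp2 r p).mat Θ.toAddMonoidHom fun z hz w w1 w2 a => by
    obtain ⟨g, hg, e⟩ := gens r p hz w1 w2
    obtain ⟨u, hu, rfl⟩ := c.on a
    have := (c.eq_iff (hθ.bij.1 (cj_QQ r p hg hu)) (cj_QQ r p hg (hθ.bij.1 hu))).1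
      (h g (Fx_le_P1 r p h4 hg) u hu)
    rw [hΘ _ (cj_QQ r p hg hu), ψ_Fx r p hg hu, ψ_Fx r p hg (hθ.bij.1 hu), hΘ u hu] at this
    simp only [e] at this
    exact this
  obtain ⟨k, k1, k2, k3⟩ := realise (H2 r) (Ns r.Z ⊓ Ns r.QQ) (fun i j c hij => by
      have : E Q (b2 r i) (c • f2 r j) ∈ r.P0 := by
        fin_cases i <;> fin_cases j
        exacts [absurd rfl hij, E01_mem r c, E10_mem r c, absurd rfl hij]
      exact ⟨H64.SG.Cs_le_Ns _ this, P0_le_Ns p.nd r.ts this⟩) (fun D hD => by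
      let k : Om Q := ⟨_, p.tor_mem (r.isHyp 0) (hD 0)⟩ * ⟨_, p.tor_mem (r.isHyp 1) (hD 1)⟩
      have e0 : k.1 (r.e 0) = D 0 • r.e 0 := by
        rw [mul_ap, tor_apply_of_orth (r.ee ..) (by simp [r.fe]), tor_apply_e (r.isHyp 0) (hD 0)]
      have e1 : k.1 (r.e 1) = D 1 • r.e 1 := by
        rw [mul_ap, tor_apply_e (r.isHyp 1) (hD 1), map_smul, tor_apply_of_orth (r.ee ..) (by simp [r.fe])]
      refine ⟨k, ⟨ns_Z r (c := D 0 * D 1) fun a => ?_, ns_of_le (Ql_le.2 fun w w0 w1 => ?_)⟩, fun w hw => ?_,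
        Fin.forall_fin_two.2 ⟨e0, e1⟩⟩
      · rw [E_conj, map_smul, e0, e1, E_smul_left _ (r.qe 0) (by simp [r.ee]), smul_smul, smul_smul]
        congr 2; ring
      · have l0 : polar Q (r.e 0) (k.1 w) = 0 := by
          rw [← smul_eq_zero_iff_right (hD 0), ← polar_smul_left, ← e0, O.map_polar, w0]
        have l1 : polar Q (r.e 1) (k.1 w) = 0 := by
          rw [← smul_eq_zero_iff_right (hD 1), ← polar_smul_left, ← e1, O.map_polar, w1]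
        simp only [mem_comap, MulEquiv.coe_toMonoidHom, conj_E, e0, e1, E_smul_left _ (r.qe _) l0,
          E_smul_left _ (r.qe _) l1]
        exact ⟨(E_mem_Ql (by simp [l0]) (by simp [l1])).1, (E_mem_Ql (by simp [l0]) (by simp [l1])).2⟩
      · exact (congrArg _ (tor_apply_of_orth (hw 1).1 (hw 1).2)).trans (tor_apply_of_orth (hw 0).1 (hw 0).2))
    (det_ne _ Θ.injective (e2_ne r p) hM)
  refine ⟨k, k1.1, fun u hu => (c.eq_iff (hθ.bij.1 hu) (cj_mem k1.2 hu)).2 (funext fun i => ?_)⟩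
  rw [hΘ u hu, ψ_real _ k2 k3 (c.le hu)]
  exact hM _ i

theorem hq (h4 : Four Q) (hθ : AutOn r.QQ θ) (h : ∀ u ∈ r.QQ, θ u * u⁻¹ ∈ r.Z)
    (h' : ∀ p ∈ r.P1, ∃ ζ ∈ r.QQ, ∀ u ∈ r.QQ, θ (p * u * p⁻¹) = ζ * (p * θ u * p⁻¹) * ζ⁻¹) :
    ∃ ζ ∈ r.QQ, ∀ u ∈ r.QQ, θ u = ζ * u * ζ⁻¹ := by
  have c := cd2 r p
  choose! χ hχ using fun u hu => r.mem_Z.1 (h u hu)
  replace hχ : ∀ u ∈ r.QQ, θ u = r.z (χ u) * u := fun u hu => by rw [← hχ u hu, inv_mul_cancel_right]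
  have zc : ∀ g ∈ Fx r, ∀ a, g * r.z a = r.z a * g := fun g hg a =>
    (mem_Cs.1 (Fx_le_P0 r hg) _ (r.z_mem a)).symm
  have zq := fun u hu => zc u (QQ_le_Fx r hu)
  have m : ∀ u ∈ r.QQ, ∀ v ∈ r.QQ, χ (u * v) = χ u + χ v := fun u hu v hv => by
    have := hθ.mul u hu v hv
    rw [hχ _ (mul_mem hu hv), hχ u hu, hχ v hv, mul_assoc, ← mul_assoc u (r.z _), zq u hu, mul_assoc,
      ← mul_assoc (r.z (χ u)), ← r.z_add, mul_left_inj] at this
    exact (r.z_inj p).1 this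
  have m0 : ∀ u ∈ r.QQ, ∀ v ∈ r.QQ, ψ (H2 r) u = ψ (H2 r) v → χ u = χ v := fun u hu v hv e => by
    have k : ∀ u ∈ r.QQ, χ u⁻¹ = χ u := fun u hu => by
      have := m _ hu _ (inv_mem hu)
      have h1 := m 1 (one_mem _) 1 (one_mem _)
      rw [mul_one, CharTwo.add_self_eq_zero] at h1
      rw [mul_inv_cancel, h1] at this
      linear_combination -this - χ u * (CharTwo.two_eq_zero : (2 : F) = 0)
    obtain ⟨a, ha⟩ := r.mem_Z.1 ((c.eq_iff hu hv).2 e)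
    have h1 : E Q (r.e 0) (a • r.f 2) ∈ r.QQ := (E_mem_Ql (by simp [r.ef]) (by simp [r.ef])).1
    have h2 : E Q (r.e 1) (r.e 2) ∈ r.QQ := (E_mem_Ql (r.ee ..) (r.ee ..)).2
    have := congrArg χ ha
    rw [m _ hu _ (inv_mem hv), k v hv, z_cm, cm, m _ (mul_mem (mul_mem h1 h2) (inv_mem h1)) _ (inv_mem h2),
      m _ (mul_mem h1 h2) _ (inv_mem h1), m _ h1 _ h2, k _ h1, k _ h2] at this
    linear_combination this + (χ (E Q (r.e 0) (a • r.f 2)) + χ (E Q (r.e 1) (r.e 2)) - χ v) *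
      (CharTwo.two_eq_zero : (2 : F) = 0)
  choose s s1 s2 using c.on
  let Φ : (Fin 2 → N2 r) →+ F := AddMonoidHom.mk' (fun a => χ (s a)) fun a a' => by
    rw [← m _ (s1 a) _ (s1 a')]
    exact m0 _ (s1 _) _ (mul_mem (s1 a) (s1 a')) (by rw [ψ_mul _ (c.le (s1 a)) (c.le (s1 a')), s2, s2, s2])
  have hΦ : ∀ u ∈ r.QQ, χ u = Φ (ψ (H2 r) u) := fun u hu => m0 _ hu _ (s1 _) (s2 _).symm
  have cj : ∀ ζ ∈ r.QQ, ∀ u ∈ r.QQ, ζ * u * ζ⁻¹ =
      r.z (K (Q.restrict (N2 r)) (ψ (H2 r) ζ) (ψ (H2 r) u) 0 1) * u := fun ζ hζ u hu => by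
    rw [← cm_z r p hζ hu, cm, inv_mul_cancel_right]
  have lin : ∀ (i : Fin 2) (d : F) (a : N2 r), Φ (Pi.single i (d • a)) = d * Φ (Pi.single i a) := by
    intro i d
    let D : N2 r →+ F := AddMonoidHom.mk' (fun a => Φ (Pi.single i (d • a)) - d * Φ (Pi.single i a))
      fun a a' => by simp only [smul_add, Pi.single_add, map_add]; ring
    have k : ∀ z, z = e2 r ∨ z = f2' r → ∀ w, polar (Q.restrict (N2 r)) (e2 r) w = 0 →
        polar (Q.restrict (N2 r)) (f2' r) w = 0 → ∀ a, D (eich (Q.restrict (N2 r)) z w a) = D a := by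
      intro z hz w w1 w2 a
      obtain ⟨g, hg, e⟩ := gens r p hz w1 w2
      obtain ⟨ζ, hζ, k⟩ := h' g (Fx_le_P1 r p h4 hg)
      have k2 : ∀ a, Φ (Pi.single i (act (H2 r) g a)) = Φ (Pi.single i a) +
          K (Q.restrict (N2 r)) (ψ (H2 r) ζ) (Pi.single i (act (H2 r) g a)) 0 1 := fun a => by
        have h1 := E_QQ r i a
        have h2 := cj_QQ r p hg h1
        have h3 : ψ (H2 r) (g * E Q (b2 r i) a * g⁻¹) = Pi.single i (act (H2 r) g a) := by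
          rw [ψ_Fx r p hg h1, ψ_E]
          exact funext fun k => Pi.apply_single (fun _ => act (H2 r) g) (by simp) i a k
        have := k _ h1
        rw [hχ _ h2, hχ _ h1, ← mul_assoc g, zc g hg, mul_assoc (r.z _), mul_assoc (r.z _), ← mul_assoc ζ,
          zq ζ hζ, mul_assoc (r.z _), mul_assoc (r.z _), cj ζ hζ _ h2, ← mul_assoc (r.z _) (r.z _), ← r.z_add,
          mul_left_inj, r.z_inj p, hΦ _ h2, hΦ _ h1, h3, ψ_E] at this
        exact this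
      change Φ _ - _ = Φ _ - _
      rw [← e, ← map_smul, k2, k2, map_smul, K_smul]
      ring
    exact fun a => sub_eq_zero.1 ((sp2 r p).span D (k _ (.inl rfl)) (k _ (.inr rfl)) a)
  have ex : ∀ i : Fin 2, ∃ β, ∀ a, polar (Q.restrict (N2 r)) β a = Φ (Pi.single i a) := fun i =>
    exists_polar_eq (sp2 r p).nd ⟨⟨fun a => Φ (Pi.single i a), fun a a' => by
      rw [Pi.single_add, map_add]⟩, lin i⟩
  choose β hβ using ex
  refine ⟨s ![β 1, -β 0], s1 _, fun u hu => ?_⟩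
  rw [cj _ (s1 _) u hu, hχ u hu, hΦ u hu, s2, K_two, hβ, hβ, ← map_add, ← Fin.sum_univ_two
    fun i => Pi.single i (ψ (H2 r) u i), Finset.univ_sum_single]

theorem t1 (h2 : Nat.card F = 2) (hθ : AutOn r.QP θ) {x : Om Q} (hx : x ∈ r.SP) :
    ∃ x' ∈ r.SP, ∀ u ∈ r.QP, θ (x * u * x⁻¹) * (x' * θ u * x'⁻¹)⁻¹ ∈ r.Pi := by
  have c := cd3 r p
  have n : ∀ x ∈ r.SP, ∀ u ∈ r.QP, x * u * x⁻¹ ∈ r.QP := fun x hx u hu => cj_mem ((sp r).1 hx) hu
  obtain ⟨Θ, hΘ⟩ := c.exists_Θ hθ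
  obtain ⟨X, hX⟩ := c.exists_Θ (θ := fun u => x * u * x⁻¹) ⟨⟨n x hx, fun _ _ _ _ e => by simpa using e,
    fun u hu => ⟨_, n _ (inv_mem hx) u hu, by group⟩⟩, fun a _ b _ => by group⟩
  obtain ⟨x1, x2⟩ : (∀ w ∈ r.W, x.1 w = w) ∧ ∀ j, pr Q r.e r.f (x.1 (r.e j)) = 0 := by
    have k : ∀ y : Om Q, ((∀ w ∈ r.W, y.1 w = w) ∧ ∀ j, pr Q r.e r.f (y.1 (r.e j)) = 0) → ∀ i j (c : F), i ≠ j →
        (∀ w ∈ r.W, (y * E Q (r.e i) (c • r.f j)).1 w = w) ∧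
          ∀ k, pr Q r.e r.f ((y * E Q (r.e i) (c • r.f j)).1 (r.e k)) = 0 := fun y hy i j c h =>
      ⟨fun w hw => by rw [mul_ap, E_fix (W_e r hw i) (by simp [W_f r hw]), hy.1 w hw], fun k => by
        rw [mul_ap, E_ef r h, map_add, map_add, map_smul, map_smul, hy.2, hy.2, smul_zero, add_zero]⟩
    clear hX
    induction hx using closure_induction_right with
    | one => exact ⟨fun _ _ => rfl, pr_b r.hyp⟩
    | mul_right y _ z hz h => obtain ⟨i, j, c, h', rfl⟩ := hz; exact k y h i j c h'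
    | mul_inv_cancel y _ z hz h => obtain ⟨i, j, c, h', rfl⟩ := hz; rw [E_inv]; exact k y h i j c h'
  obtain ⟨w, hw, w0⟩ := r.exists_Q_ne p
  replace w0 : (⟨w, hw⟩ : r.W) ≠ 0 := fun h => w0 (by rw [show w = 0 from congrArg Subtype.val h, map_zero])
  have kc : ∀ u ∈ r.QP, ∀ v ∈ r.QP, ∀ i j, polar Q (r.f i) ((cm u v).1 (r.f j)) =
      K (Q.restrict r.W) (ψ r.hyp u) (ψ r.hyp v) i j := fun u hu v hv i j => by
    rw [κ_cm r.hyp (c.le hu) (c.le hv), K, polar_restrict, polar_restrict]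
  obtain ⟨M, hM⟩ := conj_mat (r.hyp.nondeg_perp p.nd) h2 w0 Θ (fun a b a' b' e => by
      obtain ⟨u, hu, rfl⟩ := c.on a
      obtain ⟨v, hv, rfl⟩ := c.on b
      obtain ⟨u', hu', rfl⟩ := c.on a'
      obtain ⟨v', hv', rfl⟩ := c.on b'
      rw [← hΘ u hu, ← hΘ v hv, ← hΘ u' hu', ← hΘ v' hv'] at e
      have m : ∀ {u v : Om Q}, u ∈ r.QP → v ∈ r.QP → cm u v ∈ r.Pi := fun hu hv =>
        c.zq.le (commutator_mem_commutator hu hv)
      have e1 : cm (θ u) (θ v) = cm (θ u') (θ v') := by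
        have e2 := fun i j => ((kc _ (hθ.bij.1 hu) _ (hθ.bij.1 hv) i j).trans (congrFun₂ e i j)).trans
          (kc _ (hθ.bij.1 hu') _ (hθ.bij.1 hv') i j).symm
        obtain ⟨s, t, d, h⟩ := (mem_Pi r).1 (m (hθ.bij.1 hu) (hθ.bij.1 hv))
        obtain ⟨s', t', d', h'⟩ := (mem_Pi r).1 (m (hθ.bij.1 hu') (hθ.bij.1 hv'))
        rw [h, h'] at e2 ⊢
        congr 1
        · simpa [pz_apply, cb, r.ef, r.fe, r.ff] using e2 0 1
        · simpa [pz_apply, cb, r.ef, r.fe, r.ff] using e2 0 2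
        · simpa [pz_apply, cb, r.ef, r.fe, r.ff] using e2 1 2
      rw [← hθ.cm hu hv, ← hθ.cm hu' hv'] at e1
      ext i j
      rw [← kc u hu v hv, ← kc u' hu' v' hv', hθ.bij.2.1 (Pi_le_QP r (m hu hv)) (Pi_le_QP r (m hu' hv')) e1])
    X.toAddMonoidHom (fun i j => polar Q (x.1 (r.e j)) (r.f i)) fun a i => by
      obtain ⟨u, hu, rfl⟩ := c.on a
      refine (congrFun (hX u hu).symm i).trans ((ψ_conj _ x2 (c.le hu) i).trans ?_)
      exact Finset.sum_congr rfl fun j _ => by rw [act_of_fix _ (x1 _ (ψ r.hyp u j).2)]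
  obtain ⟨k, k1, k2, k3⟩ := realise r.hyp r.SP (fun i j c h => r.E_mem_SP h c) (fun D hD =>
    ⟨1, one_mem _, fun _ _ => rfl, fun j => by rw [(eq_zero_or_one h2 _).resolve_left (hD j), one_smul]; rfl⟩)
    (det_ne ((Θ.symm.trans X).trans Θ).toAddMonoidHom (AddEquiv.injective _) w0 hM)
  refine ⟨k, k1, fun u hu => (c.eq_iff (hθ.bij.1 (n x hx u hu)) (n k k1 _ (hθ.bij.1 hu))).2 (funext fun i => ?_)⟩
  rw [hΘ _ (n x hx u hu), ψ_real _ k2 k3 (c.le (hθ.bij.1 hu)), ← hM, hΘ u hu, Θ.symm_apply_apply, hX u hu]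
  rfl

theorem t2 (h4 : Four Q) (h2 : Nat.card F = 2) (hθ : AutOn r.QQ θ)
    (h : ∀ p ∈ r.P1, ∃ p' ∈ r.P1, ∀ u ∈ r.QQ, θ (p * u * p⁻¹) * (p' * θ u * p'⁻¹)⁻¹ ∈ r.Z)
    (hP : ∀ u ∈ r.Pi, θ u = u) (hQ : ∀ u ∈ r.QQ ⊓ r.QP, θ u * u⁻¹ ∈ r.Pi) :
    ∃ p ∈ r.P1, ∀ u ∈ r.QQ, θ u * (p * u * p⁻¹)⁻¹ ∈ r.Z := by
  have c := cd2 r p
  obtain ⟨Θ, hΘ⟩ := c.exists_Θ hθ
  have k : ∀ z, z = e2 r ∨ z = f2' r → ∀ w, polar (Q.restrict (N2 r)) (e2 r) w = 0 →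
      polar (Q.restrict (N2 r)) (f2' r) w = 0 → ∃ g ∈ Fx r, ∀ a,
      Θ (fun i => eich (Q.restrict (N2 r)) z w (a i)) = fun i => act (H2 r) g (Θ a i) := by
    intro z hz w w1 w2
    obtain ⟨g, hg, e⟩ := gens r p hz w1 w2
    obtain ⟨g', h1, h3⟩ := h g (Fx_le_P1 r p h4 hg)
    have hg' := P1_le r p h2 h1
    refine ⟨g', hg', fun a => ?_⟩
    obtain ⟨u, hu, rfl⟩ := c.on a
    have := (c.eq_iff (hθ.bij.1 (cj_QQ r p hg hu)) (cj_QQ r p hg' (hθ.bij.1 hu))).1 (h3 u hu)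
    rw [hΘ _ (cj_QQ r p hg hu), ψ_Fx r p hg hu, ψ_Fx r p hg' (hθ.bij.1 hu), hΘ u hu] at this
    simpa only [e] using this
  have f0 : ∀ i, Θ (Pi.single i (e2 r)) = Pi.single i (e2 r) := fun i => by
    rw [← ψ_E (H2 r), ← hΘ _ (E_QQ r i _), hP]
    have := E_ee_mem r i.castSucc 2 1
    rwa [one_smul] at this
  have J : ∀ i j a, Θ (Pi.single i (a j)) = Pi.single i (Θ a j) := fun i j => by
    obtain ⟨M, hM⟩ := (sp2 r p).mat (Θ.symm.toAddMonoidHom.comp (((AddMonoidHom.single (fun _ => N2 r) i).comp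
        (Pi.evalAddMonoidHom _ j)).comp Θ.toAddMonoidHom)) fun z hz w w1 w2 a => by
      obtain ⟨g, -, e⟩ := k z hz w w1 w2
      change Θ.symm (Pi.single i (Θ _ j)) = fun k => eich _ z w (Θ.symm (Pi.single i (Θ a j)) k)
      rw [Θ.symm_apply_eq, e, e, Θ.apply_symm_apply]
      exact funext fun k => (Pi.apply_single (fun _ => act (H2 r) g) (by simp) i _ k).symm
    replace hM : ∀ a k, Θ.symm (Pi.single i (Θ a j)) k = ∑ l, M k l • a l := hM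
    have h1 : ∀ k l, M k l = if k = i ∧ l = j then 1 else 0 := fun k l => by
      have := hM (Pi.single l (e2 r)) k
      rw [f0, Finset.sum_eq_single l (fun _ _ h => by simp [h]) (by simp), Pi.single_eq_same] at this
      refine smul_left_injective F (e2_ne r p) (this.symm.trans ?_)
      by_cases h : j = l
      · rw [h, Pi.single_eq_same, ← f0, Θ.symm_apply_apply]
        by_cases h' : k = i <;> simp [h']
      · simp [h, Ne.symm h]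
    intro a
    rw [← Θ.eq_symm_apply]
    ext k : 1
    rw [hM]
    by_cases h' : k = i <;> simp [h1, h']
  let A : N2 r →+ N2 r := (Pi.evalAddMonoidHom _ 0).comp
    (Θ.toAddMonoidHom.comp (AddMonoidHom.single (fun _ => N2 r) 0))
  have a1 : ∀ i x, Θ (Pi.single i x) = Pi.single i (A x) := fun i x => J i 0 (Pi.single 0 x)
  have a2 : ∀ a i, Θ a i = A (a i) := fun a i => by simpa [a1] using (congrFun (J i i a) i).symm
  have hB : ∀ x y, polar (Q.restrict (N2 r)) (A x) (A y) = polar (Q.restrict (N2 r)) x y := fun x y => by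
    have := hθ.cm (E_QQ r 0 x) (E_QQ r 1 y)
    rw [cm_z r p (E_QQ r _ _) (E_QQ r _ _), hP _ (pz_z r _ ▸ pz_mem r _ _ _),
      cm_z r p (hθ.bij.1 (E_QQ r _ _)) (hθ.bij.1 (E_QQ r _ _)), r.z_inj p, hΘ _ (E_QQ r _ _),
      hΘ _ (E_QQ r _ _), ψ_E, ψ_E, a1, a1] at this
    simpa only [K, Pi.single_eq_same, Pi.single_eq_of_ne (show (0 : Fin 2) ≠ 1 by decide), polar_zero_left,
      sub_zero] using this.symm
  obtain ⟨w, w1, w2, e⟩ := (sp2 r p).eq_eich h2 A hB (fun a => by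
      let D : N2 r →+ F := AddMonoidHom.mk' (fun a => Q.restrict (N2 r) (A a) - Q.restrict (N2 r) a)
        fun a a' => by rw [map_add, H56.Q_add, H56.Q_add, hB]; ring
      have k2 : ∀ z, z = e2 r ∨ z = f2' r → ∀ w, polar (Q.restrict (N2 r)) (e2 r) w = 0 →
          polar (Q.restrict (N2 r)) (f2' r) w = 0 → ∀ a, D (eich (Q.restrict (N2 r)) z w a) = D a := by
        intro z hz w w1 w2 a
        obtain ⟨g, hg, e⟩ := k z hz w w1 w2
        have := congrFun (e fun _ => a) 0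
        rw [a2, a2] at this
        change Q.restrict _ _ - _ = Q.restrict _ _ - _
        rw [this, O.map_Q]
        exact congrArg (· - _) (Q_act _ (Fx_b r hg) _)
      exact sub_eq_zero.1 ((sp2 r p).span D (k2 _ (.inl rfl)) (k2 _ (.inr rfl)) a))
    (by simpa [a2] using congrFun (f0 0) 0) fun w w1 w2 => by
      have h1 := E_QQ r 0 w
      obtain ⟨s, t, d, e⟩ := (mem_Pi r).1 (hQ _ ⟨h1, r.E_mem_QP 0 fun j => by
        fin_cases j
        exacts [(w.2 0).1, (w.2 1).1, (polar_restrict ..).symm.trans w1]⟩)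
      have := congrFun (congrArg (ψ (H2 r)) (mul_inv_eq_iff_eq_mul.1 e)) 0
      rw [hΘ _ h1, ψ_mul _ (c.le (Pi_le_QQ r (pz_mem r _ _ _))) (c.le h1), ψ_E, a2, Pi.add_apply,
        Pi.single_eq_same, add_comm] at this
      refine ⟨t, this.trans (congrArg _ (Subtype.ext ?_))⟩
      change pr Q _ _ ((pz r s t d).1 (r.f 0)) = t • r.e 2
      simp [pz_apply, cb, r.ef, show pr Q (b2 r) (f2 r) (r.e 1) = 0 from pr_b (H2 r) 1,
        show pr Q (b2 r) (f2 r) (r.f 0) = 0 from pr_f (H2 r) 0,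
        show pr Q (b2 r) (f2 r) (r.e 2) = r.e 2 from pr_of_mem (e2 r).2]
  obtain ⟨g, hg, e'⟩ := gens r p (.inl rfl) w1 w2
  refine ⟨g, Fx_le_P1 r p h4 hg, fun u hu => (c.eq_iff (hθ.bij.1 hu) (cj_QQ r p hg hu)).2 (funext fun i => ?_)⟩
  rw [hΘ u hu, ψ_Fx r p hg hu, a2, e, ← e']

omit p in
theorem jFE : JFE := fun _ _ _ _ _ _ _ _ _ p r h4 =>
  ⟨fun _ => qe r p.toPar0 h4, fun _ => hq r p.toPar0 h4, fun h2 _ hθ _ => t1 r p.toPar0 h2 hθ,
    fun h2 _ => t2 r p.toPar0 h4 h2⟩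

end H1.SOE
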