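import Cfsg.Agent.H46.SOC

/-! STD-O tower, job FE, part 1: Schur's lemma; coordinates on the radical of a parabolic. -/

set_option autoImplicit false
set_option linter.unusedSectionVars false

namespace H1.SOE

open H64.SG (Cz Cs Ns mem_Cs mem_Cz)
open H67.SA (cm cm_eq_one)
open H59.SO H46.SOG H56 H58 QuadraticMap Module Subgroup

section Abs

variable {F N : Type} [Field F] [CharP F 2] [AddCommGroup N] [Module F N]
  {q : QuadraticForm F N} {x y w a : N}

theorem eap (hx : q x = 0) (h : polar q x w = 0) (a : N) :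
    eich q x w a = a + polar q w a • x + polar q x a • w + (q w * polar q x a) • x :=
  E_apply hx h a

/-- A hyperbolic pair with a large complement. -/
structure Sp (q : QuadraticForm F N) (x y : N) : Prop where
  qx : q x = 0
  qy : q y = 0
  xy : polar q x y = 1
  nd : q.polarBilin.Nondegenerate
  all : ∀ c, ∃ w, polar q x w = 0 ∧ polar q y w = 0 ∧ q w = c

theorem Sp.yx (h : Sp q x y) : polar q y x = 1 := by rw [polar_comm, h.xy]

theorem Sp.symm (h : Sp q x y) : Sp q y x :=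
  ⟨h.qy, h.qx, h.yx, h.nd, fun c => (h.all c).imp fun _ k => ⟨k.2.1, k.1, k.2.2⟩⟩

theorem Sp.dec (h : Sp q x y) (a : N) : ∃ w, polar q x w = 0 ∧ polar q y w = 0 ∧
    a = polar q y a • x + polar q x a • y + w :=
  ⟨a - polar q y a • x - polar q x a • y, by simp [h.xy, h.qx], by simp [h.yx, h.qy], by abel⟩

theorem Sp.pair (h : Sp q x y) : ∃ w w', polar q x w = 0 ∧ polar q y w = 0 ∧ polar q x w' = 0 ∧
    polar q y w' = 0 ∧ polar q w w' = 1 := by
  obtain ⟨w, h1, h2, h3⟩ := h.all 1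
  obtain ⟨v, h4⟩ := exists_polar_eq_one h.nd (x := w) (by rintro rfl; simp at h3)
  obtain ⟨w', h5, h6, h7⟩ := h.dec v
  refine ⟨w, w', h1, h2, h5, h6, ?_⟩
  rw [h7] at h4
  simpa [polar_comm q w x, polar_comm q w y, h1, h2] using h4

theorem Sp.fixd (h : Sp q x y) (h1 : ∀ w, polar q x w = 0 → polar q y w = 0 → eich q x w a = a) :
    a = polar q y a • x := by
  obtain ⟨w, w', k1, k2, k3, k4, k5⟩ := h.pair
  have h2 : polar q x a = 0 := by
    have := congrArg (polar q w') (h1 w k1 k2)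
    simpa [eap h.qx k1, polar_comm q w' x, k3, polar_comm q w' w, k5] using this
  obtain ⟨v, h3, h4, h5⟩ := h.dec a
  have h6 : v = 0 := eq_zero_of_polar h.nd fun z => by
    obtain ⟨z', h6, h7, h8⟩ := h.dec z
    have := congrArg (polar q y) (h1 z' h6 h7)
    rw [eap h.qx h6, h2] at this
    simp only [zero_smul, add_zero, mul_zero, polar_add_right, polar_smul_right, h.yx, smul_eq_mul,
      mul_one, add_eq_left] at this
    rw [h5, h2] at this
    rw [h8]
    simpa [polar_comm q z' x, h6, polar_comm q v x, polar_comm q v y, h3, h4, polar_comm q v z']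
      using this
  rwa [h2, h6, zero_smul, add_zero, add_zero] at h5

theorem Sp.schur (h : Sp q x y) (A : N →+ N)
    (h1 : ∀ w, polar q x w = 0 → polar q y w = 0 → ∀ a, A (eich q x w a) = eich q x w (A a))
    (h2 : ∀ w, polar q x w = 0 → polar q y w = 0 → ∀ a, A (eich q y w a) = eich q y w (A a)) :
    ∃ m : F, ∀ a, A a = m • a := by
  have k1 : ∀ c : F, A (c • x) = polar q y (A (c • x)) • x := fun c => h.fixd fun w w1 w2 => by
    rw [← h1 w w1 w2, map_smul, eich_apply_self h.qx w1]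
  have k2 : ∀ c : F, A (c • y) = polar q x (A (c • y)) • y := fun c => h.symm.fixd fun w w1 w2 => by
    rw [← h2 w w2 w1, map_smul, eich_apply_self h.qy w1]
  generalize hs : (fun c : F => polar q y (A (c • x))) = s at k1
  generalize hs' : (fun c : F => polar q x (A (c • y))) = s' at k2
  replace k1 : ∀ c : F, A (c • x) = s c • x := hs ▸ k1
  replace k2 : ∀ c : F, A (c • y) = s' c • y := hs' ▸ k2
  have k3 : ∀ (c : F) w, polar q x w = 0 → polar q y w = 0 →
      A (c • w) = s' c • w + (s' c * q w - s (c * q w)) • x := fun c w w1 w2 => by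
    have := h1 w w1 w2 (c • y)
    rw [k2, map_smul (eich q x w), map_smul (eich q x w), eap h.qx w1, polar_comm q w y, w2,
      h.xy] at this
    simp only [zero_smul, add_zero, one_smul, mul_one, smul_add, map_add, smul_smul, k1, k2] at this
    linear_combination (norm := module) this
  have k4 : ∀ (c : F) w, polar q x w = 0 → polar q y w = 0 →
      A (c • w) = s c • w + (s c * q w - s' (c * q w)) • y := fun c w w1 w2 => by
    have := h2 w w1 w2 (c • x)
    rw [k1, map_smul (eich q y w), map_smul (eich q y w), eap h.qy w2, polar_comm q w x, w1,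
      h.yx] at this
    simp only [zero_smul, add_zero, one_smul, mul_one, smul_add, map_add, smul_smul, k1, k2] at this
    linear_combination (norm := module) this
  have k5 : ∀ c d, s' c * d = s (c * d) := fun c d => by
    obtain ⟨w, w1, w2, rfl⟩ := h.all d
    simpa [w2, h.yx, h.qy, sub_eq_zero] using congrArg (polar q y) ((k3 c w w1 w2).symm.trans
      (k4 c w w1 w2))
  have k6 : ∀ c, s c = s' 1 * c := fun c => by rw [k5, one_mul]
  have k7 : ∀ c, s' c = s' 1 * c := fun c => by rw [← k6, ← mul_one (s' c), k5, mul_one]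
  refine ⟨s' 1, fun a => ?_⟩
  obtain ⟨w, w1, w2, e⟩ := h.dec a
  have := k3 1 w w1 w2
  rw [k5, sub_self, zero_smul, add_zero, one_smul] at this
  rw [e, map_add, map_add, k1, k2, this, k6 (polar q y a), k7 (polar q x a)]
  module

theorem Sp.span (h : Sp q x y) (D : N →+ F)
    (h1 : ∀ w, polar q x w = 0 → polar q y w = 0 → ∀ a, D (eich q x w a) = D a)
    (h2 : ∀ w, polar q x w = 0 → polar q y w = 0 → ∀ a, D (eich q y w a) = D a) (a : N) :
    D a = 0 := by
  obtain ⟨w, w', k1, k2, k3, k4, k5⟩ := h.pair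
  have l1 : ∀ c : F, D (c • x) = 0 := fun c => by
    simpa [eap h.qx k1, k3, k5] using h1 w k1 k2 (c • w')
  have l2 : ∀ c : F, D (c • y) = 0 := fun c => by
    simpa [eap h.qy k2, k4, k5] using h2 w k1 k2 (c • w')
  obtain ⟨v, v1, v2, e⟩ := h.dec a
  have := h1 v v1 v2 y
  rw [eap h.qx v1] at this
  simp only [map_add, l1, h.xy, one_smul, add_zero, add_eq_left] at this
  rw [e, map_add, map_add, l1, l2, this, add_zero, add_zero]

end Abs

variable {F V : Type} [Field F] [Finite F] [CharP F 2] [AddCommGroup V] [Module F V]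
  [FiniteDimensional F V] {Q : QuadraticForm F V} {m : ℕ} {b f : Fin m → V} {x y w : V}
  {g u v : Om Q}

variable (Q b f) in
/-- the projection to the orthogonal complement of a frame -/
noncomputable def pr : V →ₗ[F] V :=
  LinearMap.id - ∑ i, (polarBilin Q (f i)).smulRight (b i) - ∑ i, (polarBilin Q (b i)).smulRight (f i)

theorem pr_apply (x : V) :
    pr Q b f x = x - ∑ i, polar Q (f i) x • b i - ∑ i, polar Q (b i) x • f i := by
  simp [pr]

theorem pr_of_mem (h : x ∈ framePerp Q b f) : pr Q b f x = x := by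
  simp [pr_apply, (h _).1, (h _).2]

theorem dec_b (h : ∀ j, polar Q (b j) x = 0) : x = pr Q b f x + ∑ i, polar Q (f i) x • b i := by
  simp [pr_apply, h]

theorem polar_pr (h : ∀ j, polar Q (b j) x = 0) (h' : ∀ j, polar Q (b j) y = 0) :
    polar Q y (pr Q b f x) = polar Q y x := by
  simp [pr_apply, h, polar_sum_right, polar_comm Q y (b _), h']

variable (Q b f) in
/-- elements acting trivially on the span of `b` and on the middle section -/
def TT : Subgroup (Om Q) where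
  carrier := {u | (∀ j, u.1 (b j) = b j) ∧
    ∀ w, (∀ j, polar Q (b j) w = 0) → pr Q b f (u.1 w) = pr Q b f w}
  one_mem' := ⟨fun _ => rfl, fun _ _ => rfl⟩
  mul_mem' := fun {u v} hu hv => ⟨fun j => by rw [mul_ap, hv.1, hu.1], fun w hw => by
    rw [mul_ap, hu.2 _ fun j => by rw [← hv.1 j, O.map_polar, hw], hv.2 w hw]⟩
  inv_mem' := fun {u} hu => ⟨fun j => (O.inv_apply_eq _).2 (hu.1 j).symm, fun w hw => by
    rw [← hu.2 _ fun j => by rw [pol_inv, inv_inv, hu.1, hw], ← mul_ap, mul_inv_cancel]; rfl⟩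

theorem TT.perp (hu : u ∈ TT Q b f) (x : V) (j : Fin m) : polar Q (b j) (u.1 x - x) = 0 := by
  rw [polar_sub_right, pol_inv, (inv_mem hu).1, sub_self]

variable (H : IsHypFrame Q b f)
include H

theorem pr_mem (x : V) : pr Q b f x ∈ framePerp Q b f := fun i => by
  simp [pr_apply, polar_sum_right, H.ee, H.ef, H.fe, H.ff]

theorem pr_b (i : Fin m) : pr Q b f (b i) = 0 := by simp [pr_apply, H.ee, H.fe]

theorem pr_f (i : Fin m) : pr Q b f (f i) = 0 := by simp [pr_apply, H.ef, H.ff]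

theorem Q_pr (h : ∀ j, polar Q (b j) x = 0) : Q (pr Q b f x) = Q x := by
  conv_rhs => rw [dec_b (f := f) h, H56.Q_add, Q_sum_smul_eq_zero Q _ b H.qe H.ee]
  simp [polar_sum_right, polar_comm Q _ (b _), (pr_mem H x _).1]

theorem E_mem_TT (i : Fin m) (h : ∀ j, polar Q (b j) w = 0) : E Q (b i) w ∈ TT Q b f :=
  ⟨fun j => E_fix (H.ee _ _) (by rw [polar_comm, h]), fun x hx => by
    rw [E_apply_orth (H.qe i) (h i) (hx i), map_add, map_smul, pr_b H, smul_zero, add_zero]⟩

/-- the coordinates -/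
noncomputable def ψ (u : Om Q) (i : Fin m) : framePerp Q b f := ⟨pr Q b f (u.1 (f i)), pr_mem H _⟩

theorem ψ_sub (u : Om Q) (i : Fin m) : (ψ H u i : V) = pr Q b f (u.1 (f i) - f i) := by
  rw [map_sub, pr_f H, sub_zero]; rfl

theorem ψ_mul (hu : u ∈ TT Q b f) (hv : v ∈ TT Q b f) : ψ H (u * v) = ψ H u + ψ H v :=
  funext fun i => Subtype.ext (by
    change pr Q b f (u.1 (v.1 (f i))) = pr Q b f (u.1 (f i)) + ψ H v i
    rw [ψ_sub, ← hu.2 _ (TT.perp hv _), ← map_add, ← map_add, add_sub_cancel])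

theorem ψ_one : ψ H 1 = 0 := funext fun i => Subtype.ext (pr_f H i)

theorem ψ_inv (hu : u ∈ TT Q b f) : ψ H u⁻¹ = ψ H u := by
  have := ψ_mul H (inv_mem hu) hu
  rw [inv_mul_cancel, ψ_one] at this
  exact funext fun i => Subtype.ext ((eq_neg_of_add_eq_zero_left
    (congrArg (fun a => (a i : V)) this.symm)).trans (neg2 F _))

theorem ψ_E (i : Fin m) (a : framePerp Q b f) : ψ H (E Q (b i) a) = Pi.single i a :=
  funext fun j => Subtype.ext (by
    change pr Q b f _ = _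
    rw [E_apply (H.qe i) (a.2 i).1]
    by_cases h : j = i <;> simp [pr_b H, pr_f H, pr_of_mem a.2, H.ef, h, Ne.symm])

theorem ker_fix (hu : u ∈ TT Q b f) (h : ψ H u = 0) (hx : ∀ j, polar Q (b j) x = 0) :
    u.1 x = x := by
  have h1 : pr Q b f (u.1 x - x) = 0 := by rw [map_sub, hu.2 x hx, sub_self]
  rw [← sub_eq_zero, dec_b (f := f) (TT.perp hu x), h1, zero_add]
  refine Finset.sum_eq_zero fun i _ => ?_
  rw [polar_sub_right, pol_inv, ← polar_sub_left, polar_comm,
    ← polar_pr (f := f) (TT.perp (inv_mem hu) _) hx, ← ψ_sub H, ψ_inv H hu, h]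
  simp

theorem κ_mul (hu : u ∈ TT Q b f) (hv : v ∈ TT Q b f) (i j : Fin m) :
    polar Q (f i) ((u * v).1 (f j)) = polar Q (f i) (u.1 (f j)) + polar Q (f i) (v.1 (f j)) +
      polar Q (ψ H u i) (ψ H v j) := by
  rw [← ψ_inv H hu, ψ_sub, ψ_sub, polar_pr (TT.perp hv _) fun j => (pr_mem H _ j).1, polar_comm Q (pr _ _ _ _),
    polar_pr (TT.perp (inv_mem hu) _) (TT.perp hv _), mul_ap, pol_inv, pol_inv u]
  simp only [polar_sub_left, polar_sub_right, H.ff, polar_comm Q (u⁻¹.1 (f i)), polar_comm Q (f i)]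
  ring

theorem κ_cm (hu : u ∈ TT Q b f) (hv : v ∈ TT Q b f) (i j : Fin m) :
    polar Q (f i) ((cm u v).1 (f j)) =
      polar Q (ψ H u i) (ψ H v j) - polar Q (ψ H v i) (ψ H u j) := by
  have h1 : cm u v ∈ TT Q b f := mul_mem (mul_mem (mul_mem hu hv) (inv_mem hu)) (inv_mem hv)
  have e1 : cm u v * (v * u) = u * v := by unfold H67.SA.cm; group
  have h2 : ψ H (cm u v) = 0 := by
    have := ψ_mul H h1 (mul_mem hv hu)
    rwa [e1, ψ_mul H hu hv, ψ_mul H hv hu, add_comm (ψ H v), right_eq_add] at this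
  have := κ_mul H h1 (mul_mem hv hu) i j
  rw [e1, κ_mul H hu hv, κ_mul H hv hu, h2] at this
  simp only [Pi.zero_apply, ZeroMemClass.coe_zero, polar_zero_left] at this
  linear_combination -this

/-- the action on the middle section -/
noncomputable def act (g : Om Q) : framePerp Q b f →ₗ[F] framePerp Q b f :=
  (pr Q b f ∘ₗ g.1.lin ∘ₗ (framePerp Q b f).subtype).codRestrict _ fun _ => pr_mem H _

theorem act_val (g : Om Q) (a : framePerp Q b f) : (act H g a : V) = pr Q b f (g.1 a) := rfl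

theorem act_of_fix {a : framePerp Q b f} (h : g.1 a = a) : act H g a = a :=
  Subtype.ext (by rw [act_val, h, pr_of_mem a.2])

theorem act_E (x w a : framePerp Q b f) (h1 : Q x = 0) (h2 : polar Q x w = 0) :
    act H (E Q x w) a = eich (Q.restrict (framePerp Q b f)) x w a := Subtype.ext (by
  rw [act_val, E_apply h1 h2, eap (q := Q.restrict _) h1 h2]
  exact pr_of_mem (eich (Q.restrict (framePerp Q b f)) x w a |>.2 |> fun k => by
    rw [eap (q := Q.restrict _) h1 h2] at k; exact k))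

theorem Q_act (h : ∀ j, g.1 (b j) = b j) (a : framePerp Q b f) : Q (act H g a) = Q a := by
  rw [act_val, Q_pr H fun j => by rw [← h j, O.map_polar, (a.2 j).1], O.map_Q]

theorem ψ_conj (hg : ∀ j, pr Q b f (g.1 (b j)) = 0) (hu : u ∈ TT Q b f) (i : Fin m) :
    ψ H (g * u * g⁻¹) i = ∑ j, polar Q (g.1 (b j)) (f i) • act H g (ψ H u j) := Subtype.ext (by
  have h1 : ∀ x, (∀ j, polar Q (b j) x = 0) → pr Q b f (g.1 x) = pr Q b f (g.1 (pr Q b f x)) :=
    fun x hx => by
      conv_lhs => rw [dec_b (f := f) hx]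
      simp [hg]
  have h2 : ∀ y, pr Q b f (u.1 y - y) = ∑ j, polar Q (b j) y • (ψ H u j : V) := fun y => by
    have := hu.2 (y - ∑ j, polar Q (b j) y • f j) fun j => by simp [polar_sum_right, H.ef]
    simp only [map_sub, map_sum, map_smul, pr_f H, smul_zero, Finset.sum_const_zero, sub_zero] at this
    rw [map_sub, ← this, sub_sub_cancel]; rfl
  have h3 := h1 _ (TT.perp hu (g⁻¹.1 (f i)))
  rw [h2, map_sub, map_sub, ← mul_ap g g⁻¹, mul_inv_cancel] at h3
  change pr Q b f (g.1 (u.1 (g⁻¹.1 (f i)))) - pr Q b f (f i) = _ at h3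
  rw [pr_f H, sub_zero] at h3
  simp only [map_sum, map_smul, pol_inv, inv_inv] at h3
  change pr Q b f (g.1 (u.1 (g⁻¹.1 (f i)))) = _
  rw [h3]
  simp [act_val])

theorem ψ_conj' (hg : ∀ j, g.1 (b j) = b j) (hu : u ∈ TT Q b f) (i : Fin m) :
    ψ H (g * u * g⁻¹) i = act H g (ψ H u i) := by
  rw [ψ_conj H (fun j => by rw [hg, pr_b H]) hu]
  simp [hg, H.ef]

/-- `R / Z` has coordinates `ψ`. -/
structure Cd (R Z : Subgroup (Om Q)) : Prop where
  le : R ≤ TT Q b f
  ker : ∀ u ∈ R, u ∈ Z ↔ ψ H u = 0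
  on : ∀ a, ∃ u ∈ R, ψ H u = a
  zq : ⁅R, R⁆ = Z

variable {H} {R Z : Subgroup (Om Q)} {θ : Om Q → Om Q}

theorem Cd.eq_iff (c : Cd H R Z) (hu : u ∈ R) (hv : v ∈ R) : u * v⁻¹ ∈ Z ↔ ψ H u = ψ H v := by
  rw [c.ker _ (mul_mem hu (inv_mem hv)), ψ_mul H (c.le hu) (inv_mem (c.le hv)), ψ_inv H (c.le hv),
    add_eq_zero_iff_eq_neg, neg2 F]

omit H in
theorem mem_comm [Finite (Om Q)] (hθ : AutOn R θ) (hu : u ∈ R) : θ u ∈ ⁅R, R⁆ ↔ u ∈ ⁅R, R⁆ := by
  have h1 : Set.MapsTo θ (⁅R, R⁆ : Subgroup (Om Q)) (⁅R, R⁆ : Subgroup (Om Q)) := fun u hu => by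
    refine (closure_induction (p := fun u _ => u ∈ R ∧ θ u ∈ ⁅R, R⁆) ?_
      ⟨one_mem _, by rw [hθ.one]; exact one_mem _⟩ ?_ ?_ hu).2
    · rintro _ ⟨a, ha, b, hb, rfl⟩
      exact ⟨commutator_le_self R (commutator_mem_commutator ha hb), (hθ.cm ha hb).symm ▸
        commutator_mem_commutator (hθ.bij.1 ha) (hθ.bij.1 hb)⟩
    · exact fun a b _ _ ha hb => ⟨mul_mem ha.1 hb.1, hθ.mul _ ha.1 _ hb.1 ▸ mul_mem ha.2 hb.2⟩
    · exact fun a _ ha => ⟨inv_mem ha.1, hθ.inv ha.1 ▸ inv_mem ha.2⟩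
  refine ⟨fun h => ?_, fun h => h1 h⟩
  obtain ⟨z, hz, e⟩ := (((Set.toFinite _).injOn_iff_bijOn_of_mapsTo h1).1
    (hθ.bij.2.1.mono (commutator_le_self R))).2.2 h
  exact hθ.bij.2.1 (commutator_le_self R hz) hu e ▸ hz

theorem Cd.exists_Θ [Finite (Om Q)] (c : Cd H R Z) (hθ : AutOn R θ) :
    ∃ Θ : (Fin m → framePerp Q b f) ≃+ (Fin m → framePerp Q b f),
      ∀ u ∈ R, ψ H (θ u) = Θ (ψ H u) := by
  choose s s1 s2 using c.on
  have key : ∀ u ∈ R, ∀ v ∈ R, ψ H (θ u) = ψ H (θ v) ↔ ψ H u = ψ H v := fun u hu v hv => by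
    rw [← c.eq_iff hu hv, ← c.eq_iff (hθ.bij.1 hu) (hθ.bij.1 hv), ← hθ.inv hv,
      ← hθ.mul _ hu _ (inv_mem hv), ← c.zq, mem_comm hθ (mul_mem hu (inv_mem hv))]
  refine ⟨AddEquiv.ofBijective (AddMonoidHom.mk' (fun a => ψ H (θ (s a))) fun a a' => ?_)
    ⟨fun a a' e => ?_, fun a => ?_⟩, fun u hu => (key _ hu _ (s1 _)).2 (s2 _).symm⟩
  · rw [← ψ_mul H (c.le (hθ.bij.1 (s1 a))) (c.le (hθ.bij.1 (s1 a'))), ← hθ.mul _ (s1 a) _ (s1 a'),
      key _ (s1 _) _ (mul_mem (s1 a) (s1 a')), ψ_mul H (c.le (s1 a)) (c.le (s1 a')), s2, s2, s2]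
  · rw [← s2 a, ← s2 a']; exact (key _ (s1 a) _ (s1 a')).1 e
  · obtain ⟨u, hu, e⟩ := hθ.bij.2.2 (s1 a)
    exact ⟨ψ H u, ((key _ (s1 _) _ hu).2 (s2 _)).trans (by rw [e, s2])⟩

end H1.SOE
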