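import Cfsg.Agent.H1.SOEa
import Mathlib.LinearAlgebra.Matrix.Transvection
import Mathlib.LinearAlgebra.Matrix.ToLinearEquiv

/-! STD-O tower, job FE, part 2: additive maps of `N ^ m` given by scalar matrices. -/

set_option autoImplicit false
set_option linter.unusedSectionVars false

namespace H1.SOE

open H64.SG (Cz Cs Ns mem_Cs mem_Cz)
open H67.SA (cm cm_eq_one)
open H59.SO H46.SOG H56 H58 QuadraticMap Module Subgroup

section Abs

variable {F N : Type} [Field F] [CharP F 2] [AddCommGroup N] [Module F N]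
  {q : QuadraticForm F N} {x y w a : N} {m : ℕ}

theorem mat_of (Θ : (Fin m → N) →+ (Fin m → N))
    (h : ∀ i j, ∃ c : F, ∀ a, Θ (Pi.single j a) i = c • a) :
    ∃ M : Matrix (Fin m) (Fin m) F, ∀ a i, Θ a i = ∑ j, M i j • a j := by
  choose M hM using h
  refine ⟨M, fun a i => ?_⟩
  conv_lhs => rw [← Finset.univ_sum_single a]
  simp [hM]

theorem det_ne (Θ : (Fin m → N) →+ (Fin m → N)) (hΘ : Function.Injective Θ) (hx : x ≠ 0)
    {M : Matrix (Fin m) (Fin m) F} (h : ∀ a i, Θ a i = ∑ j, M i j • a j) : M.det ≠ 0 := fun h0 => by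
  obtain ⟨v, h1, h2⟩ := Matrix.exists_mulVec_eq_zero_iff.2 h0
  have := (injective_iff_map_eq_zero Θ).1 hΘ (fun j => v j • x) (funext fun i => by
    simp only [h, smul_smul, ← Finset.sum_smul]
    exact smul_eq_zero_of_left (congrFun h2 i) _)
  exact h1 (funext fun j => (smul_eq_zero_iff_left hx).1 (congrFun this j))

theorem Sp.mat (h : Sp q x y) (Θ : (Fin m → N) →+ (Fin m → N))
    (h1 : ∀ z, z = x ∨ z = y → ∀ w, polar q x w = 0 → polar q y w = 0 → ∀ a,
      Θ (fun i => eich q z w (a i)) = fun i => eich q z w (Θ a i)) :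
    ∃ M : Matrix (Fin m) (Fin m) F, ∀ a i, Θ a i = ∑ j, M i j • a j := by
  refine mat_of Θ fun i j => ?_
  have k : ∀ z, z = x ∨ z = y → ∀ w, polar q x w = 0 → polar q y w = 0 → ∀ a,
      Θ (Pi.single j (eich q z w a)) i = eich q z w (Θ (Pi.single j a) i) := fun z hz w w1 w2 a => by
    rw [← congrFun (h1 z hz w w1 w2 (Pi.single j a)) i]
    exact congrArg (Θ · i)
      (funext fun k => (Pi.apply_single (fun _ => eich q z w) (by simp) j a k).symm)
  exact h.schur ((Pi.evalAddMonoidHom _ i).comp (Θ.comp (AddMonoidHom.single (fun _ => N) j)))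
    (k x (.inl rfl)) (k y (.inr rfl))

theorem map_smul2 (h2 : Nat.card F = 2) (A : N →+ N) (c : F) (a : N) : A (c • a) = c • A a := by
  rcases eq_zero_or_one h2 c with rfl | rfl <;> simp

theorem Sp.eq_eich (h : Sp q x y) (h2 : Nat.card F = 2) (A : N →+ N)
    (hB : ∀ a b, polar q (A a) (A b) = polar q a b) (hQ : ∀ a, q (A a) = q a) (hx : A x = x)
    (hw : ∀ w, polar q x w = 0 → polar q y w = 0 → ∃ t : F, A w = w + t • x) :
    ∃ w, polar q x w = 0 ∧ polar q y w = 0 ∧ ∀ a, A a = eich q x w a := by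
  obtain ⟨v, v1, v2, e⟩ := h.dec (A y)
  have e1 : polar q x (A y) = 1 := by rw [← h.xy, ← hB x y, hx]
  rw [e1, one_smul] at e
  generalize polar q y (A y) = s at e
  have e2 : s = q v := by
    have := hQ y
    rw [e, H56.Q_add, H56.Q_add] at this
    simp only [H56.Q_smul, h.qx, h.qy, polar_add_left, polar_smul_left, h.xy, v1, v2, smul_eq_mul] at this
    linear_combination this - q v * (CharTwo.two_eq_zero : (2 : F) = 0)
  refine ⟨v, v1, v2, fun a => ?_⟩
  obtain ⟨w, w1, w2, e3⟩ := h.dec a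
  obtain ⟨t, ht⟩ := hw w w1 w2
  have e4 : t = polar q v w := by
    have := hB y w
    rw [e, ht] at this
    simp only [polar_add_left, polar_add_right, polar_smul_left, polar_smul_right, h.yx, w1, w2,
      polar_comm q v x, v1, polar_self2, smul_eq_mul] at this
    linear_combination this - polar q v w * (CharTwo.two_eq_zero : (2 : F) = 0)
  generalize polar q y a = c, polar q x a = d at e3
  rw [e3]
  simp only [map_add A, map_smul2 h2, hx, ht, e, eap h.qx v1, e2, e4, polar_comm q v x,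
    polar_comm q v y, v1, v2, w1, h.xy, polar_self2, polar_add_right, polar_smul_right, smul_eq_mul]
  module

variable (q) in
/-- the commutator form -/
def K (a b : Fin m → N) (i j : Fin m) : F := polar q (a i) (b j) - polar q (b i) (a j)

theorem K_swap (a b : Fin m → N) : K q b a = -K q a b := by ext i j; simp [K]

theorem adj (nd : q.polarBilin.Nondegenerate) (S T : (Fin 3 → N) →+ (Fin 3 → N))
    (h : ∀ a b, K q (S a) b = K q a (T b)) : ∃ S0 : N →+ N, ∀ a i, S a i = S0 (a i) := by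
  have t3 : ∀ j k : Fin 3, ∃ i, i ≠ j ∧ i ≠ k := by decide
  have d : ∀ S T : (Fin 3 → N) →+ (Fin 3 → N), (∀ a b, K q (S a) b = K q a (T b)) →
      ∀ j k w, k ≠ j → T (Pi.single j w) k = 0 := fun S T h j k w hk =>
    eq_zero_of_polar nd fun y => by
      obtain ⟨i, h1, h2⟩ := t3 j k
      have := congrFun₂ (h (Pi.single i y) (Pi.single j w)) i k
      simpa [K, hk, h1, h2.symm, polar_comm q y] using this.symm
  have d1 := d T S fun a b => by rw [K_swap, ← h, ← K_swap]
  have e : ∀ i j y w, i ≠ j →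
      polar q (S (Pi.single i y) i) w = polar q y (T (Pi.single j w) j) := fun i j y w hij => by
    simpa [K, hij, hij.symm] using congrFun₂ (h (Pi.single i y) (Pi.single j w)) i j
  refine ⟨(Pi.evalAddMonoidHom _ 0).comp (S.comp (AddMonoidHom.single (fun _ => N) 0)), fun a i => ?_⟩
  obtain ⟨j, h1, h2⟩ := t3 i 0
  change _ = S (Pi.single 0 (a i)) 0
  conv_lhs => rw [← Finset.univ_sum_single a, map_sum, Finset.sum_apply,
    Finset.sum_eq_single i (fun k _ hk => d1 k i _ hk.symm) (by simp)]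
  exact sub_eq_zero.1 (eq_zero_of_polar nd fun w => by
    rw [polar_sub_left, e _ j _ _ h1.symm, e _ j _ _ h2.symm, sub_self])

theorem conj_mat (nd : q.polarBilin.Nondegenerate) (h2 : Nat.card F = 2) (hx : x ≠ 0)
    (Θ : (Fin 3 → N) ≃+ (Fin 3 → N))
    (hΘ : ∀ a b a' b', K q (Θ a) (Θ b) = K q (Θ a') (Θ b') → K q a b = K q a' b')
    (X : (Fin 3 → N) →+ (Fin 3 → N)) (c : Fin 3 → Fin 3 → F) (hX : ∀ a i, X a i = ∑ j, c i j • a j) :
    ∃ M : Matrix (Fin 3) (Fin 3) F, ∀ a i, Θ (X (Θ.symm a)) i = ∑ j, M i j • a j := by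
  obtain ⟨y, hy⟩ := H56.exists_polar_eq_one nd hx
  let S : N → N → (Fin 3 → N) →+ (Fin 3 → N) := fun u v =>
    AddMonoidHom.mk' (fun a i => polar q u (a i) • v) fun a b => by ext i; simp [add_smul]
  have k : ∀ v a, Θ (X (Θ.symm (S x v a))) = S x v (Θ (X (Θ.symm a))) := fun v a => by
    obtain ⟨S0, h0⟩ := adj nd ((Θ.symm : _ →+ _).comp ((S x v).comp Θ))
      ((Θ.symm : _ →+ _).comp ((S v x).comp Θ)) fun a b => hΘ _ _ _ _ (by
        ext i j
        simp [K, S, polar_comm q _ v, polar_comm q _ x, mul_comm])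
    replace h0 : ∀ a i, Θ.symm (S x v (Θ a)) i = S0 (a i) := h0
    obtain ⟨a, rfl⟩ := Θ.surjective a
    rw [← Θ.apply_symm_apply (S x v (Θ (X _)))]
    congr 1
    ext i
    simp [hX, h0, map_smul2 h2]
  refine mat_of (F := F) (Θ.toAddMonoidHom.comp (X.comp Θ.symm.toAddMonoidHom)) fun i j =>
    ⟨polar q x (Θ (X (Θ.symm (Pi.single j y))) i), fun v => ?_⟩
  have e : S x v (Pi.single j y) = Pi.single j v := by
    ext k
    by_cases h : k = j <;> simp [S, h, hy]
  exact (congrArg (fun a => Θ (X (Θ.symm a)) i) e.symm).trans (congrFun (k v _) i)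

end Abs

variable {F V : Type} [Field F] [Finite F] [CharP F 2] [AddCommGroup V] [Module F V]
  [FiniteDimensional F V] {Q : QuadraticForm F V} {m : ℕ} {b f : Fin m → V}
  (H : IsHypFrame Q b f)

include H in
theorem realise (G : Subgroup (Om Q)) (h1 : ∀ i j (c : F), i ≠ j → E Q (b i) (c • f j) ∈ G)
    (h2 : ∀ D : Fin m → F, (∀ i, D i ≠ 0) → ∃ h ∈ G, (∀ w ∈ framePerp Q b f, h.1 w = w) ∧
      ∀ j, h.1 (b j) = D j • b j) {M : Matrix (Fin m) (Fin m) F} (hM : M.det ≠ 0) :
    ∃ h ∈ G, (∀ w ∈ framePerp Q b f, h.1 w = w) ∧ ∀ j, h.1 (b j) = ∑ i, M i j • b i := by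
  refine Matrix.diagonal_transvection_induction_of_det_ne_zero (fun M => ∃ h ∈ G,
    (∀ w ∈ framePerp Q b f, h.1 w = w) ∧ ∀ j, h.1 (b j) = ∑ i, M i j • b i) M hM (fun D hD => ?_)
    (fun t => ⟨_, h1 _ _ t.c t.hij, fun w hw => E_fix (hw _).1 (by simp [(hw _).2]), fun k => ?_⟩) ?_
  · obtain ⟨h, k1, k2, k3⟩ := h2 D fun i => by
      rw [Matrix.det_diagonal] at hD
      exact Finset.prod_ne_zero_iff.1 hD i (Finset.mem_univ _)
    exact ⟨h, k1, k2, fun j => by simp [k3, Matrix.diagonal_apply]⟩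
  · rw [E_apply_orth (H.qe _) (by simp [H.ef, t.hij]) (H.ee ..)]
    by_cases h : t.j = k <;>
      simp [Matrix.TransvectionStruct.toMatrix, Matrix.transvection, add_smul, Finset.sum_add_distrib,
        Matrix.one_apply, Matrix.single_apply, H.fe, h, eq_comm]
  · rintro A B - - ⟨g, g1, g2, g3⟩ ⟨h, k1, k2, k3⟩
    refine ⟨g * h, mul_mem g1 k1, fun w hw => by rw [mul_ap, k2 w hw, g2 w hw], fun j => ?_⟩
    simp only [mul_ap, k3, map_sum, map_smul, g3, Finset.smul_sum, smul_smul, Matrix.mul_apply,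
      Finset.sum_smul]
    rw [Finset.sum_comm]
    simp only [mul_comm]

theorem ψ_real {h u : Om Q} {M : Matrix (Fin m) (Fin m) F} (h1 : ∀ w ∈ framePerp Q b f, h.1 w = w)
    (h2 : ∀ j, h.1 (b j) = ∑ i, M i j • b i) (hu : u ∈ TT Q b f) (i : Fin m) :
    ψ H (h * u * h⁻¹) i = ∑ j, M i j • ψ H u j := by
  rw [ψ_conj H (fun j => by simp [h2, pr_b H]) hu]
  refine Finset.sum_congr rfl fun j _ => ?_
  rw [act_of_fix H (h1 _ (ψ H u j).2), h2]
  simp [polar_sum_left, H.ef]

end H1.SOE
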