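import Cfsg.Agent.H1.SA5

/-! STD-A tower, job P2a: the translations of `t Z`. -/

set_option autoImplicit false

namespace H1.SP2

open H64.SG (O2 Cz Cs Ns cjs Is2 mem_Cs mem_Cz is2_of_sq)
open Matrix H57 Subgroup H67.SA H1.SA5

universe u

variable {n : ℕ} {F : Type} [Field F] [Finite F] [CharP F 2] {G : Type u} [Group G]
  {e : SLn n F →* G} {t g y s s' k k' : G} {u u' v : SLn n F} {E : Subgroup (SLn n F)}

/-- `s` projects to `u`. -/
def Pj (e : SLn n F →* G) (t s : G) (u : SLn n F) : Prop := s = e u ∨ s = t * e u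

/-- the projection of `B` inside `W` -/
def prj (h : B1 e t) (W : Subgroup (SLn n F)) (B : Subgroup G) : Subgroup (SLn n F) where
  carrier := {u | u ∈ W ∧ ∃ s ∈ B, Pj e t s u}
  one_mem' := ⟨W.one_mem, 1, B.one_mem, Or.inl (map_one e).symm⟩
  mul_mem' := by
    rintro u v ⟨hu, s, hs, h1⟩ ⟨hv, s', hs', h2⟩
    refine ⟨W.mul_mem hu hv, s * s', B.mul_mem hs hs', ?_⟩
    rw [Pj, map_mul]
    rcases h1 with rfl | rfl <;> rcases h2 with rfl | rfl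
    · exact Or.inl rfl
    · exact Or.inr (by rw [← mul_assoc, ← h.comm, mul_assoc])
    · exact Or.inr (mul_assoc _ _ _)
    · exact Or.inl (by rw [mul_assoc, ← mul_assoc (e u), ← h.comm, mul_assoc, ← mul_assoc t,
        h.inv.1, one_mul])
  inv_mem' := by
    rintro u ⟨hu, s, hs, h1⟩
    refine ⟨W.inv_mem hu, s⁻¹, B.inv_mem hs, ?_⟩
    rcases h1 with rfl | rfl
    · exact Or.inl (map_inv e u).symm
    · exact Or.inr (by rw [_root_.mul_inv_rev, h.inv_eq, ← map_inv, h.comm])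

section Basic

omit [Finite F] [CharP F 2]

theorem Pj.conj_e (h : B1 e t) (h1 : Pj e t s u) (v : SLn n F) :
    s * e v * s⁻¹ = e (u * v * u⁻¹) := by
  rcases h1 with rfl | rfl
  · rw [map_mul, map_mul, map_inv]
  · rw [← h.conj_eq (u * v * u⁻¹), map_mul, map_mul, map_inv]
    group

theorem Pj.conj_t (h : B1 e t) (h1 : Pj e t s u) : s * t * s⁻¹ = t := by
  rcases h1 with rfl | rfl
  · exact h.conj_t u
  · rw [mul_assoc t, ← h.comm]
    group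

theorem Pj.conj (h : B1 e t) (h1 : Pj e t s u) (h2 : Pj e t s' u') :
    Pj e t (s * s' * s⁻¹) (u * u' * u⁻¹) := by
  rcases h2 with rfl | rfl
  · exact Or.inl (h1.conj_e h u')
  · exact Or.inr (by rw [← conj_mul, h1.conj_e h, h1.conj_t h])

theorem Pj.cm (h : B1 e t) (h1 : Pj e t s u) (h2 : Pj e t s' u') : cm s s' = e (cm u u') := by
  unfold H67.SA.cm
  rcases h2 with rfl | rfl
  · rw [h1.conj_e h, ← map_inv, ← map_mul]
  · rw [← conj_mul, h1.conj_e h, h1.conj_t h, mul_assoc, h.comm u', _root_.mul_inv_rev,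
      ← mul_assoc, ← mul_assoc, h.comm, mul_assoc _ t, mul_inv_cancel, mul_one, ← map_inv, ← map_mul]

theorem mem_S0 (h : B1 e t) {W : Subgroup (SLn n F)} :
    s ∈ W.map e ⊔ zpowers t ↔ ∃ u ∈ W, Pj e t s u := by
  constructor
  · intro hs
    obtain ⟨_, ⟨u, hu, rfl⟩, _, ⟨m, rfl⟩, rfl⟩ := (H98.mem_sup_right_norm (zpowers_le.2
      (centralizer_le_normalizer _ (Cs_range_le W h.cen)))).1 hs
    refine ⟨u, hu, ?_⟩
    have h2 : t ^ (2 : ℤ) = 1 := by rw [zpow_two, h.inv.1]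
    rcases Int.even_or_odd' m with ⟨j, rfl | rfl⟩
    · exact Or.inl (by simp only [_root_.zpow_mul, h2, _root_.one_zpow, mul_one])
    · exact Or.inr (by
        simp only [_root_.zpow_mul, _root_.zpow_add, h2, _root_.one_zpow, one_mul, zpow_one, h.comm])
  · rintro ⟨u, hu, rfl | rfl⟩
    · exact mem_sup_left ⟨u, hu, rfl⟩
    · exact mul_mem (mem_sup_right (mem_zpowers t)) (mem_sup_left ⟨u, hu, rfl⟩)

theorem sub_mul_Row {i : Fin (n + 1)} (hu : u ∈ Row n F i) (hv : v ∈ Row n F i) :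
    (u.1 - 1) * (v.1 - 1) = 0 := by
  rw [mem_Row] at hu hv
  ext a b
  rw [mul_apply, Matrix.zero_apply]
  refine Finset.sum_eq_zero fun m _ => ?_
  by_cases hm : m = i
  · by_cases ha : a = m
    · simp [ha, hu.1]
    · simp [ha, hu.2 a m ha (hm ▸ ha)]
  · by_cases hb : m = b
    · simp [hb, hv.1]
    · simp [hb, hv.2 m b hb hm]

theorem sub_mul_Col {i : Fin (n + 1)} (hu : u ∈ Col n F i) (hv : v ∈ Col n F i) :
    (u.1 - 1) * (v.1 - 1) = 0 := by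
  rw [mem_Col] at hu hv
  ext a b
  rw [mul_apply, Matrix.zero_apply]
  refine Finset.sum_eq_zero fun m _ => ?_
  by_cases hm : m = i
  · by_cases hb : m = b
    · simp [hb, hv.1]
    · simp [hb, hv.2 m b hb (hm ▸ Ne.symm hb)]
  · by_cases ha : a = m
    · simp [ha, hu.1]
    · simp [ha, hu.2 a m ha hm]

end Basic

/-- `E` is the first row or the last column. -/
def RC (E : Subgroup (SLn n F)) : Prop := E = Er n F ∨ E = Ec n F

omit [Finite F] [CharP F 2] in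
theorem RC.le (hE : RC E) : E ≤ QQ n F := by
  rcases hE with rfl | rfl
  exacts [Er_le_QQ, Ec_le_QQ]

omit [Finite F] in
theorem RC.sq (hE : RC E) (hu : u ∈ E) : u * u = 1 := by
  rcases hE with rfl | rfl
  exacts [sq_Row hu, sq_Col hu]

omit [Finite F] in
theorem RC.isP (hE : RC E) : IsPGroup 2 E :=
  H64.SG.isPGroup_iff_is2.2 fun _ hu => is2_of_sq (hE.sq hu)

omit [Finite F] [CharP F 2] in
theorem RC.comm (hE : RC E) : E ≤ Cs E := by
  rcases hE with rfl | rfl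
  exacts [Row_le_Cs _, Col_le_Cs _]

omit [CharP F 2] in
theorem RC.card (hE : RC E) : Nat.card E = Nat.card F ^ n := by
  rcases hE with rfl | rfl
  exacts [card_Er, card_Ec]

omit [CharP F 2] in
theorem RC.nor (hE : RC E) : P00 n F ≤ Ns E := by
  rcases hE with rfl | rfl
  exacts [P00_le_Pr.trans Pr_le_Ns, P00_le_Pc.trans Pc_le_Ns]

omit [CharP F 2] in
theorem RC.tr (fc : FC n F) (hn : 2 ≤ n) (hE : RC E) (hv : v ∈ E) (h1 : v ≠ 1) {c : F}
    (hc : c ≠ 0) : ∃ p ∈ Ns E, p * x 0 (la n) c * p⁻¹ = v := by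
  have h2 : x 0 (la n) c ≠ 1 := fun e => hc ((x_eq_one (zero_ne_la (by omega))).1 e)
  rcases hE with rfl | rfl
  · obtain ⟨p, hp, e⟩ := fc.trr _ (ZZ_le_Er (x_mem_ZZ c)) v hv h2 h1
    exact ⟨p, Pr_le_Ns hp, e⟩
  · obtain ⟨p, hp, e⟩ := fc.trc _ (ZZ_le_Ec (x_mem_ZZ c)) v hv h2 h1
    exact ⟨p, Pc_le_Ns hp, e⟩

omit [Finite F] in
theorem RC.sc (hE : RC E) (hu : u ∈ E) (hv : v ∈ Ns E) (c : F) :
    sc c u ∈ E ∧ cm (sc c u) v = sc c (cm u v) := by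
  have h1 : v * u * v⁻¹ ∈ E := (mem_normalizer_iff.1 hv u).1 hu
  have h2 := hE.sq hu
  refine ⟨?_, ?_⟩
  · rcases hE with rfl | rfl
    exacts [sc_mem (uni_Row _) h2 hu c, sc_mem (uni_Col _) h2 hu c]
  · have h3 : (u.1 - 1) * ((v * u * v⁻¹).1 - 1) = 0 := by
      rcases hE with rfl | rfl
      exacts [sub_mul_Row hu h1, sub_mul_Col hu h1]
    unfold H67.SA.cm
    rw [inv_eq_of_mul_eq_one_right (sc_sq h2 c), inv_eq_of_mul_eq_one_right h2, mul_assoc,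
      mul_assoc, ← mul_assoc v, sc_conj h2, ← sc_mul h2 (hE.sq h1) h3 (hE.comm h1 u hu),
      mul_assoc u, mul_assoc u]

omit [CharP F 2] in
theorem cm_QQ (hv : v ∈ QQ n F) (hu : u ∈ QQ n F) : cm v u ∈ ZZ n F := by
  have hQ : QQ n F ≤ P00 n F := QQ_le_UU.trans UU_le_P00
  have hZ : ∀ {E}, RC E → E ≤ Ns (ZZ n F) := fun hE =>
    (hE.le.trans hQ).trans (P00_le_Cs.trans (H64.SG.Cs_le_Ns _))
  have r1 : RC (Er n F) := Or.inl rfl
  have r2 : RC (Ec n F) := Or.inr rfl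
  have h0 : ∀ {E}, RC E → ⁅E, E⁆ ≤ ZZ n F := fun hE =>
    (commutator_eq_bot_iff_le_centralizer.2 hE.comm).le.trans bot_le
  have h1 : ⁅Er n F, Ec n F⁆ ≤ ZZ n F := Er_inf_Ec (n := n) (F := F) ▸ le_inf
    (H98.commutator_le_left' ((r2.le.trans hQ).trans r1.nor))
    (H98.commutator_le_right' ((r1.le.trans hQ).trans r2.nor))
  exact H98.commutator_sup_left_le (hZ r1) (hZ r2)
    (H98.commutator_sup_right_le (hZ r1) (hZ r2) (h0 r1) h1)
    (H98.commutator_sup_right_le (hZ r1) (hZ r2) ((Subgroup.commutator_comm _ _).le.trans h1) (h0 r2))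
    (commutator_mem_commutator hv hu)

/-- scaling of the commutator form on `Q` -/
theorem exists_scale (hn : 1 ≤ n) {ζ : SLn n F} (hζ : ζ ∈ QQ n F) (l : F) : ∃ ξ ∈ QQ n F,
    ∀ u ∈ QQ n F, ∀ c, x 0 (la n) c = cm ζ u → x 0 (la n) (l * c) = cm ξ u := by
  have hQ : QQ n F ≤ P00 n F := QQ_le_UU.trans UU_le_P00
  have r1 : RC (Er n F) := Or.inl rfl
  have r2 : RC (Ec n F) := Or.inr rfl
  obtain ⟨r, hr, w, hw, rfl⟩ := (H98.mem_sup_right_norm ((Ec_le_QQ.trans hQ).trans r1.nor)).1 hζ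
  refine ⟨sc l r * sc l w, mul_mem (Er_le_QQ (r1.sc hr (one_mem _) l).1)
    (Ec_le_QQ (r2.sc hw (one_mem _) l).1), fun u hu c hc => ?_⟩
  have key : ∀ v ∈ QQ n F, ∃ c, cm v u = x 0 (la n) c := fun v hv => mem_ZZ.1 (cm_QQ hv hu)
  have mul : ∀ a ∈ QQ n F, ∀ b ∈ QQ n F, cm (a * b) u = cm a u * cm b u := fun a ha b hb => by
    obtain ⟨c, hc⟩ := key b hb
    have := P00_le_Cs (hQ ha) _ (x_mem_ZZ c)
    have h2 := P00_le_Cs (hQ (mul_mem (mul_mem (mul_mem ha hu) (inv_mem ha)) (inv_mem hu))) _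
      (x_mem_ZZ c)
    rw [← hc] at this h2
    calc cm (a * b) u = a * cm b u * a⁻¹ * cm a u := by unfold H67.SA.cm; group
      _ = _ := by rw [← this, mul_inv_cancel_right, h2]
  obtain ⟨c1, h1⟩ := key r (Er_le_QQ hr)
  obtain ⟨c2, h2⟩ := key w (Ec_le_QQ hw)
  rw [mul r (Er_le_QQ hr) w (Ec_le_QQ hw), h1, h2, ← x_add] at hc
  rw [mul _ (Er_le_QQ (r1.sc hr (one_mem _) l).1) _ (Ec_le_QQ (r2.sc hw (one_mem _) l).1),
    (r1.sc hr (r1.nor (hQ hu)) l).2, (r2.sc hw (r2.nor (hQ hu)) l).2, h1, h2, sc_x, sc_x, ← x_add,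
    ← mul_add, x_inj (zero_ne_la hn) hc]

omit [CharP F 2] in
theorem hd_Ns (d : Fin (n + 1) → Fˣ) (h : ∏ i, d i = 1)
    (S : Fin (n + 1) → Fin (n + 1) → Prop) : hd d h ∈ Ns (Pat n F S) :=
  conj_mem_St.1 (mem_St_Pat fun i j _ hs c => by
    rw [MulAut.conj_apply, hd_conj]
    exact x_mem_Pat hs _)

omit [CharP F 2] in
/-- a torus element multiplying `Z` by `l` -/
theorem exists_tor (hn : 2 ≤ n) {l : F} (hl : l ≠ 0) : ∃ p : SLn n F, p ∈ Ns (Er n F) ∧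
    p ∈ Ns (Ec n F) ∧ p ∈ Ns (QQ n F) ∧ ∀ c, p * x 0 (la n) c * p⁻¹ = x 0 (la n) (l * c) := by
  have h1 : (0 : Fin (n + 1)) ≠ ⟨1, by omega⟩ := by simp [Fin.ext_iff]
  have h2 : la n ≠ ⟨1, by omega⟩ := by simp [Fin.ext_iff]; omega
  refine ⟨hd _ (prod_hh h1 (Units.mk0 l hl)), hd_Ns _ _ _, hd_Ns _ _ _, QQ_eq (n := n) (F := F) ▸
    hd_Ns _ _ _, fun c => ?_⟩
  rw [hd_conj]
  simp [h2, (zero_ne_la (by omega : 1 ≤ n)).symm]

theorem exists_th (hk : e.ker ≤ center (SLn n F)) (h1 : y ∈ Ns ((Er n F).map e))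
    (h2 : y ∈ Ns ((Ec n F).map e)) :
    ∃ θ, QA n F θ ∧ ∀ u ∈ QQ n F, y * e u * y⁻¹ = e (θ u) := by
  have h3 : y ∈ Ns ((QQ n F).map e) := by
    rw [QQ, Subgroup.map_sup]
    exact H98.le_normalizer_sup (zpowers_le.2 h1) (zpowers_le.2 h2) (mem_zpowers y)
  have i2 : ∀ u ∈ QQ n F, Is2 u := fun u hu => is2_of_UU (QQ_le_UU hu)
  have : ∀ u, ∃ v, u ∈ QQ n F → v ∈ QQ n F ∧ y * e u * y⁻¹ = e v := fun u => by
    by_cases hu : u ∈ QQ n F
    · obtain ⟨v, hv, e1⟩ := (mem_normalizer_iff.1 h3 _).1 ⟨u, hu, rfl⟩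
      exact ⟨v, fun _ => ⟨hv, e1.symm⟩⟩
    · exact ⟨1, fun h => (hu h).elim⟩
  choose θ hθ using this
  have hE : ∀ {E}, RC E → y ∈ Ns (E.map e) → ∀ a ∈ E, θ a ∈ E := fun hE h a ha =>
    (mem_map2 hk hE.isP (i2 _ (hθ a (hE.le ha)).1)).1
      ((hθ a (hE.le ha)).2 ▸ (mem_normalizer_iff.1 h _).1 ⟨a, ha, rfl⟩)
  refine ⟨θ, ⟨⟨fun u hu => (hθ u hu).1, fun u hu v hv e1 => inj2 hk (i2 u hu) (i2 v hv) ?_,
    fun v hv => ?_⟩, fun a ha b hb => inj2 hk (i2 _ (hθ _ (mul_mem ha hb)).1)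
      (i2 _ (mul_mem (hθ a ha).1 (hθ b hb).1)) ?_, hE (Or.inl rfl) h1, hE (Or.inr rfl) h2⟩,
    fun u hu => (hθ u hu).2⟩
  · have := (hθ u hu).2
    rw [e1, ← (hθ v hv).2] at this
    simpa using this
  · obtain ⟨u, hu, e1⟩ := (mem_normalizer_iff.1 (inv_mem h3) _).1 ⟨v, hv, rfl⟩
    refine ⟨u, hu, inj2 hk (i2 _ (hθ u hu).1) (i2 v hv) ?_⟩
    rw [← (hθ u hu).2, e1]
    group
  · rw [← (hθ _ (mul_mem ha hb)).2, map_mul, map_mul, ← (hθ a ha).2, ← (hθ b hb).2, conj_mul]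

/-- `y` normalises `e Z` and `t e Z`. -/
structure NV (e : SLn n F →* G) (t y : G) : Prop where
  t : ∃ c, y * t * y⁻¹ = t * e (x 0 (la n) c)
  z : ∀ c, ∃ c', y * e (x 0 (la n) c) * y⁻¹ = e (x 0 (la n) c')

section Main

variable (fa : FA n F) (fc : FC n F) (hn : 2 ≤ n) (h : CH e t)
include fc hn h

omit [CharP F 2] in
theorem not_T (hE : RC E) (hv : v ∈ E) : ¬ IsConj t (e v) := by
  by_cases h1 : v = 1
  · rw [h1, map_one, isConj_one_left]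
    exact h.inv.2
  · obtain ⟨p, -, rfl⟩ := hE.tr fc hn hv h1 one_ne_zero
    exact h.nr _ ⟨p, 1, one_ne_zero, rfl⟩

omit [CharP F 2] in
theorem in_T (hE : RC E) (hv : v ∈ E) : IsConj t (t * e v) := by
  by_cases h1 : v = 1
  · rw [h1, map_one, mul_one]
  · obtain ⟨g, -, c, hc, e1⟩ := h.mv
    obtain ⟨p, -, rfl⟩ := hE.tr fc hn hv h1 hc
    refine isConj_iff.2 ⟨e p * g, ?_⟩
    calc e p * g * t * (e p * g)⁻¹ = e p * (g * t * g⁻¹) * (e p)⁻¹ := by group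
      _ = _ := by rw [e1, ← conj_mul, h.conj_t p, map_mul, map_mul, map_inv]

include fa

omit fc in
theorem odd_nor (hE : RC E) (h1 : y ∈ Cz t) (h2 : ∀ c, y * e (x 0 (la n) c) = e (x 0 (la n) c) * y)
    (h3 : Odd (orderOf y)) : y ∈ Ns (E.map e) := by
  obtain ⟨β, hβ⟩ := exists_ind hn h.ker (h.cz h1)
  have hZ : β ∈ St (ZZ n F) := mem_St_of_finite fun z hz => by
    obtain ⟨c, rfl⟩ := mem_ZZ.1 hz
    rwa [(hβ.comm_iff h.ker (is2_of_sq (x_mul_self _ _ c))).1 (h2 c)]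
  obtain ⟨m, hm⟩ := hβ.odd hn h.ker h3
  have e1 : (out n F β).2 = 1 := by
    have := congrArg (fun a => (out n F a).2) (pow_orderOf_eq_one β)
    simp only [map_pow, map_one, Prod.pow_snd, Prod.snd_one] at this
    rwa [hm, pow_succ, pow_mul, pow_two, z2_mul_self, one_pow, one_mul] at this
  obtain ⟨-, h4, h5⟩ := ((fa.nz β hZ).2).resolve_right fun r => r.1 e1
  rcases hE with rfl | rfl
  exacts [hβ.mem_Ns_map h4, hβ.mem_Ns_map h5]

theorem perm [Finite G] (hE : RC E) (hy : NV e t y)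
    (hB : ∀ s ∈ cjs y (E.map e), ∃ u ∈ QQ n F, Pj e t s u) :
    ∃ E', RC E' ∧ cjs y (E.map e) = E'.map e := by
  set B := cjs y (E.map e) with hBd
  have hT : ∀ s ∈ B, ¬ IsConj t s := by
    rintro _ ⟨_, ⟨v, hv, rfl⟩, rfl⟩ hc
    exact not_T fc hn h hE hv (hc.trans (isConj_iff.2 ⟨y, rfl⟩).symm)
  have hsq : ∀ s ∈ B, s * s = 1 := by
    rintro _ ⟨_, ⟨v, hv, rfl⟩, rfl⟩
    rw [← map_mul, ← map_mul, hE.sq hv, map_one, map_one]
  have hcard : Nat.card B = Nat.card F ^ n := by rw [card_cjs, card_map2 h.ker hE.isP, hE.card]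
  have hE' : RC (prj h.toB1 (QQ n F) B) := by
    refine fc.li _ (fun u hu => hu.1) ?_ ?_ (closure_le _ |>.2 fun o ho => ?_)
    · rintro u ⟨hu, s, hs, h1⟩
      refine sq_of_e h.ker (is2_of_UU (QQ_le_UU hu)) ?_
      have := hsq s hs
      rcases h1 with rfl | rfl
      · exact this
      · rwa [mul_assoc, ← mul_assoc (e u), ← h.comm, mul_assoc, ← mul_assoc t, h.inv.1,
          one_mul] at this
    · choose f f1 f2 using hB
      rw [← hcard]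
      refine Nat.card_le_card_of_injective
        (fun s : B => (⟨f s s.2, f1 s s.2, s, s.2, f2 s s.2⟩ : prj h.toB1 (QQ n F) B))
        fun a b hab => Subtype.ext ?_
      have e1 : f a a.2 = f b b.2 := congrArg Subtype.val hab
      have ht : ∀ a b : B, (a : G) ≠ t * b := fun a b e2 =>
        hT _ (mul_mem a.2 (inv_mem b.2)) (by rw [e2, mul_inv_cancel_right])
      rcases f2 a a.2 with e2 | e2 <;> rcases f2 b b.2 with e3 | e3
      · rw [e2, e3, e1]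
      · exact (ht b a (by rw [e3, e2, e1])).elim
      · exact (ht a b (by rw [e3, e2, e1])).elim
      · rw [e2, e3, e1]
    · obtain ⟨ho, hodd⟩ := ho
      have hz : ∀ c, e o * e (x 0 (la n) c) = e (x 0 (la n) c) * e o := fun c => by
        rw [← map_mul, ← map_mul, ho _ (x_mem_ZZ c)]
      have h1 : y⁻¹ * e o * y ∈ Ns (E.map e) := by
        refine odd_nor fa hn h hE (mem_Cz.2 ?_) (fun c => ?_) ?_
        · obtain ⟨c, hc⟩ := hy.t
          calc t * (y⁻¹ * e o * y) = y⁻¹ * (y * t * y⁻¹ * e o) * y := by group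
            _ = y⁻¹ * (e o * (y * t * y⁻¹)) * y := by
              rw [hc, mul_assoc t, ← hz, ← mul_assoc t, h.comm, mul_assoc (e o)]
            _ = _ := by group
        · obtain ⟨c', hc⟩ := hy.z c
          calc y⁻¹ * e o * y * e (x 0 (la n) c)
              = y⁻¹ * (e o * (y * e (x 0 (la n) c) * y⁻¹)) * y := by group
            _ = _ := by rw [hc, hz, ← hc]; group
        · refine hodd.of_dvd_nat (orderOf_dvd_of_pow_eq_one ?_)
          rw [show y⁻¹ * e o * y = y⁻¹ * e o * y⁻¹⁻¹ by rw [inv_inv], conj_pow, ← map_pow,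
            pow_orderOf_eq_one, map_one, mul_one, mul_inv_cancel]
      have h2 : e o ∈ Ns B := by
        rw [hBd, ← H64.SG.cj_Ns, mem_cjs]
        exact h1
      have h3 : MulAut.conj o ∈ St (QQ n F) :=
        (fa.nz _ (conj_mem_St.2 (H64.SG.Cs_le_Ns _ ho))).1
      refine conj_mem_St.1 (mem_St_of_finite ?_)
      rintro u ⟨hu, s, hs, h4⟩
      exact ⟨(h3 u).1 hu, _, (mem_normalizer_iff.1 h2 s).1 hs, Pj.conj h.toB1 (Or.inl rfl) h4⟩
  refine ⟨_, hE', eq_of_le_of_card_ge (fun s hs => ?_) (by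
    rw [hcard, card_map2 h.ker hE'.isP, hE'.card])⟩
  obtain ⟨u, hu, h1⟩ := hB s hs
  have h2 : u ∈ prj h.toB1 (QQ n F) B := ⟨hu, s, hs, h1⟩
  rcases h1 with rfl | rfl
  · exact ⟨u, h2, rfl⟩
  · exact (hT _ hs (in_T fc hn h hE' h2)).elim

theorem nv_of_S0 (hy : y ∈ Ns ((UU n F).map e ⊔ zpowers t)) : NV e t y := by
  have key : ∀ s ∈ (UU n F).map e ⊔ zpowers t, (∀ w ∈ (UU n F).map e ⊔ zpowers t, w * s = s * w) →
      ∃ c, Pj e t (y * s * y⁻¹) (x 0 (la n) c) := fun s hs hc => by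
    obtain ⟨u, hu, h1⟩ := (mem_S0 h.toB1).1 ((mem_normalizer_iff.1 hy s).1 hs)
    obtain ⟨z, hz, e1⟩ := mem_cI.1 (fa.ctQ (MulAut.conj u) fun v hv => by
      have hv' := QQ_le_UU hv
      refine inj2 h.ker ((is2_of_UU hv').conj u) (is2_of_UU hv') ?_
      have := hc _ ((mem_normalizer_iff.1 (inv_mem hy) (e v)).1 (mem_sup_left ⟨v, hv', rfl⟩))
      rw [MulAut.conj_apply, ← h1.conj_e h.toB1]
      calc y * s * y⁻¹ * e v * (y * s * y⁻¹)⁻¹
          = y * (s * (y⁻¹ * e v * y⁻¹⁻¹)) * s⁻¹ * y⁻¹ := by group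
        _ = _ := by rw [← this]; group)
    obtain ⟨c, rfl⟩ := mem_ZZ.1 hz
    exact ⟨c, conj_inj (is2_of_UU hu) (is2_of_sq (x_mul_self _ _ c)) e1 ▸ h1⟩
  have r1 : RC (Er n F) := Or.inl rfl
  refine ⟨?_, fun c => ?_⟩
  · obtain ⟨c, h1 | h1⟩ := key t (mem_sup_right (mem_zpowers t)) fun w hw => by
      obtain ⟨u, -, h1⟩ := (mem_S0 h.toB1).1 hw
      exact mul_inv_eq_iff_eq_mul.1 (h1.conj_t h.toB1)
    · exact (not_T fc hn h r1 (ZZ_le_Er (x_mem_ZZ c)) (isConj_iff.2 ⟨y, h1⟩)).elim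
    · exact ⟨c, h1⟩
  · obtain ⟨c', h1 | h1⟩ := key (e (x 0 (la n) c)) (mem_sup_left ⟨_, ZZ_le_UU (x_mem_ZZ c), rfl⟩)
      fun w hw => by
        obtain ⟨u, hu, h1⟩ := (mem_S0 h.toB1).1 hw
        rw [← mul_inv_eq_iff_eq_mul, h1.conj_e h.toB1, ← UU_le_Cs hu _ (x_mem_ZZ c),
          mul_inv_cancel_right]
    · exact ⟨c', h1⟩
    · exact (not_T fc hn h r1 (ZZ_le_Er (x_mem_ZZ c))
        ((in_T fc hn h r1 (ZZ_le_Er (x_mem_ZZ c'))).trans (isConj_iff.2 ⟨y, h1⟩).symm)).elim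

omit fa h [CharP F 2] [Finite F] in
theorem RC.wit (hE : RC E) : ∃ a ∈ E, ∃ b ∈ UU n F, (∀ u ∈ UU n F, cm b u ∈ ZZ n F) ∧
    a * b ≠ b * a := by
  have key : ∀ j : Fin (n + 1), 0 < j → j < la n → x 0 j (1 : F) * x j (la n) 1 ≠
      x j (la n) 1 * x 0 j 1 := fun j h1 h2 e1 => by
    have := x_cm h1.ne h2.ne (h1.trans h2).ne (1 : F) 1
    rw [cm_eq_one.2 e1, eq_comm, x_eq_one (h1.trans h2).ne, one_mul] at this
    exact one_ne_zero this
  rcases hE with rfl | rfl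
  · have h1 : (0 : Fin (n + 1)) < ⟨1, by omega⟩ := by simp [Fin.lt_def]
    have h2 : (⟨1, by omega⟩ : Fin (n + 1)) < la n := by simp [Fin.lt_def]; omega
    refine ⟨_, x_mem_Row 0 _ 1, _, x_mem_UU h2 1, (fc.z2 _ (x_mem_UU h2 1)).2 fun i j hij hj => ?_,
      key _ h1 h2⟩
    rw [x_apply h2.ne, if_neg hij.ne, if_neg, add_zero]
    rintro ⟨rfl, rfl⟩
    simp at hj
    omega
  · have h1 : (0 : Fin (n + 1)) < ⟨n - 1, by omega⟩ := by simp [Fin.lt_def]; omega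
    have h2 : (⟨n - 1, by omega⟩ : Fin (n + 1)) < la n := by simp [Fin.lt_def]; omega
    refine ⟨_, x_mem_Col _ (la n) 1, _, x_mem_UU h1 1,
      (fc.z2 _ (x_mem_UU h1 1)).2 fun i j hij hj => ?_, (key _ h1 h2).symm⟩
    rw [x_apply h1.ne, if_neg hij.ne, if_neg, add_zero]
    rintro ⟨rfl, rfl⟩
    simp at hj
    omega

theorem perm_S0 [Finite G] (hy : y ∈ Ns ((UU n F).map e ⊔ zpowers t)) (hE : RC E) :
    ∃ E', RC E' ∧ cjs y (E.map e) = E'.map e := by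
  have hEU := hE.le.trans QQ_le_UU
  have hS : ∀ v ∈ UU n F, ∃ u ∈ UU n F, Pj e t (y * e v * y⁻¹) u := fun v hv =>
    (mem_S0 h.toB1).1 ((mem_normalizer_iff.1 hy _).1 (mem_sup_left ⟨v, hv, rfl⟩))
  have hS' : ∀ v ∈ UU n F, ∃ u ∈ UU n F, Pj e t (y⁻¹ * e v * y⁻¹⁻¹) u := fun v hv =>
    (mem_S0 h.toB1).1 ((mem_normalizer_iff.1 (inv_mem hy) _).1 (mem_sup_left ⟨v, hv, rfl⟩))
  have nv := nv_of_S0 fa fc hn h hy
  obtain ⟨a, ha, b, hb, h1, h2⟩ := hE.wit fc hn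
  obtain ⟨a', ha', h3⟩ := hS a (hEU ha)
  obtain ⟨b', hb', h4⟩ := hS b hb
  have hcj : ∀ r s : G, cm (y * r * y⁻¹) (y * s * y⁻¹) = y * cm r s * y⁻¹ := fun r s => by
    unfold H67.SA.cm; group
  have hA := fc.qc (prj h.toB1 (UU n F) (cjs y (E.map e))) (fun u hu => hu.1) (fun w hw => ?_) ?_
    a' ⟨ha', _, conj_mem_cjs.2 ⟨a, ha, rfl⟩, h3⟩ b' hb' (fun u hu => ?_) fun e1 => h2 ?_
  · refine perm fa fc hn h hE nv ?_
    rintro _ ⟨_, ⟨v, hv, rfl⟩, rfl⟩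
    obtain ⟨u, hu, h5⟩ := hS v (hEU hv)
    exact ⟨u, hA ⟨hu, _, conj_mem_cjs.2 ⟨v, hv, rfl⟩, h5⟩, h5⟩
  · refine conj_mem_St.1 (mem_St_of_finite ?_)
    rintro u ⟨hu, _, ⟨_, ⟨v, hv, rfl⟩, rfl⟩, h5⟩
    refine ⟨mul_mem (mul_mem hw hu) (inv_mem hw), _, ?_, Pj.conj h.toB1 (Or.inl rfl) h5⟩
    obtain ⟨w', hw', h6⟩ := hS' w hw
    refine mem_cjs.2 ⟨_, (mem_normalizer_iff.1 (hE.nor (UU_le_P00 hw')) v).1 hv, ?_⟩
    rw [← h6.conj_e h.toB1, MulEquiv.coe_toMonoidHom, MulAut.conj_apply]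
    group
  · rintro u ⟨hu, _, ⟨_, ⟨v, hv, rfl⟩, rfl⟩, h5⟩ u' ⟨hu', _, ⟨_, ⟨v', hv', rfl⟩, rfl⟩, h6⟩
    refine cm_eq_one.1 (eq_one2 h.ker (is2_of_UU
      (mul_mem (mul_mem (mul_mem hu' hu) (inv_mem hu')) (inv_mem hu))) ?_)
    rw [← h6.cm h.toB1 h5, MulEquiv.coe_toMonoidHom, MulAut.conj_apply, MulAut.conj_apply, hcj,
      Pj.cm h.toB1 (Or.inl rfl) (Or.inl rfl), cm_eq_one.2 (hE.comm hv v' hv'), map_one, mul_one,
      mul_inv_cancel]
  · obtain ⟨u', hu', h6⟩ := hS' u hu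
    obtain ⟨c, hc⟩ := mem_ZZ.1 (h1 u' hu')
    obtain ⟨c', hc'⟩ := nv.z c
    have e2 : e (cm b' u) = e (x 0 (la n) c') := by
      rw [← h4.cm h.toB1 (Or.inl rfl), ← hc', ← hc, ← Pj.cm h.toB1 (Or.inl rfl) h6, ← hcj]
      congr 1
      group
    rw [inj2 (a := cm b' u) h.ker (is2_of_UU
      (mul_mem (mul_mem (mul_mem hb' hu) (inv_mem hb')) (inv_mem hu)))
      (is2_of_sq (x_mul_self _ _ c')) e2]
    exact x_mem_ZZ c'
  · have e2 := h3.cm h.toB1 h4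
    rw [cm_eq_one.2 e1, map_one, hcj, Pj.cm h.toB1 (Or.inl rfl) (Or.inl rfl), conj_eq_one_iff] at e2
    exact cm_eq_one.1 (eq_one2 h.ker (is2_of_UU
      (mul_mem (mul_mem (mul_mem (hEU ha) hb) (inv_mem (hEU ha))) (inv_mem hb))) e2)

omit fa fc in
theorem Er_ne : (Er n F).map e ≠ (Ec n F).map e := fun e1 => by
  have h1 : (0 : Fin (n + 1)) ≠ ⟨1, by omega⟩ := by simp [Fin.ext_iff]
  have h2 : (⟨1, by omega⟩ : Fin (n + 1)) ≠ la n := by simp [Fin.ext_iff]; omega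
  have h3 : e (x 0 ⟨1, by omega⟩ 1) ∈ (Ec n F).map e := e1 ▸ ⟨_, x_mem_Row 0 _ 1, rfl⟩
  have := (mem_Col.1 ((mem_map2 h.ker (RC.isP (Or.inr rfl))
    (is2_of_sq (x_mul_self _ _ 1))).1 h3)).2 _ _ h1 h2
  rw [x_apply_same h1] at this
  exact one_ne_zero this

theorem exists_move [Finite G] (fb : FB n F) : ∃ y ∈ Ns ((Er n F).map e), y ∈ Ns ((Ec n F).map e) ∧
    ∃ c : F, c ≠ 0 ∧ y * t * y⁻¹ = t * e (x 0 (la n) c) := by
  obtain ⟨g, hg, c, hc, e1⟩ := h.mv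
  have r1 : RC (Er n F) := Or.inl rfl
  have r2 : RC (Ec n F) := Or.inr rfl
  have h0 : (0 : Fin (n + 1)) ≠ la n := zero_ne_la (by omega)
  obtain ⟨E1, s1, k1⟩ := perm_S0 fa fc hn h hg r1
  obtain ⟨E2, s2, k2⟩ := perm_S0 fa fc hn h hg r2
  have hne : E1 ≠ E2 := fun e2 => Er_ne hn h (H98.cj_inj.1 (k1.trans (e2 ▸ k2.symm)))
  rcases s1 with rfl | rfl
  · obtain rfl := s2.resolve_left hne.symm
    exact ⟨g, H98.cj_eq_self_iff.1 k1, H98.cj_eq_self_iff.1 k2, c, hc, e1⟩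
  have h1 : (⟨1, by omega⟩ : Fin (n + 1)) ≠ la n := by simp [Fin.ext_iff]; omega
  have i2 : ∀ {E : Subgroup (SLn n F)} {v : SLn n F}, RC E → v ∈ E → Is2 v := fun hE hv => is2_of_sq (hE.sq hv)
  have z1 := ZZ_le_Er (x_mem_ZZ (n := n) c)
  have z2 := ZZ_le_Ec (x_mem_ZZ (n := n) c)
  obtain ⟨p, hp, e2⟩ := r2.tr fc hn (x_mem_Col ⟨1, by omega⟩ (la n) 1)
    (fun e => one_ne_zero ((x_eq_one h1).1 e)) hc
  have n1 : g⁻¹ * e p * g ∈ Ns ((Er n F).map e) := by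
    rw [← mem_cjs, H64.SG.cj_Ns, k1]
    exact map_mem_Ns hp
  obtain ⟨v, hv, e3⟩ : g⁻¹ * e (x 0 (la n) c * x ⟨1, by omega⟩ (la n) 1) * g ∈ (Er n F).map e := by
    rw [← mem_cjs, k1]
    exact ⟨_, mul_mem z2 (x_mem_Col _ _ 1), rfl⟩
  have v1 : v ≠ 1 := fun e4 => by
    rw [e4, map_one, eq_comm, show g⁻¹ * _ * g = g⁻¹ * _ * g⁻¹⁻¹ by rw [inv_inv],
      conj_eq_one_iff] at e3
    have e5 := eq_one2 h.ker (i2 r2 (mul_mem z2 (x_mem_Col _ _ 1))) e3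
    rw [mul_eq_one_iff_eq_inv, x_inv] at e5
    have e6 := congrArg (fun g : SLn n F => g.1 0 (la n)) e5
    simp only [x_apply_same h0, x_apply h1, h0, Fin.ext_iff] at e6
    exact hc (by simpa using e6)
  have e4 : g⁻¹ * e p * g * t * (g⁻¹ * e p * g)⁻¹ = t * e v := by
    calc _ = g⁻¹ * (e p * (g * t * g⁻¹) * (e p)⁻¹) * g := by group
      _ = g⁻¹ * (g * t * g⁻¹ * e (x 0 (la n) c * x ⟨1, by omega⟩ (la n) 1)) * g := by
        rw [e1, ← conj_mul, h.conj_t, ← map_inv, ← map_mul, ← map_mul, e2, mul_assoc t, ← map_mul,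
          ← mul_assoc (x 0 (la n) c), x_mul_self, one_mul]
      _ = _ := by rw [e3]; group
  obtain ⟨p1, hp1, rfl⟩ := r1.tr fc hn hv v1 hc
  obtain ⟨y2, n2, e5⟩ : ∃ y2 ∈ Ns ((Er n F).map e), y2 * t * y2⁻¹ = t * e (x 0 (la n) c) := by
    refine ⟨(e p1)⁻¹ * (g⁻¹ * e p * g), mul_mem (inv_mem (map_mem_Ns hp1)) n1, ?_⟩
    calc _ = (e p1)⁻¹ * (g⁻¹ * e p * g * t * (g⁻¹ * e p * g)⁻¹) * e p1 := by group
      _ = (e p1)⁻¹ * (t * e p1) * e (x 0 (la n) c) := by rw [e4, map_mul, map_mul, map_inv]; group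
      _ = _ := by rw [h.comm p1]; group
  obtain ⟨v3, hv3, e6⟩ := (mem_normalizer_iff.1 (inv_mem n2) _).1 ⟨_, z1, rfl⟩
  obtain ⟨p2, hp2, rfl⟩ := r1.tr fc hn hv3 (fun e7 => by
    rw [e7, map_one, eq_comm, conj_eq_one_iff] at e6
    exact hc ((e_x_eq_one h.ker h0).1 e6)) hc
  have e7 : y2 * e p2 * t * (y2 * e p2)⁻¹ = t * e (x 0 (la n) c) := by
    rw [← e5, ← h.conj_t p2]
    nth_rewrite 1 [h.conj_t p2]
    group
  have e8 : y2 * e p2 * e (x 0 (la n) c) * (y2 * e p2)⁻¹ = e (x 0 (la n) c) := by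
    rw [map_mul, map_mul, map_inv] at e6
    calc _ = y2 * (e p2 * e (x 0 (la n) c) * (e p2)⁻¹) * y2⁻¹ := by group
      _ = _ := by rw [e6]; group
  have n3 : y2 * e p2 ∈ Ns ((Er n F).map e) := mul_mem n2 (map_mem_Ns hp2)
  generalize y2 * e p2 = y at e7 e8 n3
  have hj : g⁻¹ * y ∈ Cz t := mem_Cz.2 (by
    calc t * (g⁻¹ * y) = g⁻¹ * (g * t * g⁻¹) * y := by group
      _ = _ := by rw [e1, ← e7]; group)
  obtain ⟨β, hβ⟩ := exists_ind hn h.ker (h.cz hj)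
  obtain ⟨c1, e9⟩ := (nv_of_S0 fa fc hn h (inv_mem hg)).z c
  have e10 : β (x 0 (la n) c) = x 0 (la n) c1 :=
    (hβ.eq_iff h.ker (i2 r1 z1) (is2_of_sq (x_mul_self _ _ c1))).1 (by
      calc _ = g⁻¹ * (y * e (x 0 (la n) c) * y⁻¹) * g⁻¹⁻¹ := by group
        _ = _ := by rw [e8, e9])
  have hZ : β ∈ St (ZZ n F) := mem_St_of_finite fun z hz => by
    obtain ⟨d, rfl⟩ := mem_ZZ.1 hz
    rw [← div_mul_cancel₀ d hc, ← sc_x, fb.lin _ _ _ (x_mul_self _ _ c), e10, sc_x]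
    exact x_mem_ZZ _
  refine ⟨y, n3, ?_, c, hc, e7⟩
  rcases (fa.nz β hZ).2 with ⟨-, h3, -⟩ | ⟨-, h3⟩
  · have := mul_mem n3 (inv_mem (hβ.mem_Ns_map h3))
    rw [_root_.mul_inv_rev, mul_inv_cancel_left, inv_inv] at this
    exact (Er_ne hn h ((H98.cj_eq_self this).symm.trans k1)).elim
  · have e11 := hβ.cjs_map (Ec n F)
    rw [h3.symm.map_left] at e11
    rw [← H98.cj_eq_self_iff, ← mul_inv_cancel_left g y, ← H98.cj_cj]
    exact (congrArg (cjs g) e11).trans k1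

end Main

/-- `k` acts on `e u` through `x 0 n c`. -/
def Co (e : SLn n F →* G) (k : G) (u : SLn n F) (c : F) : Prop :=
  k * e u * k⁻¹ = e (x 0 (la n) c) * e u

/-- `k` is a translation. -/
structure TR (e : SLn n F →* G) (t k : G) (m : F) : Prop where
  t : k * t * k⁻¹ = t * e (x 0 (la n) m)
  z : ∀ c, k * e (x 0 (la n) c) * k⁻¹ = e (x 0 (la n) c)

section Tr

omit [Finite F] [CharP F 2]

theorem TR.mul {m m' : F} (h1 : TR e t k m) (h2 : TR e t k' m') : TR e t (k * k') (m + m') where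
  t := by
    calc _ = k * (k' * t * k'⁻¹) * k⁻¹ := by group
      _ = _ := by rw [h2.t, ← conj_mul, h1.t, h1.z, x_add, map_mul, mul_assoc]
  z c := by
    calc _ = k * (k' * e (x 0 (la n) c) * k'⁻¹) * k⁻¹ := by group
      _ = _ := by rw [h2.z, h1.z]

theorem Co.mul {m c c' : F} (h1 : TR e t k m) (h2 : Co e k u c) (h3 : Co e k' u c') :
    Co e (k * k') u (c' + c) := by
  unfold Co at *
  calc _ = k * (k' * e u * k'⁻¹) * k⁻¹ := by group
    _ = _ := by rw [h3, ← conj_mul, h1.z, h2, x_add, map_mul, mul_assoc]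

theorem TR.pow {m : F} (h1 : TR e t k m) (j : ℕ) : TR e t (k ^ j) (j * m) := by
  induction j with
  | zero => exact ⟨by simp, fun c => by simp⟩
  | succ j ih => simpa only [pow_succ, Nat.cast_succ, add_mul, one_mul] using ih.mul h1

theorem tr_e (h : B1 e t) {p : SLn n F} (hp : p ∈ Cs (ZZ n F)) : TR e t (e p) 0 :=
  ⟨by rw [h.conj_t, x_zero, map_one, mul_one], fun c => by
    rw [← map_inv, ← map_mul, ← map_mul, ← hp _ (x_mem_ZZ c), mul_inv_cancel_right]⟩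

theorem e_conj (p u : SLn n F) : e p * e u * (e p)⁻¹ = e (p * u * p⁻¹) := by
  rw [map_mul, map_mul, map_inv]

theorem TR.conj (h : B1 e t) {m l : F} (h1 : TR e t k m) {p : SLn n F} (hl : l ≠ 0)
    (hp : ∀ c, p * x 0 (la n) c * p⁻¹ = x 0 (la n) (l * c)) :
    TR e t (e p * k * (e p)⁻¹) (l * m) where
  t := by
    nth_rewrite 1 [← h.conj_t p]
    rw [conj_inv, conj_mul, conj_mul, h1.t, ← conj_mul, h.conj_t, e_conj, hp]
  z c := by
    rw [← mul_inv_cancel_left₀ hl c, ← hp, ← e_conj, conj_inv, conj_mul, conj_mul, h1.z]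

theorem Co.conj {c l : F} (h1 : Co e k u c) {p : SLn n F}
    (hp : ∀ c, p * x 0 (la n) c * p⁻¹ = x 0 (la n) (l * c)) :
    Co e (e p * k * (e p)⁻¹) (p * u * p⁻¹) (l * c) := by
  unfold Co at *
  rw [← hp, ← e_conj, ← e_conj, conj_inv, conj_mul, conj_mul, h1, conj_mul]

end Tr

section Fin

variable [Finite G] (fa : FA n F) (fb : FB n F) (fc : FC n F) (fe : FE n F) (hn : 2 ≤ n)
  (h : CH e t)
include fa fb fc fe hn h

theorem exists_tr0 : ∃ k ∈ Ns ((Er n F).map e), k ∈ Ns ((Ec n F).map e) ∧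
    ∃ m : F, m ≠ 0 ∧ TR e t k m := by
  obtain ⟨y, n1, n2, μ, hμ, e1⟩ := exists_move fa fc hn h fb
  obtain ⟨θ, hθ, e2⟩ := exists_th h.ker n1 n2
  obtain ⟨l, τ, hl, e3⟩ := fe.cz θ hθ
  have e4 : ∀ c, y * e (x 0 (la n) c) * y⁻¹ = e (x 0 (la n) (l * τ c)) := fun c => by
    rw [e2 _ (ZZ_le_QQ (x_mem_ZZ c)), e3]
  by_cases hs : ∃ s : F, s ≠ 0 ∧ s ≠ 1
  · obtain ⟨s, s0, s1⟩ := hs
    have t0 : τ s ≠ 0 := (map_ne_zero τ).2 s0
    obtain ⟨p, p1, p2, -, p3⟩ := exists_tor hn s0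
    obtain ⟨r, r1, r2, -, r3⟩ := exists_tor hn (inv_ne_zero t0)
    have e5 : ∀ c, y⁻¹ * e (x 0 (la n) c) * y = e (x 0 (la n) (τ.symm (l⁻¹ * c))) := fun c => by
      have := e4 (τ.symm (l⁻¹ * c))
      rw [RingEquiv.apply_symm_apply, mul_inv_cancel_left₀ hl] at this
      rw [← this]
      group
    have e6 : ∀ c, e r * (y * e p * y⁻¹) * e (x 0 (la n) c) * (e r * (y * e p * y⁻¹))⁻¹ =
        e (x 0 (la n) c) := fun c => by
      calc _ = e r * (y * (e p * (y⁻¹ * e (x 0 (la n) c) * y) * (e p)⁻¹) * y⁻¹) * (e r)⁻¹ := by group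
        _ = _ := by
          rw [e5, e_conj, p3, e4, e_conj, r3, map_mul τ, RingEquiv.apply_symm_apply]
          congr 2
          field_simp
    refine ⟨e r * (y * e p * y⁻¹), mul_mem (map_mem_Ns r1)
      (mul_mem (mul_mem n1 (map_mem_Ns p1)) (inv_mem n1)), mul_mem (map_mem_Ns r2)
      (mul_mem (mul_mem n2 (map_mem_Ns p2)) (inv_mem n2)), (τ s)⁻¹ * μ + μ, fun e7 => s1 ?_, ?_, e6⟩
    · rw [CharTwo.add_eq_zero, mul_eq_right₀ hμ, inv_eq_one] at e7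
      exact τ.injective (e7.trans (map_one τ).symm)
    · have e7 : t = y * t * y⁻¹ * e (x 0 (la n) μ) := by
        rw [e1, mul_assoc, ← map_mul, x_mul_self, map_one, mul_one]
      nth_rewrite 1 [e7]
      rw [← conj_mul, e6]
      calc _ = e r * (y * (e p * t * (e p)⁻¹) * y⁻¹) * (e r)⁻¹ * e (x 0 (la n) μ) := by group
        _ = _ := by rw [h.conj_t, e1, ← conj_mul, h.conj_t, e_conj, r3, x_add, map_mul, mul_assoc]
  · push Not at hs
    refine ⟨y, n1, n2, μ, hμ, e1, fun c => ?_⟩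
    rw [e4, hs l hl, one_mul]
    by_cases hc : c = 0
    · rw [hc, map_zero]
    · rw [hs c hc, map_one]

theorem exists_tr (m : F) : ∃ k, TR e t k m ∧ ∀ u ∈ QQ n F, ∃ c, Co e k u c := by
  by_cases hm : m = 0
  · exact ⟨1, ⟨by simp [hm], fun c => by simp⟩, fun u _ => ⟨0, by simp [Co]⟩⟩
  obtain ⟨k, n1, n2, μ, hμ, h1⟩ := exists_tr0 fa fb fc fe hn h
  obtain ⟨a, j, hj, e1⟩ := Nat.exists_eq_two_pow_mul_odd (orderOf_pos k).ne'
  have h2 := h1.pow j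
  rw [show (j : F) = 1 from (CharP.cast_eq_mod F 2 j).trans (by rw [Nat.odd_iff.1 hj, Nat.cast_one]),
    one_mul] at h2
  have e2 : (k ^ j) ^ 2 ^ a = 1 := by rw [← pow_mul, mul_comm, ← e1, pow_orderOf_eq_one]
  obtain ⟨θ, hθ, e3⟩ := exists_th h.ker (pow_mem n1 j) (pow_mem n2 j)
  generalize k ^ j = k at h2 e2 e3
  have i2 : ∀ u ∈ QQ n F, Is2 u := fun u hu => is2_of_UU (QQ_le_UU hu)
  have hit : ∀ i, ∀ u ∈ QQ n F, θ^[i] u ∈ QQ n F ∧ k ^ i * e u * (k ^ i)⁻¹ = e (θ^[i] u) := by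
    intro i u hu
    induction i with
    | zero => exact ⟨hu, by simp⟩
    | succ i ih =>
      rw [Function.iterate_succ_apply', ← e3 _ ih.1, ← ih.2, pow_succ']
      exact ⟨hθ.bij.mapsTo ih.1, by group⟩
  obtain ⟨p, hp, h3⟩ := fe.c2 θ hθ (fun z hz => by
    obtain ⟨c, rfl⟩ := mem_ZZ.1 hz
    have hz' := ZZ_le_QQ hz
    exact inj2 h.ker (i2 _ (hθ.bij.mapsTo hz')) (i2 _ hz') (by rw [← e3 _ hz', h2.z]))
    ⟨a, fun u hu => inj2 h.ker (i2 _ (hit _ u hu).1) (i2 u hu) (by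
      rw [← (hit _ u hu).2, e2, one_mul, inv_one, mul_one])⟩
  have h4 := (tr_e h.toB1 (P00_le_Cs (inv_mem hp))).mul h2
  have h5 : ∀ u ∈ QQ n F, ∃ c, Co e (e p⁻¹ * k) u c := fun u hu => by
    obtain ⟨c, hc⟩ := mem_ZZ.1 (h3 u hu)
    refine ⟨c, ?_⟩
    calc _ = e p⁻¹ * (k * e u * k⁻¹) * (e p⁻¹)⁻¹ := by group
      _ = _ := by
        rw [e3 u hu, e_conj, mul_inv_eq_iff_eq_mul.1 hc, ← map_mul, ← mul_assoc, ← mul_assoc,
          ← mul_assoc, ← P00_le_Cs (inv_mem hp) _ (x_mem_ZZ c)]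
        congr 1
        group
  obtain ⟨r, -, -, r1, r2⟩ := exists_tor hn (div_ne_zero hm hμ)
  have h6 := h4.conj h.toB1 (div_ne_zero hm hμ) r2
  rw [zero_add, div_mul_cancel₀ m hμ] at h6
  refine ⟨_, h6, fun u hu => ?_⟩
  obtain ⟨c, hc⟩ := h5 _ ((mem_normalizer_iff.1 (inv_mem r1) u).1 hu)
  exact ⟨_, by simpa only [inv_inv, mul_assoc, mul_inv_cancel_left, mul_inv_cancel, mul_one]
    using hc.conj r2⟩

omit fb fc fe [Finite G] in
theorem tr_zero (h1 : TR e t k 0) (φ : SLn n F → F) (h2 : ∀ u ∈ QQ n F, Co e k u (φ u)) :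
    ∃ ζ ∈ QQ n F, ∀ u ∈ QQ n F, x 0 (la n) (φ u) = cm ζ u := by
  have hk : k ∈ Cz t := mem_Cz.2 (by
    have := h1.t
    rw [x_zero, map_one, mul_one, mul_inv_eq_iff_eq_mul] at this
    exact this.symm)
  obtain ⟨β, hβ⟩ := exists_ind hn h.ker (h.cz hk)
  have i2 : ∀ u ∈ QQ n F, Is2 u := fun u hu => is2_of_UU (QQ_le_UU hu)
  have e1 : ∀ u ∈ QQ n F, β u * u⁻¹ = x 0 (la n) (φ u) := fun u hu => by
    rw [(hβ.eq_iff h.ker (i2 u hu) (i2 _ (mul_mem (ZZ_le_QQ (x_mem_ZZ (φ u))) hu))).1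
      ((h2 u hu).trans (map_mul e _ _).symm), mul_inv_cancel_right]
  obtain ⟨ζ, hζ, rfl⟩ := mem_cI.1 (fa.n2 β (fun u hu => e1 u hu ▸ x_mem_ZZ _) fun z hz => by
    obtain ⟨c, rfl⟩ := mem_ZZ.1 hz
    exact (hβ.eq_iff h.ker (i2 _ (ZZ_le_QQ hz)) (i2 _ (ZZ_le_QQ hz))).1 (h1.z c))
  exact ⟨ζ, hζ, fun u hu => (e1 u hu).symm⟩

theorem exists_w (m : F) : ∃ w, TR e t w m ∧ ∀ u ∈ QQ n F, w * e u * w⁻¹ = e u := by
  choose k hk hc using exists_tr fa fb fc fe hn h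
  have : ∀ m u, ∃ c, u ∈ QQ n F → Co e (k m) u c := fun m u => by
    by_cases hu : u ∈ QQ n F
    · exact (hc m u hu).imp fun _ h _ => h
    · exact ⟨0, fun h => (hu h).elim⟩
  choose φ hφ using this
  have h0 : (0 : Fin (n + 1)) ≠ la n := zero_ne_la (by omega)
  have hQ : QQ n F ≤ Cs (ZZ n F) := QQ_le_UU.trans UU_le_Cs
  have uniq : ∀ {k u c c'}, Co e k u c → Co e k u c' → c = c' := fun h1 h2 =>
    e_x_inj h.ker h0 (mul_right_cancel (h1.symm.trans h2))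
  obtain ⟨ζ, hζ, h1⟩ := fe.hu φ (fun m u hu v hv => uniq (hφ m _ (mul_mem hu hv)) (by
      rw [Co, map_mul, ← conj_mul, hφ m u hu, hφ m v hv, x_add, map_mul, mul_assoc, mul_assoc,
        ← mul_assoc (e u), ← map_mul, ← hQ hu _ (x_mem_ZZ _), map_mul, mul_assoc]))
    (fun m z hz => uniq (hφ m z (ZZ_le_QQ hz)) (by
      obtain ⟨c, rfl⟩ := mem_ZZ.1 hz
      rw [Co, (hk m).z, x_zero, map_one, one_mul]))
    (fun m m' => by
      have h1 := (hk m').mul ((hk m).mul (hk (m + m')))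
      rw [show m' + (m + (m + m')) = 0 by
        linear_combination (m + m') * (CharTwo.two_eq_zero (R := F))] at h1
      exact tr_zero fa hn h h1 _ fun u hu =>
        Co.mul (hk m') (hφ m' u hu) (Co.mul (hk m) (hφ m u hu) (hφ _ u hu)))
    (fun m b p hb hp => by
      obtain rfl : p = hd _ (prod_hh h0 (Units.mk0 b hb)) := Subtype.ext (hp.trans (by
        simp only [hd, apply_ite (Units.val : Fˣ → F), Units.val_inv_eq_inv_val, Units.val_one,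
          Units.val_mk0]))
      have hp1 : hd _ (prod_hh h0 (Units.mk0 b hb)) ∈ Ns (QQ n F) :=
        QQ_eq (n := n) (F := F) ▸ hd_Ns _ _ _
      have hp2 : ∀ c, hd _ (prod_hh h0 (Units.mk0 b hb)) * x 0 (la n) c *
          (hd _ (prod_hh h0 (Units.mk0 b hb)))⁻¹ = x 0 (la n) (b ^ 2 * c) := fun c => by
        rw [hd_conj]
        simp only [h0.symm, if_true, if_false, inv_inv, Units.val_mk0]
        congr 1
        ring
      generalize hd _ (prod_hh h0 (Units.mk0 b hb)) = p at hp1 hp2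
      have h1 := ((hk m).conj h.toB1 (pow_ne_zero 2 hb) hp2).mul (hk (b ^ 2 * m))
      rw [CharTwo.add_self_eq_zero] at h1
      obtain ⟨ζ, hζ, h2⟩ := tr_zero fa hn h h1
        (fun u => φ (b ^ 2 * m) u + b ^ 2 * φ m (p⁻¹ * u * p⁻¹⁻¹)) fun u hu => by
          refine Co.mul ((hk m).conj h.toB1 (pow_ne_zero 2 hb) hp2) ?_ (hφ _ u hu)
          simpa only [inv_inv, mul_assoc, mul_inv_cancel_left, mul_inv_cancel, mul_one] using
            (hφ m _ ((mem_normalizer_iff.1 (inv_mem hp1) u).1 hu)).conj hp2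
      have hζ' := (mem_normalizer_iff.1 (inv_mem hp1) ζ).1 hζ
      obtain ⟨ξ, hξ, h3⟩ := exists_scale (by omega) hζ' (b ^ 2)
      refine ⟨ξ, hξ, fun u hu => ?_⟩
      obtain ⟨c, hc⟩ := mem_ZZ.1 (cm_QQ hζ' hu)
      have e1 := h2 _ ((mem_normalizer_iff.1 hp1 u).1 hu)
      have e2 : cm ζ (p * u * p⁻¹) = p * cm (p⁻¹ * ζ * p⁻¹⁻¹) u * p⁻¹ := by
        unfold H67.SA.cm; group
      rw [e2, hc, hp2, show p⁻¹ * (p * u * p⁻¹) * p⁻¹⁻¹ = u by group] at e1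
      rw [e1, h3 u hu c hc.symm]) m
  refine ⟨e ζ⁻¹ * k m, by simpa only [zero_add] using (tr_e h.toB1 (hQ (inv_mem hζ))).mul (hk m),
    fun u hu => ?_⟩
  calc _ = e ζ⁻¹ * (k m * e u * (k m)⁻¹) * (e ζ⁻¹)⁻¹ := by group
    _ = _ := by
      rw [hφ m u hu, ← map_mul, h1 u hu, e_conj]
      congr 1
      unfold H67.SA.cm
      group

theorem cp : CP e t := fun m => by
  obtain ⟨w, h1, h2⟩ := exists_w fa fb fc fe hn h m
  refine ⟨w, mem_Cs_map.2 ?_, h1.t⟩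
  have h3 : ∀ u ∈ QQ n F, e u * w = w * e u := fun u hu => (mul_inv_eq_iff_eq_mul.1 (h2 u hu)).symm
  by_cases h4 : n = 2
  · rwa [P00_eq_QQ h4]
  have key : ∀ p ∈ P00 n F, ∃ γ, w * e p * w⁻¹ = γ * e p ∧ (∃ c, Pj e t γ (x 0 (la n) c)) ∧
      ∀ r ∈ P00 n F, Commute (e r) γ := by
    intro p hp
    have h5 := (h1.mul (tr_e h.toB1 (P00_le_Cs hp))).mul h1
    obtain ⟨c, h6⟩ := centQ (g := cm w (e p)) fa hn h (zero_ne_la (by omega)) (mem_Cz.2 (by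
      have e1 := h5.t
      rw [add_zero, CharTwo.add_self_eq_zero, x_zero, map_one, mul_one] at e1
      have e2 := (h1.mul h1).t
      rw [CharTwo.add_self_eq_zero, x_zero, map_one, mul_one] at e2
      have c1 : Commute t (w * e p * w) := (mul_inv_eq_iff_eq_mul.1 e1).symm
      have c2 : Commute t (w * w) := (mul_inv_eq_iff_eq_mul.1 e2).symm
      have c3 : Commute t (e p) := h.comm p
      rw [show cm w (e p) = w * e p * w * (w * w)⁻¹ * (e p)⁻¹ by unfold H67.SA.cm; group]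
      exact (c1.mul_right c2.inv_right).mul_right c3.inv_right)) fun a b _ hs c => by
        have hu : x a b c ∈ QQ n F := QQ_eq (n := n) (F := F) ▸ x_mem_Pat hs c
        have c1 : Commute (e (x a b c)) w := h3 _ hu
        have c2 : Commute (e (p⁻¹ * x a b c * p⁻¹⁻¹)) w :=
          h3 _ ((mem_normalizer_iff.1 (inv_mem (P00_le_Ns hp)) _).1 hu)
        have c3 : Commute (e (x a b c)) (e p * w⁻¹ * (e p)⁻¹) := by
          have := congrArg (fun a => e p * a * (e p)⁻¹) c2.inv_right.eq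
          simp only [map_mul, map_inv, inv_inv, mul_assoc, mul_inv_cancel_left, mul_inv_cancel,
            mul_one] at this
          simpa only [Commute, SemiconjBy, mul_assoc] using this
        simpa only [H67.SA.cm, mul_assoc] using (c1.mul_right c3).eq
    refine ⟨cm w (e p), by unfold H67.SA.cm; group, ⟨c, h6⟩, fun r hr => ?_⟩
    have c1 : Commute (e r) (e (x 0 (la n) c)) :=
      (Commute.symm (P00_le_Cs hr _ (x_mem_ZZ c))).map e
    rcases h6 with h6 | h6 <;> rw [h6]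
    · exact c1
    · exact (show Commute (e r) t from (h.comm r).symm).mul_right c1
  intro p hp
  refine (mem_Cz.1 ((commutator_le.2 fun a ha b hb => ?_ :
    ⁅P00 n F, P00 n F⁆ ≤ (Cz w).comap e) (fc.pf0 (by omega) hp))).symm
  obtain ⟨γ, e1, ⟨c, p1⟩, c1⟩ := key a ha
  obtain ⟨δ, e2, ⟨d, p2⟩, c2⟩ := key b hb
  refine mem_Cz.2 (mul_inv_eq_iff_eq_mul.1 ?_)
  have c3 : Commute γ δ := cm_eq_one.1 (by
    rw [p1.cm h.toB1 p2, cm_eq_one.2 (by rw [← x_add, ← x_add, add_comm c]), map_one])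
  rw [commutatorElement_def, map_mul, map_mul, map_mul, map_inv, map_inv, ← conj_mul, ← conj_mul,
    ← conj_mul, ← conj_inv, ← conj_inv, e1, e2]
  have c4 : Commute (e a * (δ * e b) * (e a)⁻¹) γ :=
    (((c1 a ha).mul_left (c3.symm.mul_left (c1 b hb))).mul_left (c1 a ha).inv_left)
  have c5 : Commute (e b * (e a)⁻¹ * (e b)⁻¹) δ :=
    ((c2 b hb).mul_left (c2 a ha).inv_left).mul_left (c2 b hb).inv_left
  calc _ = γ * (e a * (δ * e b) * (e a)⁻¹) * γ⁻¹ * (δ * e b)⁻¹ := by group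
    _ = e a * (δ * (e b * (e a)⁻¹ * (e b)⁻¹) * δ⁻¹) := by rw [← c4.eq]; group
    _ = _ := by rw [← c5.eq]; group

end Fin

theorem jobP2a (hFA : JobFA) (hFB : JobFB) (hFC : JobFC) (hFE : JobFE) : JobP2a.{u} :=
  fun n F _ _ _ hp _ _ _ _ _ h =>
    cp (hFA n F hp) (hFB n F hp) (hFC n F hp) (hFE n F hp) hp.two_le h

end H1.SP2
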