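import Cfsg.Agent.H78.S2Kit

/-! STD-SP chapter II, slot B2: the family `y`. -/

set_option autoImplicit false
set_option linter.unusedSectionVars false

namespace H1.SP2B2

open H67.UA hiding Par
open H67.SP H78.S2
open H86.SPI (ok pp hf_self hf_comm EE_mul' EE_comm EE_sq hf_smul_right' qq_sq qq_dep TT_conj qq_conj
  hf_comb ac_TT qq_zero_left qq_zero_right TT_zero)

universe u

variable {n : ℕ} {F : Type} [Field F] [StarRing F] [TrivialStar F] [CharP F 2] [Finite F] [p : Par n F]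
  {G : Type u} [Group G] {e : XU n F →* G} {t w : G} {u x : Vn n F}

variable (e t) in
/-- the properties of the normalised element -/
structure WW (w : G) : Prop where
  c : ∀ p ∈ P2 n F, w * e p = e p * w
  l : Rw e t (ev 0) (ev 1) w
  r : Rw e t (ev 1) (ev 0) w

theorem h10 : hf (ev 1 : Vn n F) (ev 0) = 0 := by
  have := p.five
  rw [H54.SPF.hf_evv, H54.SPF.v1 p.five, if_neg (by simp; omega)]

theorem li01 : Li (ev 0 : Vn n F) (ev 1) := fun a b h => by
  have n : (0 : Fin (n + 1)) ≠ 1 := fun k => by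
    have := congrArg Fin.val k
    rw [H54.SPF.v1 p.five] at this
    exact absurd this (by simp)
  exact ⟨by simpa [ev_apply, n] using congrFun h 0, by simpa [ev_apply, n.symm] using congrFun h 1⟩

theorem cj (v : BV e t) (h : Rw e t u x w) (h0 : hf x u = 0) (g : XU n F) :
    Rw e t (ac g u) (ac g x) (e g * w * (e g)⁻¹) where
  tr := by
    have k : (e g)⁻¹ * t * e g = t := by rw [mul_assoc, v.cen, inv_mul_cancel_left]
    rw [show e g * w * (e g)⁻¹ * t * (e g * w * (e g)⁻¹)⁻¹ =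
      e g * (w * ((e g)⁻¹ * t * e g) * w⁻¹) * (e g)⁻¹ by group, k, h.tr, ← qq_conj g h0, map_mul, map_mul,
      map_inv, ← mul_assoc, ← v.cen]
    group
  act s c hs := by
    obtain ⟨s, rfl⟩ : ∃ s', ac g s' = s := ⟨_, ac_ac_inv g s⟩
    rw [hf_ac] at hs ⊢
    rw [← EE_conj' hs, ← EE_conj' hs]
    simp only [map_mul, map_inv]
    rw [← h.act s c hs]
    group

theorem rw_t (v : BV e t) (h : Rw e t u x w) : Rw e t u x (w * t) where
  tr := by rw [← h.tr]; group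
  act s c hs := by
    rw [← h.act s c hs, mul_assoc w, v.cen]
    group

theorem sq_t (v : BV e t) (h : Rw e t u x w) {q : XU n F} (k : w * w = e q) :
    w * t * (w * t) = e (qq x u * q) := by
  rw [← mul_assoc, mul_inv_eq_iff_eq_mul.1 h.tr, mul_assoc _ w w, k, mul_assoc t, ← map_mul, v.cen,
    mul_assoc, v.tt, mul_one]

theorem rw_sq (h : Rw e t u x w) {s : Vn n F} (hs : hf s u = 0) (c : F) :
    w * w * e (EE u s c) = e (EE u s c) * (w * w) := by
  rw [mul_assoc, h.mv hs, ← mul_assoc, h.mv hs, add_assoc, CharTwo.add_self_eq_zero, add_zero, mul_assoc]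

theorem kill {m s : Vn n F} {z : XU n F} (hu : u ≠ 0) (hs : hf s u = 0) (hm : hf m u = 0)
    (h1 : z * qq s u = qq s u * z) (h2 : TT m * z * qq s u = qq s u * (TT m * z)) : hf m s = 0 := by
  rw [mul_assoc, h1, ← mul_assoc, ← mul_assoc, mul_left_inj, eq_comm, ← mul_inv_eq_iff_eq_mul, TT_conj] at h2
  have := H54.SPI.TT_inj h2
  rw [ac_EE' hs hm, add_eq_left, smul_eq_zero] at this
  exact this.resolve_right hu

theorem WW.sq (v : BV e t) (h : WW e t w) : ∃ ρ, w * w = e (zs ρ) := by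
  have h01 : hf (ev 0 : Vn n F) (ev 1) = 0 := hf_symm h10
  have zz : w * e (qq (ev 1) (ev 0)) = e (qq (ev 1) (ev 0)) * w := by
    simpa [hf_self] using h.l.mv h10 0
  have tw := mul_inv_eq_iff_eq_mul.1 h.l.tr
  obtain ⟨a, b, c, k⟩ := v.v2 (w * w) (ev 0) (ev 1) (by
      rw [mul_assoc, tw, mul_assoc t, ← mul_assoc w, tw, mul_assoc, ← mul_assoc w, zz, mul_assoc t,
        mul_assoc (e _) w, ← mul_assoc (e _), ← map_mul, qq_sq h10, map_one, one_mul]) h01 li01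
    fun q q0 q1 => by rw [mul_assoc, h.c q ⟨q0, q1⟩, ← mul_assoc, h.c q ⟨q0, q1⟩, mul_assoc]
  have m0 : hf (a • ev 0 + b • ev 1 : Vn n F) (ev 0) = 0 := by simpa using hf_comb h01 a b 1 0
  have m1 : hf (a • ev 0 + b • ev 1 : Vn n F) (ev 1) = 0 := by simpa using hf_comb h01 a b 0 1
  have c0 : hf (c • ev 1 : Vn n F) (ev 0) = 0 := by rw [hf_smul_left, h10, mul_zero]
  have c1 : hf (c • ev 0 : Vn n F) (ev 1) = 0 := by rw [hf_smul_left, h01, mul_zero]
  rcases k with k | k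
  · obtain ⟨f0, f00, f01⟩ := exists_dual (li01 (n := n) (F := F)) 1 0
    obtain ⟨f1, f10, f11⟩ := exists_dual (li01 (n := n) (F := F)) 0 1
    have k0 := rw_sq h.l f10 0
    have k1 := rw_sq h.r f01 0
    rw [k, ← map_mul, ← map_mul] at k0 k1
    have b0 := kill (ev_ne 0) f10 m0 (EE_comm c0 f10 0 0) (v.inj k0)
    have a0 := kill (ev_ne 1) f01 m1 (by
      rw [qq_smul', qq_comm]; exact EE_comm c1 f01 0 0) (v.inj k1)
    rw [hf_comm, hf_add_right, hf_smul_right', hf_smul_right'] at a0 b0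
    simp only [f00, f01, f10, f11, mul_one, mul_zero, add_zero, zero_add] at a0 b0
    exact ⟨c, by simpa [a0, b0] using k⟩
  · have q := h.c (TT (a • ev 0 + b • ev 1) * qq (c • ev 1) (ev 0)) ⟨mul_mem
      (ac_Tc_fix 1 (hf_symm m0)) (ac_EE_u c0 0), mul_mem (ac_Tc_fix 1 (hf_symm m1))
        (ac_qq_fix c0 h10 (by rw [hf_smul_right', hf_self, mul_zero]))⟩
    have : w * (w * w) = w * w * w := (mul_assoc _ _ _).symm
    rw [k, ← mul_assoc, tw, mul_assoc, q, ← mul_assoc, mul_left_inj, mul_left_inj, mul_eq_left,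
      ← map_one e, ← EE_zero (ev 0)] at this
    obtain ⟨⟨r, hr⟩, -⟩ := EE_inj' (ev_ne 0) h10 (hf_zero_left _) (v.inj this)
    exact absurd (li01 r 1 (by rw [one_smul, add_comm, ← hr])).2 one_ne_zero

theorem WW.ex (v : BV e t) (h : WW e t w) {ρ : F} (k : w * w = e (zs ρ)) (h0 : hf x u = 0) (l : Li u x) :
    ∃ w', Rw e t u x w' ∧ w' * w' = e (qq (ρ • x) u) := by
  obtain ⟨g, rfl, rfl⟩ := H54.SPF.w2 u x (hf_symm h0) l
  refine ⟨_, cj v h.l h10 g, ?_⟩
  rw [← ac_smul, ← qq_conj g (by rw [hf_smul_left, h10, mul_zero]), map_mul, map_mul, map_inv, ← k]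
  group

theorem rho (v : BV e t) {x' : Vn n F} {w' w'' : G} {ρ : F} (hu : u ≠ 0) (h0 : hf x u = 0)
    (h1 : hf x' u = 0) (h2 : hf x' x = 1) (a : Rw e t u x w) (b : Rw e t u x' w')
    (c : Rw e t u (x + x') w'') (a2 : w * w = e (qq (ρ • x) u)) (b2 : w' * w' = e (qq (ρ • x') u))
    (c2 : w'' * w'' = e (qq (ρ • (x + x')) u)) : ρ = 0 ∨ ρ = 1 := by
  have h3 : hf (x + x') u = 0 := by rw [hf_add_left, h0, h1, add_zero]
  have sm : ∀ (r : F) {y : Vn n F}, hf y u = 0 → hf (r • y) u = 0 := fun r y h => by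
    rw [hf_smul_left, h, mul_zero]
  obtain ⟨s, d, hs, k⟩ := Rw.uq v hu c (a.mul b h1 h0)
  obtain ⟨ε, hε, z, c, c2, k⟩ : ∃ ε : F, (ε = 0 ∨ ε = 1) ∧ ∃ z, Rw e t u (x + x') z ∧
      z * z = e (qq ((ρ + ε) • (x + x')) u) ∧ w * w' = z * e (EE u s d) := by
    rcases k with k | k <;> rw [inv_mul_eq_iff_eq_mul] at k
    · exact ⟨0, .inl rfl, _, c, by rwa [add_zero], k⟩
    · refine ⟨1, .inr rfl, _, rw_t v c, ?_, by rw [k, mul_assoc]⟩
      rw [sq_t v c c2, EE_mul' h3 (sm _ h3), hf_smul_left, hf_self, add_smul, one_smul, add_comm (x + x')]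
      simp
  have q : ∃ d, w * w' * (w * w') = e (EE u ((ρ + ε) • (x + x')) d) := ⟨_, by
    rw [k, ← mul_assoc, c.mv hs, mul_assoc _ z z, c2, ← map_mul, ← map_mul, EE_comm hs (sm _ h3),
      mul_assoc, EE_mul' hs hs, v_add_self, EE_mul_Tc (sm _ h3)]⟩
  obtain ⟨d, q⟩ := q
  have q' : ∃ d, w⁻¹ * w' * w * w'⁻¹ = e (EE u (ε • (x + x')) d) := ⟨_, by
    rw [show w⁻¹ * w' * w * w'⁻¹ = (w * w)⁻¹ * (w * w' * (w * w')) * (w' * w')⁻¹ by group, q, a2, b2,
      ← map_inv, ← map_inv, inv_eq_of_mul_eq_one_right (qq_sq (sm ρ h0)),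
      inv_eq_of_mul_eq_one_right (qq_sq (sm ρ h1)), ← map_mul, ← map_mul, EE_mul' (sm _ h0) (sm _ h3),
      EE_mul' (by rw [hf_add_left, sm _ h0, sm _ h3, add_zero]) (sm _ h1),
      show ρ • x + (ρ + ε) • (x + x') + ρ • x' = ε • (x + x') + (ρ • (x + x') + ρ • (x + x')) by module,
      v_add_self, add_zero]⟩
  obtain ⟨d, q⟩ := q'
  have r := b.act _ 0 (sm ρ h0)
  rw [← a2, show w' * (w * w) * w'⁻¹ = w * (w⁻¹ * w' * w * w'⁻¹) * w * (w⁻¹ * w' * w * w'⁻¹) by group, q,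
    a.mv (sm _ h3), mul_assoc _ w w, a2, ← map_mul, ← map_mul, EE_comm (sm _ h3) (sm _ h0), mul_assoc,
    EE_mul' (sm _ h3) (sm _ h3), v_add_self, EE_mul_Tc (sm _ h0)] at r
  have r' := (EE_inj' hu (sm _ h0) (sm _ h0) (v.inj r)).2
  simp only [hf_smul_left, hf_add_left, hf_self, h2, hf_comm x x'] at r'
  rwa [show ρ = ε by linear_combination -r' + d * two0 F]

theorem WW.norm (v : BV e t) (h : WW e t w) : ∃ w, WW e t w ∧ w * w = 1 := by
  obtain ⟨ρ, k⟩ := h.sq v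
  obtain ⟨f, f0, f1⟩ := exists_dual (li01 (n := n) (F := F)) 0 1
  have l : ∀ y : Vn n F, hf y (ev 1) = 1 → Li (ev 0) y := fun y hy => li_of_not_dep (ev_ne 0) fun c hc => by
    rw [hc, hf_smul_left, hf_symm h10, mul_zero] at hy
    exact zero_ne_one hy
  obtain ⟨w', b, b2⟩ := h.ex v k f0 (l f f1)
  obtain ⟨w'', c, c2⟩ := h.ex v k (x := ev 1 + f) (by rw [hf_add_left, h10, f0, add_zero])
    (l _ (by rw [hf_add_left, hf_self, f1, zero_add]))
  rcases rho v (ev_ne 0) h10 f0 f1 h.l b c k b2 c2 with rfl | rfl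
  · exact ⟨w, h, by simpa [zs] using k⟩
  · refine ⟨w * t, ⟨fun q hq => ?_, rw_t v h.l, rw_t v h.r⟩, ?_⟩
    · rw [mul_assoc, v.cen, ← mul_assoc, h.c q hq, mul_assoc]
    · rw [sq_t v h.l k, zs, one_smul, qq_sq h10, map_one]

open Classical in
variable (e) in
/-- the family -/
noncomputable def fam (w : G) (u x : Vn n F) : G :=
  if h : ∃ g : XU n F, ac g (ev 0) = u ∧ ac g (ev 1) = x then e h.choose * w * (e h.choose)⁻¹
  else if h : ∃ c : F, x = c • u then e (Tc h.choose u) else 1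

theorem fam_ac (h : WW e t w) (g : XU n F) : fam e w (ac g (ev 0)) (ac g (ev 1)) = e g * w * (e g)⁻¹ := by
  have k : ∃ g' : XU n F, ac g' (ev 0) = ac g (ev 0) ∧ ac g' (ev 1) = ac g (ev 1) := ⟨g, rfl, rfl⟩
  rw [fam, dif_pos k]
  obtain ⟨k0, k1⟩ := k.choose_spec
  generalize k.choose = g' at k0 k1
  have := h.c (g⁻¹ * g') ⟨mem_Stab.2 (by rw [ac_mul, k0, ac_inv_ac]),
    mem_Stab.2 (by rw [ac_mul, k1, ac_inv_ac])⟩
  rw [map_mul, map_inv] at this
  rw [show e g' * w * (e g')⁻¹ = e g * ((e g)⁻¹ * e g' * w) * (e g')⁻¹ by group, ← this]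
  group

theorem nex (h : ¬ Li u x) : ¬ ∃ g : XU n F, ac g (ev 0) = u ∧ ac g (ev 1) = x := by
  rintro ⟨g, rfl, rfl⟩
  exact h fun a b k => li01 a b (ac_inj g (by rwa [ac_add, ac_smul, ac_smul, ac_zero]))

theorem fam_dep (u : Vn n F) (c : F) : fam e w u (c • u) = e (Tc c u) := by
  have k : ∃ c' : F, c • u = c' • u := ⟨c, rfl⟩
  rw [fam, dif_neg (nex fun l => one_ne_zero (l c 1 (by simp)).2), dif_pos k]
  by_cases hu : u = 0
  · simp [hu]
  · rw [← smul_left_injective F hu k.choose_spec]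

theorem fam_zero (x : Vn n F) : fam e w 0 x = 1 := by
  rw [fam, dif_neg (nex fun l => li_ne l rfl)]
  split_ifs <;> simp

theorem cases3 {P : Vn n F → Vn n F → Prop} (h1 : ∀ g : XU n F, P (ac g (ev 0)) (ac g (ev 1)))
    (h2 : ∀ u (c : F), P u (c • u)) (h3 : ∀ x, P 0 x) (u x : Vn n F) (h : hf x u = 0) : P u x := by
  by_cases hu : u = 0
  · exact hu ▸ h3 x
  by_cases l : Li u x
  · obtain ⟨g, rfl, rfl⟩ := H54.SPF.w2 u x (hf_symm h) l
    exact h1 g
  · obtain ⟨c, rfl⟩ := dep_of_not_li hu l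
    exact h2 u c

theorem jobB2 : JobB2.{u} := by
  intro n F _ _ _ _ _ _ G _ _ e t _ _ _ _ v ⟨w, c, l, r⟩
  obtain ⟨w, h, k⟩ := WW.norm v ⟨c, l, r⟩
  have tc : ∀ q, e q * t * (e q)⁻¹ = t := fun q => by rw [← v.cen, mul_inv_cancel_right]
  refine ⟨fam e w, fun g => cases3 (fun g' => ?_) (fun u c => ?_) fun x => ?_, fam_dep, fam_zero,
    cases3 (fun g => ?_) (fun u c => ?_) fun x => ?_, cases3 (fun g => ?_) (fun u c => ?_) fun x => ?_,
    cases3 (fun g => ?_) (fun u c => ?_) fun x => ?_⟩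
  · rw [← ac_mul, ← ac_mul, fam_ac h, fam_ac h, map_mul]
    group
  · rw [ac_smul, fam_dep, fam_dep, ← map_inv, ← map_mul, ← map_mul, EE_conj' (hf_zero_left u), ac_zero]
  · simp [fam_zero]
  · exact fam_ac h g ▸ cj v h.l h10 g
  · rw [fam_dep]
    refine ⟨by simp [tc, qq_dep], fun s d hs => ?_⟩
    rw [hf_smul_right', hs, mul_zero, add_zero, mul_inv_eq_iff_eq_mul, ← map_mul, ← map_mul,
      EE_comm (hf_zero_left u) hs]
  · rw [fam_zero]
    exact ⟨by simp, fun s d _ => by simp⟩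
  · exact fam_ac h g ▸ cj v h.r (hf_symm h10) g
  · rw [fam_dep]
    refine ⟨by simp [tc, qq_comm u, qq_dep], fun s d hs => ?_⟩
    by_cases c0 : c = 0
    · simp [c0]
    have hs' : hf s u = 0 := by simpa [hf_smul_right', c0] using hs
    rw [hs', add_zero, ← map_inv, ← map_mul, ← map_mul, EE_conj' hs, ac_Tc_fix c hs',
      ac_Tc_fix c (by rw [hf_smul_left, hf_self, mul_zero])]
  · rw [fam_zero]
    exact ⟨by simp, fun s d _ => by simp⟩
  · rw [fam_ac h, show e g * w * (e g)⁻¹ * (e g * w * (e g)⁻¹) = e g * (w * w) * (e g)⁻¹ by group, k]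
    simp
  · rw [fam_dep, ← map_mul, Tc_sq, map_one]
  · simp [fam_zero]

end H1.SP2B2
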