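import Cfsg.Agent.H67.SPSpec
import Cfsg.Agent.H86.SPIKit

/-! STD-SP, slot COC: automorphisms of `P` that fix `Q` pointwise. -/

set_option autoImplicit false
set_option linter.unusedSectionVars false

namespace H1.SPCoc

open H67.UA hiding Par
open H67.SP
open H67.SA (la)
open H59.SO (AutOn)
open H64.SG (Cs mem_Cs)
open H86.SPI (ac_TT TT_conj EE_mul' hf_self hf_comm hf_smul_right' ok q0_add q0_smul q0_ev
  TT_add_smul EE_sq TT_zero rt_zero)

variable {n : ℕ} {F : Type} [Field F] [StarRing F] [TrivialStar F] [CharP F 2] [Finite F] [Par n F]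

theorem h0l : hf (ev 0 : Vn n F) (ev (la n)) = 1 := by rw [hf_ev, if_pos (by simp [la])]

theorem hl0 : hf (ev (la n) : Vn n F) (ev 0) = 1 := by rw [hf_comm, h0l]

theorem hya {x y : Vn n F} (h : Hy x) (h' : Hy y) : Hy (x + y) :=
  ⟨by rw [hf_add_left, h.1, h'.1, add_zero], by rw [hf_add_left, h.2, h'.2, add_zero]⟩

theorem hys {x : Vn n F} (h : Hy x) (a : F) : Hy (a • x) :=
  ⟨by rw [hf_smul_left, h.1, mul_zero], by rw [hf_smul_left, h.2, mul_zero]⟩

theorem hy_zero : Hy (0 : Vn n F) := ⟨by simp, by simp⟩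

/-- projection onto `H` -/
theorem proj (w : Vn n F) : ∃ w', Hy w' ∧ ∀ y, Hy y → hf w' y = hf w y := by
  refine ⟨w + hf w (ev (la n)) • ev 0 + hf w (ev 0) • ev (la n), ⟨?_, ?_⟩, fun y hy => ?_⟩
  · simp only [hf_add_left, hf_smul_left, hf_self, hl0]
    linear_combination hf w (ev 0) * two0 F
  · simp only [hf_add_left, hf_smul_left, hf_self, h0l]
    linear_combination hf w (ev (la n)) * two0 F
  · simp only [hf_add_left, hf_smul_left, hf_symm hy.1, hf_symm hy.2]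
    ring

theorem EE_uq {x y : Vn n F} {c d : F} (hx : Hy x) (hy : Hy y)
    (e : EE (ev 0) x c = EE (ev 0) y d) : x = y ∧ c = d := by
  obtain ⟨a, h1, h2⟩ := EE_inj (ev_ne 0) (ok hx.1 c) (ok hy.1 d) e
  have := hy.2
  rw [h1, hf_add_left, hx.2, hf_smul_left, h0l, zero_add, mul_one] at this
  rw [h1, h2, this]
  simp

theorem TT_P {y : Vn n F} (h : Hy y) : TT y ∈ PP n F := by
  rw [mem_Stab, ac_TT, hf_symm h.1, zero_smul, add_zero]

theorem TT_sq (y : Vn n F) : TT y * TT y = 1 := EE_sq (by simp) 1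

/-- moving `EE` across a transvection -/
theorem EE_TT {x y : Vn n F} (hx : Hy x) (hy : Hy y) (c : F) :
    EE (ev 0) x c * TT y = TT y * EE (ev 0) (x + hf x y • y) c := by
  have := EE_conj (ok hx.1 c) (TT y)
  rw [mem_Stab.1 (TT_P hy), ac_TT, inv_eq_of_mul_eq_one_right (TT_sq y)] at this
  rw [← this, ← mul_assoc, ← mul_assoc, TT_sq, one_mul]

theorem mulE (g : XU n F) {x x' y' : Vn n F} (hx : Hy x) (hx' : Hy x') (hy' : Hy y') (c c' : F) :
    g * EE (ev 0) x c * (TT y' * EE (ev 0) x' c') =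
      g * TT y' * EE (ev 0) (x + hf x y' • y' + x') (c + c' + hf x' (x + hf x y' • y')) := by
  rw [← EE_mul' (hya hx (hys hy' _)).1 hx'.1, mul_assoc g, ← mul_assoc (EE (ev 0) x c), EE_TT hx hy']
  simp only [mul_assoc]

theorem exists_hf {y : Vn n F} (h : Hy y) (h0 : y ≠ 0) : ∃ a, Hy a ∧ hf a y ≠ 0 := by
  by_contra r
  push Not at r
  refine h0 (eq_of_hf fun w => ?_)
  obtain ⟨w', a, b⟩ := proj w
  rw [hf_comm, ← b y h, r w' a, hf_zero_left]

theorem const {g : Vn n F → F}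
    (h : ∀ y y', Hy y → Hy y' → y ≠ 0 → y' ≠ 0 → g (y' + hf y' y • y) = g y')
    {a b : Vn n F} (ha : Hy a) (hb : Hy b) (a0 : a ≠ 0) (b0 : b ≠ 0) : g a = g b := by
  have k : ∀ a b : Vn n F, Hy a → Hy b → hf a b ≠ 0 → g a = g b := fun a b ha hb e => by
    have a0 : a ≠ 0 := fun z => e (by simp [z])
    have l0 : rt (hf a b)⁻¹ ≠ 0 := rt_ne (inv_ne_zero e)
    have l2 : rt (hf a b)⁻¹ ^ 2 * hf a b = 1 := by rw [rt_sq, inv_mul_cancel₀ e]
    generalize rt (hf a b)⁻¹ = l at l0 l2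
    have := h (l • (a + b)) a (hys (hya ha hb) l) ha (fun z => e (by
      have z' := (smul_eq_zero.1 z).resolve_left l0
      have : a = b := by rw [← add_zero a, ← z', ← add_assoc, v_add_self, zero_add]
      rw [this, hf_self])) a0
    rw [← this]
    congr 1
    rw [hf_smul_right', hf_add_right, hf_self, zero_add, smul_smul,
      show l * hf a b * l = 1 by rw [← l2]; ring, one_smul, ← add_assoc, v_add_self, zero_add]
  obtain ⟨x, hx, x1⟩ := exists_hf ha a0
  obtain ⟨y, hy, y1⟩ := exists_hf hb b0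
  by_cases c : hf x b = 0
  · by_cases d : hf y a = 0
    · rw [← k _ a (hya hx hy) ha (by rwa [hf_add_left, d, add_zero]),
        k _ b (hya hx hy) hb (by rwa [hf_add_left, c, zero_add])]
    · rw [← k y a hy ha d, k y b hy hb y1]
  · rw [← k x a hx ha x1, k x b hx hb c]

theorem seven {u v w : Vn n F} (h1 : hf u v = 0) (h2 : hf u w = 0) (h3 : hf v w = 0) :
    1 * TT u * TT v * TT (u + v) * TT w * TT (u + w) * TT (v + w) * TT (u + v + w) = 1 :=
  ac_ext fun y => by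
    simp only [ac_mul, ac_TT, ac_one, hf_add_left, hf_add_right, hf_smul_left, hf_self, h1, h2, h3,
      hf_symm h1, hf_symm h2, hf_symm h3, add_zero, mul_zero]
    ext i
    simp only [Pi.add_apply, Pi.smul_apply, smul_eq_mul]
    linear_combination ((2 * hf y u + hf y v + hf y w) * u i + (hf y u + 2 * hf y v + hf y w) * v i +
      (hf y u + hf y v + 2 * hf y w) * w i) * two0 F

section
variable {θ : XU n F → XU n F}

theorem th_one (h : AutOn (PP n F) θ) : θ 1 = 1 := by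
  have := h.mul 1 (one_mem _) 1 (one_mem _)
  rw [mul_one] at this
  exact mul_eq_left.1 this.symm

theorem step1 [Base n F] (h : AutOn (PP n F) θ) (hq : ∀ u ∈ QQ n F, θ u = u) (y : Vn n F)
    (hy : Hy y) : ∃ x c, Hy x ∧ θ (TT y) = TT y * EE (ev 0) x c := by
  have : (TT y)⁻¹ * θ (TT y) ∈ Cs (QQ n F) := mem_Cs.2 fun u hu => by
    obtain ⟨x, c, hx, rfl⟩ := (FV.mem_QQ u).1 hu
    have x' : Hy (x + hf x y • y) := hya hx (hys hy _)
    have m : EE (ev 0) (x + hf x y • y) c ∈ QQ n F := (FV.mem_QQ _).2 ⟨_, _, x', rfl⟩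
    have p : ∀ {z : Vn n F}, Hy z → EE (ev 0) z c ∈ PP n F := fun hz => ac_EE_self (ok hz.1 c)
    have e := EE_TT x' hy c
    rw [hf_add_left, hf_smul_left, hf_self, mul_zero, add_zero, add_assoc, v_add_self,
      add_zero] at e
    have e' := congrArg θ e
    rw [h.mul _ (p x') _ (TT_P hy), h.mul _ (TT_P hy) _ (p hx), hq _ m, hq _ hu] at e'
    rw [mul_assoc, ← e', ← mul_assoc, ← mul_assoc, inv_eq_of_mul_eq_one_right (TT_sq y),
      EE_TT hx hy]
  rw [FR.cq _ (ev_ne 0)] at this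
  obtain ⟨x, c, hx, e⟩ := (FV.mem_QQ _).1 this
  exact ⟨x, c, hx, by rw [← e, mul_inv_cancel_left]⟩

theorem step2 [Base n F] (h : AutOn (PP n F) θ) (hq : ∀ u ∈ QQ n F, θ u = u) (y : Vn n F)
    (hy : Hy y) (y0 : y ≠ 0) : ∃ m c : F, θ (TT y) = TT y * EE (ev 0) (m • y) c := by
  obtain ⟨x, c, hx, e⟩ := step1 h hq y hy
  have s : hf x y = 0 := by
    have := h.mul _ (TT_P hy) _ (TT_P hy)
    rw [TT_sq, th_one h, e, mulE _ hx hx hy, TT_sq, one_mul, ← EE_zero (ev 0)] at this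
    have := (EE_uq hy_zero (hya (hya hx (hys hy _)) hx) this).1
    rw [add_right_comm, v_add_self, zero_add] at this
    exact (smul_eq_zero.1 this.symm).resolve_right y0
  obtain ⟨m, rfl⟩ := FW.dual y x y0 fun w hw => by
    obtain ⟨y', hy', b⟩ := proj w
    rw [← b y hy] at hw
    rw [← b x hx]
    obtain ⟨x', c', hx', e'⟩ := step1 h hq y' hy'
    have cm : TT y * TT y' = TT y' * TT y := by
      rw [← mul_inv_eq_iff_eq_mul, TT_conj, ac_TT, hw, zero_smul, add_zero]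
    have := congrArg θ cm
    rw [h.mul _ (TT_P hy) _ (TT_P hy'), h.mul _ (TT_P hy') _ (TT_P hy), e, e',
      mulE _ hx hx' hy', mulE _ hx' hx hy, cm, mul_right_inj] at this
    have k := (EE_uq (hya (hya hx (hys hy' _)) hx') (hya (hya hx' (hys hy _)) hx)
      this).1
    have k' : hf x y' • y' = hf x' y • y := by
      ext i
      have := congrFun k i
      simp only [Pi.add_apply] at this
      linear_combination this
    have k2 := congrArg (hf x) k'
    rw [hf_smul_right', hf_smul_right', s, mul_zero, mul_self_eq_zero] at k2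
    rw [hf_comm, k2]
  exact ⟨m, c, e⟩

theorem step3 (h : AutOn (PP n F) θ) {y y' : Vn n F} (hy : Hy y) (hy' : Hy y') (y0 : y' ≠ 0)
    {m c m' c' m'' c'' : F} (e : θ (TT y) = TT y * EE (ev 0) (m • y) c)
    (e' : θ (TT y') = TT y' * EE (ev 0) (m' • y') c')
    (e'' : θ (TT (y' + hf y' y • y)) =
      TT (y' + hf y' y • y) * EE (ev 0) (m'' • (y' + hf y' y • y)) c'') :
    m'' = m' + hf y' y * m ∧ c'' = c' + hf y' y ^ 2 * m ^ 2 := by
  have t : TT y * TT y' = TT (y' + hf y' y • y) * TT y := by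
    rw [← mul_inv_eq_iff_eq_mul, TT_conj, ac_TT]
  have z : Hy (y' + hf y' y • y) := hya hy' (hys hy _)
  have := congrArg θ t
  rw [h.mul _ (TT_P hy) _ (TT_P hy'), h.mul _ (TT_P z) _ (TT_P hy), e, e', e'',
    mulE _ (hys hy m) (hys hy' m') hy', mulE _ (hys z m'') (hys hy m) hy, t, mul_right_inj] at this
  obtain ⟨k1, k2⟩ := EE_uq (hya (hya (hys hy m) (hys hy' _)) (hys hy' m'))
    (hya (hya (hys z _) (hys hy _)) (hys hy m)) this
  simp only [hf_add_left, hf_add_right, hf_smul_left, hf_smul_right', hf_self,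
    hf_comm y y'] at k1 k2
  have k3 : m'' = m' + hf y' y * m := by
    obtain ⟨i, hi⟩ := Function.ne_iff.1 y0
    have := congrFun k1 i
    simp only [Pi.add_apply, Pi.smul_apply, smul_eq_mul] at this
    refine mul_right_cancel₀ hi ?_
    linear_combination -this - (m'' * hf y' y * y i) * two0 F
  refine ⟨k3, ?_⟩
  rw [k3] at k2
  linear_combination -k2 - (hf y' y ^ 2 * m ^ 2) * two0 F

/-- Products of commuting transvections. -/
def Rn (θ : XU n F → XU n F) (S : Vn n F → Prop) (g : XU n F) (C : F) : Prop :=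
  g ∈ PP n F ∧ ∃ X, Hy X ∧ (∀ w, S w → hf X w = 0) ∧ θ g = g * EE (ev 0) X C

theorem Rn.one (h : AutOn (PP n F) θ) (S : Vn n F → Prop) : Rn θ S 1 0 :=
  ⟨one_mem _, 0, hy_zero, fun _ _ => hf_zero_left _, by rw [th_one h, EE_zero, mul_one]⟩

theorem Rn.step (h : AutOn (PP n F) θ) {S : Vn n F → Prop} {m c : Vn n F → F}
    (h1 : ∀ w, S w → Hy w ∧ θ (TT w) = TT w * EE (ev 0) (m w • w) (c w))
    (h2 : ∀ w w', S w → S w' → hf w w' = 0) {g : XU n F} {C : F} (r : Rn θ S g C) {w : Vn n F}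
    (hw : S w) : Rn θ S (g * TT w) (C + c w) := by
  obtain ⟨a, X, b1, b2, b3⟩ := r
  obtain ⟨c1, c2⟩ := h1 w hw
  refine ⟨mul_mem a (TT_P c1), X + m w • w, hya b1 (hys c1 _), fun w' hw' => by
    rw [hf_add_left, hf_smul_left, b2 w' hw', h2 w w' hw hw', mul_zero, add_zero], ?_⟩
  rw [h.mul _ a _ (TT_P c1), b3, c2, mulE _ b1 (hys c1 _) c1, b2 w hw,
    zero_smul, add_zero, hf_smul_left, hf_comm w X, b2 w hw, mul_zero, add_zero]

theorem Rn.zero (h : AutOn (PP n F) θ) {S : Vn n F → Prop} {C : F} (r : Rn θ S 1 C) : C = 0 := by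
  obtain ⟨-, X, b1, -, b3⟩ := r
  rw [th_one h, one_mul, ← EE_zero (ev 0)] at b3
  exact (EE_uq hy_zero b1 b3).2.symm

end

theorem hf_ev0 (i j : Fin (n + 1)) (h : j.val + i.val ≠ n) : hf (ev i : Vn n F) (ev j) = 0 := by
  rw [hf_ev, if_neg]
  intro e
  have := i.2
  rw [e, Fin.val_rev] at h
  omega

theorem jobCOC : JobCOC := by
  intro n F _ _ _ _ _ p b hCF θ h hq
  have k : ∀ y : Vn n F, ∃ m c : F, Hy y → y ≠ 0 → θ (TT y) = TT y * EE (ev 0) (m • y) c :=
    fun y => by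
      by_cases a : Hy y ∧ y ≠ 0
      · obtain ⟨m, c, e⟩ := step2 h hq y a.1 a.2
        exact ⟨m, c, fun _ _ => e⟩
      · exact ⟨0, 0, fun a1 a2 => absurd ⟨a1, a2⟩ a⟩
  choose m c hm using k
  have s3 : ∀ y y' : Vn n F, Hy y → Hy y' → y ≠ 0 → y' ≠ 0 →
      m (y' + hf y' y • y) = m y' + hf y' y * m y ∧
        c (y' + hf y' y • y) = c y' + hf y' y ^ 2 * m y ^ 2 := fun y y' a a' z z' =>
    step3 h a a' z' (hm y a z) (hm y' a' z') (hm _ (hya a' (hys a _)) fun e => z' (by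
      rw [← ac_TT] at e
      exact ac_inj (TT y) (e.trans (ac_zero _).symm)))
  obtain ⟨κ, z, hz, hf2⟩ := hCF (fun y => m y ^ 2) fun y y' a a' z z' => by
    show m _ ^ 2 = m _ ^ 2 + _ * m _ ^ 2
    rw [(s3 y y' a a' z z').1, CharTwo.add_sq, mul_pow]
  have cst : ∀ {a b : Vn n F}, Hy a → Hy b → a ≠ 0 → b ≠ 0 → c a + m a ^ 2 = c b + m b ^ 2 :=
    const (g := fun y => c y + m y ^ 2) fun y y' a a' z z' => by
      show c _ + m _ ^ 2 = c _ + m _ ^ 2
      rw [(s3 y y' a a' z z').1, (s3 y y' a a' z z').2]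
      linear_combination (hf y' y ^ 2 * m y ^ 2 + m y' * hf y' y * m y) * two0 F
  have h5 := p.five
  let i1 : Fin (n + 1) := ⟨1, by omega⟩
  have hy : ∀ i : Fin (n + 1), i.val ≠ 0 → i.val ≠ n → Hy (ev i : Vn n F) := fun i a b =>
    ⟨hf_ev0 _ _ (by simpa using b), hf_ev0 _ _ (by simpa [la] using a)⟩
  have y1 : Hy (ev i1 : Vn n F) := hy _ (by simp [i1]) (by simp [i1]; omega)
  obtain ⟨c0, hc0⟩ : ∃ c0, c (ev i1) + m (ev i1) ^ 2 = c0 := ⟨_, rfl⟩
  have cc : ∀ y : Vn n F, Hy y → y ≠ 0 → c y = c0 + κ ^ 2 * (1 + q0 y) + hf z y ^ 2 :=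
    fun y a y0 => by
      have e1 := cst a y1 y0 (ev_ne _)
      have e2 : m y ^ 2 = _ := hf2 y a y0
      linear_combination e1 + hc0 + e2 - m y ^ 2 * two0 F
  have key : c0 = κ ^ 2 := by
    by_cases q : ∃ l : F, l ≠ 0 ∧ l ≠ 1
    · obtain ⟨l, l0, l1⟩ := q
      have l2 : 1 + l ≠ 0 := fun e => l1 (by linear_combination e - two0 F)
      let S : Vn n F → Prop := fun w => ∃ a : F, a ≠ 0 ∧ w = a • ev i1
      have S1 : ∀ w, S w → Hy w ∧ w ≠ 0 := fun w ⟨a, a0, e⟩ =>
        e ▸ ⟨hys y1 a, smul_ne_zero a0 (ev_ne _)⟩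
      have st := fun {g : XU n F} {C : F} (r : Rn θ S g C) {w : Vn n F} (hw : S w) =>
        Rn.step h (m := m) (c := c) (fun w hw => ⟨(S1 w hw).1, hm w (S1 w hw).1 (S1 w hw).2⟩)
          (fun w w' ⟨a, _, e⟩ ⟨a', _, e'⟩ => by
            rw [e, e', hf_smul_left, hf_smul_right', hf_self, mul_zero, mul_zero]) r hw
      have r := st (st (st (Rn.one h S) ⟨1, one_ne_zero, rfl⟩) ⟨l, l0, rfl⟩) ⟨1 + l, l2, rfl⟩
      rw [one_mul, TT_add_smul, TT_sq] at r
      have := r.zero h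
      rw [cc _ (hys y1 _) (smul_ne_zero one_ne_zero (ev_ne _)),
        cc _ (hys y1 _) (smul_ne_zero l0 (ev_ne _)),
        cc _ (hys y1 _) (smul_ne_zero l2 (ev_ne _))] at this
      simp only [q0_smul, q0_ev, hf_smul_right'] at this
      linear_combination this - (c0 + 2 * κ ^ 2 + (1 + l + l ^ 2) * hf z (ev i1) ^ 2) * two0 F
    · have n5 : n ≠ 5 := fun e => by
        have := p.four e
        have u : (Set.univ : Set F) ⊆ {0, 1} := fun l _ => by
          by_contra r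
          simp only [Set.mem_insert_iff, Set.mem_singleton_iff, not_or] at r
          exact q ⟨l, r⟩
        have := Set.ncard_le_ncard u (Set.toFinite _)
        rw [Set.ncard_univ, Set.ncard_pair zero_ne_one] at this
        omega
      obtain ⟨j, hj⟩ := p.odd
      let i2 : Fin (n + 1) := ⟨2, by omega⟩
      let i3 : Fin (n + 1) := ⟨3, by omega⟩
      have y2 : Hy (ev i2 : Vn n F) := hy _ (by simp [i2]) (by simp [i2]; omega)
      have y3 : Hy (ev i3 : Vn n F) := hy _ (by simp [i3]) (by simp [i3]; omega)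
      have p12 : hf (ev i1 : Vn n F) (ev i2) = 0 := hf_ev0 _ _ (by simp [i1, i2]; omega)
      have p13 : hf (ev i1 : Vn n F) (ev i3) = 0 := hf_ev0 _ _ (by simp [i1, i3]; omega)
      have p23 : hf (ev i2 : Vn n F) (ev i3) = 0 := hf_ev0 _ _ (by simp [i2, i3]; omega)
      let S : Vn n F → Prop := fun w => w ≠ 0 ∧ ∃ a b c : F, w = a • ev i1 + b • ev i2 + c • ev i3
      have S1 : ∀ w, S w → Hy w := fun w ⟨_, a, b, c, e⟩ =>
        e ▸ hya (hya (hys y1 a) (hys y2 b)) (hys y3 c)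
      have S2 : ∀ w, S w → c w = c0 + κ ^ 2 + hf z w ^ 2 := fun w hw => by
        rw [cc w (S1 w hw) hw.1]
        obtain ⟨-, a, b, c, rfl⟩ := hw
        simp [q0_add, q0_smul, q0_ev, hf_add_left, hf_smul_left, hf_smul_right', p12, p13, p23]
      have st := fun {g : XU n F} {C : F} (r : Rn θ S g C) {w : Vn n F} (hw : S w) =>
        Rn.step h (m := m) (c := c) (fun w hw => ⟨S1 w hw, hm w (S1 w hw) hw.1⟩)
          (fun w w' ⟨_, a, b, c, e⟩ ⟨_, a', b', c', e'⟩ => by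
            simp [e, e', hf_add_left, hf_add_right, hf_smul_left, hf_smul_right', hf_self, p12, p13,
              p23, hf_symm p12, hf_symm p13, hf_symm p23]) r hw
      have n1 : ∀ {w : Vn n F}, w i1 = 1 → w ≠ 0 := fun e z => by simp [z] at e
      have n2 : ∀ {w : Vn n F}, w i2 = 1 → w ≠ 0 := fun e z => by simp [z] at e
      have s1 : S (ev i1) := ⟨ev_ne _, 1, 0, 0, by simp⟩
      have s2 : S (ev i2) := ⟨ev_ne _, 0, 1, 0, by simp⟩
      have s3 : S (ev i3) := ⟨ev_ne _, 0, 0, 1, by simp⟩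
      have s12 : S (ev i1 + ev i2) := ⟨n1 (by simp [ev_apply, i1, i2]), 1, 1, 0, by simp⟩
      have s13 : S (ev i1 + ev i3) := ⟨n1 (by simp [ev_apply, i1, i3]), 1, 0, 1, by simp⟩
      have s23 : S (ev i2 + ev i3) := ⟨n2 (by simp [ev_apply, i2, i3]), 0, 1, 1, by simp⟩
      have s123 : S (ev i1 + ev i2 + ev i3) :=
        ⟨n1 (by simp [ev_apply, i1, i2, i3]), 1, 1, 1, by simp⟩
      have r := st (st (st (st (st (st (st (Rn.one h S) s1) s2) s12) s3) s13) s23) s123
      rw [seven p12 p13 p23] at r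
      have := r.zero h
      rw [S2 _ s1, S2 _ s2, S2 _ s3, S2 _ s12, S2 _ s13, S2 _ s23, S2 _ s123] at this
      simp only [hf_add_right] at this
      generalize hf z (ev i1) = A at this
      generalize hf z (ev i2) = B at this
      generalize hf z (ev i3) = C at this
      linear_combination this - (3 * c0 + 4 * κ ^ 2 + 2 * A ^ 2 + 2 * B ^ 2 + 2 * C ^ 2 +
        2 * A * B + 2 * A * C + 2 * B * C) * two0 F
  refine ⟨EE (ev 0) z 0, (FV.mem_QQ _).2 ⟨z, 0, hz, rfl⟩, κ, fun y a => ?_⟩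
  rw [inv_eq_of_mul_eq_one_right (EE_sq hz.1 0)]
  by_cases y0 : y = 0
  · rw [y0, TT_zero, th_one h, smul_zero, H86.SPI.q0_zero, mul_zero, EE_zero, mul_one, mul_one,
      EE_sq hz.1]
  have e1 : m y = κ * rt (1 + q0 y) + hf z y := sq_inj (by
    rw [CharTwo.add_sq, mul_pow, rt_sq]; exact hf2 y a y0)
  rw [hm y a y0, ← mul_assoc, EE_TT hz a, mul_assoc, mul_assoc, mul_right_inj,
    EE_mul' (hys a _).1 hz.1, EE_mul' (hya hz (hys a _)).1 (hya (hys a _) hz).1, e1,
    cc y a y0, key]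
  congr 1
  · ext i
    simp only [Pi.add_apply, Pi.smul_apply, smul_eq_mul]
    linear_combination -(z i) * two0 F
  · simp only [hf_add_left, hf_add_right, hf_smul_left, hf_smul_right', hf_self, hf_comm y z]
    linear_combination (κ ^ 2 - κ * rt (1 + q0 y) * hf z y) * two0 F

end H1.SPCoc
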