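import Cfsg.Agent.H86.SPGDef

/-! STD-SP type I, slot BA: the ambient reduction for `a_l`. -/

set_option autoImplicit false
set_option linter.unusedSectionVars false

namespace H1.SPGBA

open H64.SG (Cz Cs Ns Inv2 IsO2 mem_Cz)
open H67.UA hiding Par
open H67.SP H86.SPG Subgroup
open H59.SO (Ind B1 B0 CE cje cje_apply map_cje inj_cje)

universe u

section Gen

variable {X : Type} [Group X] {G : Type u} [Group G] {e : X →* G}

theorem o2_map (hk : Function.Injective e) {Q A : Subgroup X} (h : IsO2 Q A) :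
    IsO2 (Q.map e) (A.map e) := by
  refine ⟨map_mono h.1, ?_, h.2.2.1.map _, fun R h1 h2 h3 => ?_⟩
  · rintro _ ⟨a, ha, rfl⟩
    exact H59.SO.map_mem_Ns (h.2.1 ha)
  · have h5 : (R.comap e).map e = R := map_comap_eq_self (h1.trans (map_le_range _ _))
    rw [← h5]
    refine map_mono (h.2.2.2 _ ?_ (fun a ha => ?_) (h3.comap_of_injective e hk))
    · rw [← map_le_map_iff_of_injective hk, h5]; exact h1
    · rw [← H59.SO.e_mem_Ns_map hk, h5]; exact h2 ⟨a, ha, rfl⟩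

theorem o2_uq {Q Q' A : Subgroup G} (h : IsO2 Q A) (h' : IsO2 Q' A) : Q = Q' :=
  le_antisymm (h'.2.2.2 _ h.1 h.2.1 h.2.2.1) (h.2.2.2 _ h'.1 h'.2.1 h'.2.2.1)

theorem map_cs (hk : Function.Injective e) {M Q : Subgroup X} (h1 : M ≤ Q) (h2 : Cs Q = M) :
    M.map e = Q.map e ⊓ Cs (Q.map e) := by
  refine le_antisymm (le_inf (map_mono h1) ?_) ?_
  · rintro _ ⟨a, ha, rfl⟩
    exact H59.SO.map_mem_Cs (h2.ge ha)
  · rintro _ ⟨⟨a, -, rfl⟩, ha⟩
    exact ⟨a, h2.le ((H59.SO.e_mem_Cs_map hk).1 ha), rfl⟩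

theorem cj_comm {g a b : G} (h : a * b = b * a) :
    g * a * g⁻¹ * (g * b * g⁻¹) = g * b * g⁻¹ * (g * a * g⁻¹) := by
  rw [conj_mul, conj_mul, h]

end Gen

variable {n : ℕ} {F : Type} [Field F] [StarRing F] [TrivialStar F] [CharP F 2] [Finite F]
  {G : Type u} [Group G] [Finite G] {e : XU n F →* G} {t : G}

theorem nr' [FA n F] (h : B0 e t) {z : XU n F} (hz : z ∈ Pc (Cz z)) : ¬ IsConj t (e z) := fun c => by
  obtain ⟨g, hg⟩ := isConj_iff.1 c
  have h' := h.cje g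
  rw [hg] at h'
  exact h'.toB1.not_mem FA.ns (H4.SFAB.pf0 FA.a3 h' (map_Pc_le e z) (map_Pc_perf e _)
    ⟨z, hz, rfl⟩)

theorem rk_one : rk (1 : XU n F) = 0 := by simp [rk, mt_one]

theorem fu_of {g : G} {x u : XU n F} (hx : x * x = 1) (h1 : g * t * g⁻¹ = t * e x)
    (h2 : g * e u * g⁻¹ = e x) : g * (t * e u) * g⁻¹ = t := by
  rw [← conj_mul, h1, h2, mul_assoc, ← map_mul, hx, map_one, mul_one]

theorem jobBA : JobBA.{u} := by
  intro n F _ _ _ _ _ _ G _ _ e t b fc bd bn bp bo bc h ca mv j hj hj4 fu hmin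
  obtain ⟨nf, rkx, -⟩ := bn.nfa j hj4
  generalize hxd : al n F j = x at nf rkx fu
  have l4 : 4 ≤ 2 * j := by omega
  have l2 : 2 * (2 * j) ≤ n + 1 := by omega
  have xM : x ∈ Mk n F (2 * j) := (FV.mem_M _ _).2 fun v => (nf.im _).1 ⟨v, rfl⟩
  have xP : x ∈ Pc (Cz x) := bp x _ nf l4 l2 (bd.mq _ l2 xM)
  have A := ab h
  obtain ⟨g, hg⟩ := isConj_iff.1 fu
  have kz : ∀ a, a * t = t * a → a * e x = e x * a → a ∈ Cz (g * t * g⁻¹) := fun a h1 h2 => by
    rw [hg, mem_Cz, mul_assoc, ← h2, ← mul_assoc, ← h1, mul_assoc]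
  have hP : (Pc (Cz x)).map e ≤ (cje g e).range :=
    H4.SFAB.pf0 FA.a3 (h.cje g) (fun a ha => kz a
      (mem_Cz.1 (h.range_le (map_le_range _ _ ha))).symm (mem_Cz.1 (map_Pc_le e x ha)).symm)
      (map_Pc_perf _ _)
  obtain ⟨u1, hu1⟩ := hP ⟨x, xP, rfl⟩
  rw [cje_apply] at hu1
  have u1sq : u1 * u1 = 1 := h.inj (by
    have : g * e (u1 * u1) * g⁻¹ = 1 := by
      rw [map_mul, ← conj_mul, hu1, ← map_mul, nf.sq, map_one]
    rw [map_one]; exact conj_eq_one_iff.1 this)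
  have x1 : x ≠ 1 := fun h0 => by rw [h0, rk_one] at rkx; omega
  have u1ne : u1 ≠ 1 := fun h0 => x1 (h.inj (by rw [← hu1, h0]; simp))
  have f1 := fu_of nf.sq hg hu1
  have edge := A.edge g x u1 hg hu1
  obtain ⟨d, hd⟩ := bd.ex u1 u1sq
  obtain ⟨alt, usq, cz⟩ := bd.alt u1 d u1sq hd
  have cT : TT d * u1 = u1 * TT d := mem_Cz.1 (cz (mem_Cz.2 rfl))
  have Tsq : TT d * TT d = 1 := by
    rw [mul_assoc, ← mul_assoc (TT d), cT, mul_assoc, ← mul_assoc, u1sq, one_mul] at usq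
    exact usq
  have une : u1 * TT d ≠ 1 := fun h0 => by
    have h1 : u1 = TT d := by
      rw [← mul_one u1, ← Tsq, ← mul_assoc, h0, one_mul]
    have lr : Lr u1 := ⟨d, fun h2 => u1ne (by rw [h1, h2, H86.SPI.TT_zero]), h1⟩
    obtain ⟨g1, k1, k2⟩ := mv u1 lr
    have k3 : g * g1 * t * (g * g1)⁻¹ = t := by
      conv_rhs => rw [← f1, ← k1]
      group
    obtain ⟨β, hβ⟩ := H59.SO.exists_ind h.inj (h.cz (mem_Cz.2 (mul_inv_eq_iff_eq_mul.1 k3).symm))
    have k4 : β u1 = x := (hβ.eq_iff h.inj).1 (by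
      rw [← hu1, mul_assoc g g1, k2]; group)
    have k5 := ((FR.rk x).1.1 (k4 ▸ (FA.cls β u1).1 lr)).2
    omega
  -- `k`
  obtain ⟨k, hk⟩ : ∃ k, k = g * e (TT d) * g⁻¹ := ⟨_, rfl⟩
  have ks : k * (t * e x) = t * e x * k := by rw [hk, ← hg]; exact cj_comm (h.toB1.comm _).symm
  have kx : k * e x = e x * k := by
    rw [hk, ← hu1]; exact cj_comm (by rw [← map_mul, cT, map_mul])
  have kt : t * k = k * t := by
    rw [← mul_assoc, mul_assoc t, ← kx, ← mul_assoc] at ks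
    exact (mul_right_cancel ks).symm
  have ksq : k * k = 1 := by rw [hk, conj_mul, ← map_mul, Tsq]; simp
  obtain ⟨α, hα⟩ := H59.SO.exists_ind h.inj (h.cz (mem_Cz.2 kt))
  have kc : k ∈ Cs ((Pc (Cz x)).map e) := by
    rw [← edge, ← H64.SG.cj_Cs, hk]
    exact H67.SA.conj_mem_cjs.2 (H59.SO.map_mem_Cs fun a ha => (mem_Cz.1 (cz (Pc_le _ ha))).symm)
  obtain ⟨m, rfl, hm⟩ := bc.ca x _ nf l4 l2 α (hα.fix h.inj kc)
  have msq : m * m = 1 := FA.ns.cen _ (by rw [map_mul]; exact hα.sq h.inj ksq)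
  have km : k * e m = e m * k := hα.comm (by simp)
  have mi : (e m)⁻¹ = e m := inv_eq_of_mul_eq_one_right (by rw [← map_mul, msq, map_one])
  have k0 := H59.SO.ind_conj_iff.1 hα
  rw [mi] at k0
  obtain ⟨w, w1, w2⟩ := ca u1 d u1sq hd
  have s0 : g * w * t * (g * w)⁻¹ = t * e x * k := by
    rw [← hg, hk, conj_mul, ← w2]; group
  have mm : e m * e m = 1 := by rw [← map_mul, msq, map_one]
  have hkm : k = e m := by
    rcases h.uniq k0 (by rw [mul_assoc, ← mul_assoc (e m), ← km, mul_assoc, ← mul_assoc, ksq, mm, mul_one])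
      (by rw [← mul_assoc, kt, mul_assoc, h.toB1.comm, mul_assoc]) with k1 | k1
    · rw [← mul_one k, ← mm, ← mul_assoc, k1, one_mul]
    · exfalso
      have k2 : k = t * e m := by rw [← k1, mul_assoc, mm, mul_one]
      have k3 : t * e x * k = e (x * m) := by
        rw [k2, h.toB1.comm x, mul_assoc, ← mul_assoc t, h.inv.1, one_mul, map_mul]
      have k4 : IsConj t (e (x * m)) := isConj_iff.2 ⟨_, s0.trans k3⟩
      rcases hm with k5 | k5
      · rw [k5, map_one, isConj_one_left] at k4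
        exact h.inv.2 k4
      · exact nr' h xP (k4.trans (e.map_isConj k5).symm)
  have hm' : IsConj x (x * m) := hm.resolve_left fun k5 => une (by
    have k6 : g * e (u1 * TT d) * g⁻¹ = 1 := by
      rw [map_mul, ← conj_mul, hu1, ← hk, hkm, ← map_mul, k5, map_one]
    exact h.inj (by rw [map_one]; exact conj_eq_one_iff.1 k6))
  obtain ⟨c, hc⟩ := isConj_iff.1 hm'.symm
  obtain ⟨j1, a, hj1, ha⟩ := bn.nf _ usq alt
  obtain ⟨nf1, rk1, -⟩ := bn.nfa j1 hj1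
  have p1 : e c * (g * w) * t * (e c * (g * w))⁻¹ = t * e x := by
    rw [show e c * (g * w) * t * (e c * (g * w))⁻¹ = e c * (g * w * t * (g * w)⁻¹) * (e c)⁻¹ by group,
      s0, hkm, mul_assoc t, ← conj_mul, h.toB1.conj_t, ← map_mul, ← map_inv, ← map_mul, ← map_mul, hc]
  have p2 : e c * (g * w) * e (u1 * TT d) * (e c * (g * w))⁻¹ = e x := by
    rw [show e c * (g * w) * e (u1 * TT d) * (e c * (g * w))⁻¹ =
        e c * (g * (w * e (u1 * TT d) * w⁻¹) * g⁻¹) * (e c)⁻¹ by group, w1, mul_inv_cancel_right,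
      map_mul, ← conj_mul (b := g), hu1, ← hk, hkm, ← map_mul, ← map_inv, ← map_mul, ← map_mul, hc]
  have f2 : Fu e t (u1 * TT d) := (isConj_iff.2 ⟨_, fu_of nf.sq p1 p2⟩).symm
  have r1 : rk (u1 * TT d) = 2 * j1 := by
    rw [← rk1]
    exact ((FW.rkc _ _ nf1.sq usq).1 (isConj_iff.2 ⟨a, ha.symm⟩)).1.symm
  have jj : j ≤ j1 := by
    have := (hmin _ usq alt f2).resolve_left une
    omega
  obtain ⟨g2, hg2⟩ : ∃ g2, g2 = e c * (g * w) * e a := ⟨_, rfl⟩
  have q1 : g2 * t * g2⁻¹ = t * e x := by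
    rw [← p1, hg2]
    conv_rhs => rw [← h.toB1.conj_t a]
    group
  have q2 : g2 * e (al n F j1) * g2⁻¹ = e x := by
    rw [← p2, hg2, ha, map_mul, map_mul, map_inv]; group
  have l4' : 4 ≤ 2 * j1 := by omega
  have l2' : 2 * (2 * j1) ≤ n + 1 := by omega
  have e2 := A.edge g2 x _ q1 q2
  rw [← map_cje] at e2
  have o1 := o2_map (inj_cje h.inj g2) (bo _ _ nf1 l4' l2')
  rw [e2] at o1
  have o3 := o2_uq o1 (o2_map h.inj (bo _ _ nf l4 l2))
  have o4 : (Mk n F (2 * j1)).map (cje g2 e) = (Mk n F (2 * j)).map e := by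
    rw [map_cs (inj_cje h.inj g2) (bd.mq _ l2') (bc.cq _ l4' l2'),
      map_cs h.inj (bd.mq _ l2) (bc.cq _ l4 l2), o3]
  have je : j1 = j := by
    by_contra hne
    have := bd.lt (2 * j) (2 * j1) (by omega) l2'
    rw [← H59.SO.card_map_e (inj_cje h.inj g2) (A := Mk n F (2 * j1)), o4,
      H59.SO.card_map_e h.inj] at this
    exact lt_irrefl _ this
  rw [je, map_cje] at o4
  exact ⟨g2, q1, o4⟩

end H1.SPGBA
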