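import Cfsg.Agent.H86.SPIKit

/-! STD-SP chapter I, slot K1: the parameter `k` is `1`. -/

set_option autoImplicit false
set_option linter.unusedSectionVars false

namespace H1.SPIK1

open H67.UA hiding Par
open H67.SP H86.SPI

universe u

variable {n : ℕ} {F : Type} [Field F] [StarRing F] [TrivialStar F] [CharP F 2] [Finite F] [Par n F]
  {G : Type u} [Group G] {e : XU n F →* G} {t : G} {k : F} {y : Vn n F → G}

/-- An element that commutes with `e z` moves `t` to `t e w`. -/
def Mw (e : XU n F →* G) (t : G) (z w : XU n F) : Prop :=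
  ∃ m : G, m * t * m⁻¹ = t * e w ∧ m * e z = e z * m

theorem Mw.step {z w a b : XU n F} (h : Mw e t z w) {g : G} (h1 : g * e z = e z * g)
    (h2 : g * t * g⁻¹ = t * e a) (h3 : g * e w * g⁻¹ = e b) : Mw e t z (a * b) := by
  obtain ⟨m, m1, m2⟩ := h
  refine ⟨g * m, ?_, by rw [mul_assoc, m2, ← mul_assoc, h1, mul_assoc]⟩
  rw [map_mul, ← mul_assoc t, ← h2, ← h3,
    show g * m * t * (g * m)⁻¹ = g * (m * t * m⁻¹) * g⁻¹ by group, m1]
  group

theorem core (hT : MT n F) (hF : FC n F) (hA : AV e t) (k0 : k ≠ 0) (h2 : Fam2 e t k y)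
    (hD : DD e t k y) (hQ : DQ e y) {u v x f : Vn n F} (tr : Tri u x f) (qv : q0 v = 0)
    (uv : hf u v = 0) (xv : hf x v = 0) (fv : hf f v = 0) (li : Li u v) (v0 : v ≠ 0) : k = 1 := by
  by_contra k1
  have k1' : 1 + k ≠ 0 := fun h => k1 (by linear_combination h - two0 F)
  have l0 : k + k ^ 2 ≠ 0 := by
    rw [show k + k ^ 2 = k * (1 + k) by ring]; exact mul_ne_zero k0 k1'
  generalize hl : k + k ^ 2 = l at l0
  have xu : ∀ a : F, hf (a • x) u = 0 := fun a => by rw [hf_smul_left, hf_symm tr.p, mul_zero]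
  have fu : ∀ a : F, hf (a • f) u = 0 := fun a => by rw [hf_smul_left, hf_symm tr.xf, mul_zero]
  have xf : hf x f = 1 := tr.one
  have fx : hf f x = 1 := by rw [hf_comm, xf]
  have zf : ∀ {w : Vn n F}, hf w v = 0 → ac (TT v) w = w := fun h => by
    rw [ac_TT, h, zero_smul, add_zero]
  have cu : ∀ c : F, q0 (c • u) = 0 := fun c => by rw [q0_smul, tr.l, mul_zero]
  have cv : ∀ (c : F) {w : Vn n F}, hf u w = 0 → hf (c • u) w = 0 := fun c w h => by
    rw [hf_smul_left, h, mul_zero]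
  -- the defects
  have dT : ∀ (c : F) (w : Vn n F), q0 w = 0 → hf u w = 0 →
      dd y (c • u) w * t * (dd y (c • u) w)⁻¹ = t * e (qq ((c * l) • w) u) := fun c w a b => by
    rw [(hD _ w (cu c) a (cv c b)).2, hl, ← star_trivial c, ← qq_smul, smul_smul, star_trivial]
  have dZ : ∀ (c : F) (w : Vn n F), q0 w = 0 → hf u w = 0 → hf w v = 0 →
      dd y (c • u) w * e (TT v) = e (TT v) * dd y (c • u) w := fun c w a b b' =>
    (hD _ w (cu c) a (cv c b)).1 _ (zf (cv c uv)) (zf b')
  -- a good parameter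
  obtain ⟨s, s0, ν, n0, hs⟩ : ∃ s : F, s ≠ 0 ∧ ∃ ν : F, ν ≠ l ∧
      dd y u x * e (qq (s • f) u) * (dd y u x)⁻¹ = e (qq (s • f) u * qq (ν • x) u) := by
    by_contra r
    push Not at r
    have a : ∀ s : F, s ≠ 0 →
        dd y u x * e (qq (s • f) u) * (dd y u x)⁻¹ = e (qq (s • f) u * qq (l • x) u) := fun s s0 => by
      obtain ⟨ν, h⟩ := hQ u x f tr s
      by_cases c : ν = l
      · rw [← c]; exact h
      · exact absurd h (r s s0 ν c)
    have b := a _ k1'
    have c : qq ((1 : F) • f) u * qq (l • x) u * (qq (k • f) u * qq (l • x) u) =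
        qq ((1 + k) • f) u := by
      rw [EE_mul' (fu _) (xu _), EE_mul' (fu _) (xu _),
        EE_mul' (by rw [hf_add_left, fu, xu, add_zero]) (by rw [hf_add_left, fu, xu, add_zero])]
      congr 1
      · ext i
        simp only [Pi.add_apply, Pi.smul_apply, smul_eq_mul]
        linear_combination (l * x i) * two0 F
      · simp only [hf_add_left, hf_add_right, hf_smul_left, hf_smul_right', hf_self, xf, fx]
        linear_combination (l + l * k) * two0 F
    have d : dd y u x * e (qq ((1 + k) • f) u) * (dd y u x)⁻¹ = e (qq ((1 + k) • f) u) := by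
      conv_rhs => rw [← c, map_mul, ← a 1 one_ne_zero, ← a k k0]
      rw [← qq_add_smul tr.xf, map_mul]
      group
    have g : qq (l • x) u = 1 := by
      have := hA.inj (b.symm.trans d)
      rwa [mul_eq_left] at this
    exact l0 (hF.uq u x tr.p tr.li 0 0 l 0 0 0 (by rw [g]; simp)).2.2
  have θ0 : l + ν ≠ 0 := fun h => n0 (by linear_combination h - l * two0 F)
  generalize hθ : l + ν = θ at θ0
  have m1 : Mw e t (TT v) (qq (s • f) u) :=
    ⟨dd y ((s / l) • u) f, by rw [dT _ f tr.s tr.xf, div_mul_cancel₀ _ l0], dZ _ f tr.s tr.xf fv⟩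
  have m2 : Mw e t (TT v) (EE u (θ • x + s • f) (s * θ)) := by
    have a := dT 1 x tr.r tr.p
    have b := dZ 1 x tr.r tr.p xv
    rw [one_smul] at a b
    convert m1.step b a hs using 1
    rw [EE_mul' (fu _) (xu _), EE_mul' (xu _) (by rw [hf_add_left, fu, xu, add_zero])]
    congr 1
    · rw [← hθ]; module
    · simp only [hf_add_left, hf_smul_left, hf_smul_right', hf_self, xf, fx, ← hθ]
      ring
  have m3 : Mw e t (TT v) (EE u (θ • x) (s * θ)) := by
    have := m2.step (g := e (TT (rt (s / θ) • f))) (a := 1) (b := EE u (θ • x) (s * θ))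
      (by rw [← map_mul, ← map_mul, mul_inv_eq_iff_eq_mul.1 (TT_conj _ v), ac_TT, hf_smul_right',
        hf_symm fv, mul_zero, zero_smul, add_zero])
      (by rw [← hA.cen, map_one, mul_one, mul_inv_cancel_right])
      (by
        rw [← map_inv, ← map_mul, ← map_mul,
          EE_conj (ok (by rw [hf_add_left, fu, xu, add_zero]) _), ac_TT, ac_TT]
        simp only [hf_add_left, hf_smul_left, hf_smul_right', hf_self, xf, tr.xf]
        congr 2
        · simp
        · have := rt_sq (s / θ)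
          generalize rt (s / θ) = d at this
          have h' : θ * d ^ 2 = s := by rw [this]; field_simp
          ext i
          simp only [Pi.add_apply, Pi.smul_apply, smul_eq_mul]
          linear_combination (f i) * h' + (s * f i) * two0 F)
    rwa [one_mul] at this
  have m4 : Mw e t (TT v) (TT (rt (s * θ) • u)) := by
    have := m3.step (dZ (θ / l) x tr.r tr.p xv) (dT _ x tr.r tr.p) (b := EE u (θ • x) (s * θ))
      (mul_inv_eq_iff_eq_mul.2 ((hD _ x (cu _) tr.r (cv _ tr.p)).1 _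
        (by rw [ac_smul, ac_EE_self (ok (xu _) _)])
        (ac_EE_fix (ok (xu _) _) (hf_symm tr.p) (by rw [hf_smul_right', hf_self, mul_zero]))))
    rw [div_mul_cancel₀ _ l0, EE_mul' (xu _) (xu _), v_add_self, hf_self, zero_add, add_zero] at this
    rwa [TT_smul, rt_sq]
  have r0 : rt (s * θ) ≠ 0 := rt_ne (mul_ne_zero s0 θ0)
  generalize rt (s * θ) = r at m4 r0
  obtain ⟨m, m5, m6⟩ := m4
  have a0 : r / k ≠ 0 := div_ne_zero r0 k0
  have y1 := h2.tr _ (cu (r / k))
  rw [smul_smul, mul_div_cancel₀ _ k0] at y1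
  have y2 := h2.toFam.act_TT hT (cu (r / k)) (cu r)
    (by rw [hf_smul_left, hf_smul_right', hf_self, mul_zero, mul_zero])
  rw [← star_trivial (r / k), ← qq_smul, smul_smul, qq_dep, mul_one, star_trivial] at y2
  have y3 := h2.toFam.act_TT hT (cu (r / k)) qv (cv _ uv)
  obtain ⟨w, hw, e1⟩ := hA.lr (y ((r / k) • u) * m) (TT v) (by
    rw [← mul_inv_eq_iff_eq_mul, show y ((r / k) • u) * m * t * (y ((r / k) • u) * m)⁻¹ =
      y ((r / k) • u) * (m * t * m⁻¹) * (y ((r / k) • u))⁻¹ by group, m5,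
      show ∀ a b c : G, a * (b * c) * a⁻¹ = a * b * a⁻¹ * (a * c * a⁻¹) from fun a b c => by group,
      y1, y2, mul_assoc, ← map_mul, EE_sq (by simp), map_one, mul_one]) ⟨v, v0, rfl⟩
  rw [show y ((r / k) • u) * m * e (TT v) * (y ((r / k) • u) * m)⁻¹ =
    y ((r / k) • u) * (m * e (TT v) * m⁻¹) * (y ((r / k) • u))⁻¹ by group, m6,
    mul_inv_cancel_right, y3] at e1
  refine hF.ncr ((r / k) • u) v (cv _ uv) (fun a b h => ?_) (hA.inj e1 ▸ hw)
  rw [smul_smul] at h
  obtain ⟨h1, h3⟩ := li _ _ h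
  exact ⟨(mul_eq_zero.1 h1).resolve_right a0, h3⟩

theorem li_ev {i j : Fin (n + 1)} (h : i ≠ j) : Li (ev i : Vn n F) (ev j) := fun a b k =>
  ⟨by simpa [ev_apply, h] using congrFun k i, by simpa [ev_apply, h.symm] using congrFun k j⟩

theorem jobK1 : JobK1.{u} := by
  intro n F _ _ _ _ _ p G _ _ e t _ hT _ hF hA k y k0 h2 hD hQ
  have h5 := p.five
  let i0 : Fin (n + 1) := ⟨0, by omega⟩
  let i1 : Fin (n + 1) := ⟨1, by omega⟩
  let i2 : Fin (n + 1) := ⟨2, by omega⟩
  have z : ∀ i j : Fin (n + 1), j.val + i.val ≠ n → hf (ev i : Vn n F) (ev j) = 0 := fun i j h => by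
    rw [hf_ev, if_neg]
    intro e
    have := i.2
    rw [e, Fin.val_rev] at h
    omega
  exact core hT hF hA k0 h2 hD hQ (u := ev i0) (v := ev i1) (x := ev i2) (f := ev i2.rev)
    ⟨⟨q0_ev _, q0_ev _, z _ _ (by simp [i0, i2]; omega), li_ev (by simp [i0, i2])⟩, q0_ev _,
      z _ _ (by simp [i0, i2]; omega), by rw [hf_ev, if_pos rfl]⟩ (q0_ev _)
    (z _ _ (by simp [i0, i1]; omega)) (z _ _ (by simp [i1, i2]; omega))
    (z _ _ (by simp [i1, i2]; omega)) (li_ev (by simp [i0, i1])) (ev_ne _)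

end H1.SPIK1
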