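/- STD-F4, slot M5: the centraliser of `z₀` in `E₆(F)` and `²E₆(q)`. -/
import Cfsg.Agent.H64.SFMod
import Cfsg.Agent.H46.SFY
import Cfsg.Agent.H67.SABasic

set_option autoImplicit false
set_option linter.unusedSectionVars false

namespace H1.SF5

open Cfsg.Lie H63 H65 H64 H64.SF Subgroup
open H64.SG (Cz Cs Ns UU UJ mem_Cz mem_Cs x_mem_gen)
open H86.WR (XF US)
open H46.SF
open H68 (rhoE6)

/-- the roots of `QE` -/
def qe (s : ℕ) : Prop := s < 72 ∧ 36 ≤ s ∧ ¬ (certE6.rtc s 0 = 0 ∧ certE6.rtc s 5 = 0)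

instance (s : ℕ) : Decidable (qe s) := by unfold qe; infer_instance

theorem qe_iff (r : H63.Rt chevE6) : (Pos r ∧ r ∉ (H64.wdata chevE6).PhiJ
    {i | (i : ℕ) ≠ 0 ∧ (i : ℕ) ≠ 5}) ↔ qe r := by
  rw [H64.mem_PhiJ_iff]
  revert r
  simp only [Pos, rt_E6, Set.mem_ofPred_eq]
  decide +kernel

theorem qe_facts : (∀ s < 72, qe s → qe (rhoE6 s) ∧ 0 ≤ chevE6.pairing s (o1 44) ∧
    0 ≤ chevE6.pairing s (o2 44)) ∧ ∀ r ∈ lQ 44, qe (o1 r) ∧ qe (o2 r) := by decide +kernel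

variable {K : Type} [Field K] [Finite K] [CharP K 2]

theorem x_QE {s : ℕ} (h : qe s) (a : K) : xG chevE6 K s a ∈ QE K :=
  x_mem_gen (r := ⟨s, h.1⟩) ((qe_iff _).2 h) a

theorem QE_le {A : Subgroup (chevE6.group K)} (h : ∀ s, qe s → ∀ a, xG chevE6 K s a ∈ A) :
    QE K ≤ A := H64.SG.gen_le_iff.2 fun r hr a => h r ((qe_iff r).1 hr) a

theorem QE_two : IsPGroup 2 (QE K) :=
  (H64.SG.syl_UU chevE6 K).isPGroup.to_le (gen_mono _ fun _ h => h.1)

theorem yE_QE {r : ℕ} (h : r ∈ lQ 44) (a b : K) : yE K r a b ∈ QE K := by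
  obtain ⟨h1, h2⟩ := qe_facts.2 r h
  cases e : sh r
  · rw [yE_long e]; exact x_QE h1 a
  · rw [yE_short e]; exact mul_mem (x_QE h1 a) (x_QE h2 b)

theorem sh44 : sh 44 = true := by decide +kernel

theorem QE_cen (a b : K) : QE K ≤ Cz (yE K 44 a b) := QE_le fun s hs c => by
  obtain ⟨-, h1, h2⟩ := qe_facts.1 s hs.1 hs
  obtain ⟨k1, k2, -⟩ := o_facts 44 (by decide)
  rw [yE_short sh44]
  exact mem_Cz.2 (Commute.mul_right
    (etE6.comm_of_nonneg (stE K) (r := ⟨s, hs.1⟩) (s := ⟨_, k1⟩) h1 c a)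
    (etE6.comm_of_nonneg (stE K) (r := ⟨s, hs.1⟩) (s := ⟨_, k2⟩) h2 c b)).symm.eq

theorem yE_inj {a b a' b' : K} (e : yE K 44 a b = yE K 44 a' b') : a = a' ∧ b = b' := by
  have h : S 44 := ⟨by decide, sh44⟩
  have h1 : yE K 44 (a + a') (b + b') = 1 := by
    rw [yE_add (by decide), e, ← yE_add (by decide), CharTwo.add_self_eq_zero,
      CharTwo.add_self_eq_zero, yE_zero]
  rw [← CharTwo.add_eq_zero, ← CharTwo.add_eq_zero (a := b)]
  cases e : sw 44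
  · have := yP_inj h (a := (a + a', b + b')) (by rw [yP_eq h, e]; exact h1)
    exact ⟨congrArg Prod.fst this, congrArg Prod.snd this⟩
  · have := yP_inj h (a := (b + b', a + a')) (by rw [yP_eq h, e]; exact h1)
    exact ⟨congrArg Prod.snd this, congrArg Prod.fst this⟩

variable {β : MulAut (chevE6.group K)} {ψ : RingAut K} {ε : Bool}

theorem sd_QE (h : SdE β ψ ε) : β ∈ H67.SA.St (QE K) :=
  H67.SA.mem_St_of_finite (QE_le (A := (QE K).comap β.toMonoidHom) fun s hs a => by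
    obtain ⟨m, -, e⟩ := h s hs.1
    change β _ ∈ QE K
    rw [e]
    refine x_QE ?_ _
    cases ε
    exacts [hs, (qe_facts.1 s hs.1 hs).1])

theorem sd_y (h : SdE β ψ ε) {T : K} (hT : T ≠ 0) :
    ∃ a b, a * b ≠ 0 ∧ β (yE K 44 T T) = yE K 44 a b := by
  obtain ⟨k1, k2, k3, -⟩ := o_facts 44 (by decide)
  obtain ⟨m, m0, e⟩ := h _ k1
  obtain ⟨m', m0', e'⟩ := h _ k2
  have t0 : ψ T ≠ 0 := (map_ne_zero ψ).2 hT
  rw [yE_short sh44, map_mul, e, e']
  cases ε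
  · exact ⟨_, _, mul_ne_zero (mul_ne_zero m0 t0) (mul_ne_zero m0' t0), (yE_short sh44 _ _).symm⟩
  · refine ⟨_, _, mul_ne_zero (mul_ne_zero m0' t0) (mul_ne_zero m0 t0), ?_⟩
    rw [yE_short sh44, o_comm (by decide), if_pos rfl, if_pos rfl, k3]
    rfl

theorem core {F : Type} [Field F] [Finite F] [CharP F 2] {Y : Type} [Group Y] {ι : XF F →* Y}
    {τ : MulAut Y} {A : ℕ → Y → Prop} (j : Y →* chevE6.group K) (hj : Function.Injective j)
    (φ : F →+* K) (hx : ∀ r < 48, ∀ c, j (ι (x F r c)) = yE K r (φ c) (φ c))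
    (hτ : ∀ y, j (τ y) = gE K (j y)) (hA : ∀ b i, A b i → b = 44 ∧ ∃ a a', j i = yE K 44 a a')
    (hα : ∀ α : MulAut Y, ∃ g β ψ ε, SdE β ψ ε ∧ ∀ y, j (α y) = g * β (j y) * g⁻¹)
    (sup : Sup K) : M5 ι τ Sh A := by
  have d4 : ∀ {b i T}, D4 ι τ A b i T → b = 44 ∧ φ T ≠ 0 ∧
      ∃ a a', j i = yE K 44 a a' ∧ a + a' = φ T := fun {b i T} ⟨h1, h2, h3⟩ => by
    obtain ⟨rfl, a, a', e⟩ := hA b i h1
    refine ⟨rfl, (map_ne_zero φ).2 h2, a, a', e, ?_⟩
    have := congrArg j h3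
    rw [map_mul, hτ, e, gE_short (by decide) sh44, ← yE_add (by decide), hx _ (by decide)] at this
    exact (yE_inj this).1
  refine ⟨fun h => absurd rfl ((h 1).inv2 (by decide)).2, fun b i T h => ?_, fun b i T h y hy => ?_⟩
  · obtain ⟨rfl, t0, a, a', e, -⟩ := d4 h
    refine ⟨(QE K).comap j, QE_two.comap_of_injective j hj, map_le_iff_le_comap.2
      (US_le fun r hr h1 c => ?_), fun y hy => mem_Cz.2 (hj ?_), fun α h1 y => ?_⟩
    · change j (ι _) ∈ QE K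
      rw [hx r h1]; exact yE_QE hr _ _
    · rw [map_mul, map_mul, e]
      exact mem_Cz.1 (QE_cen a a' hy)
    · obtain ⟨g, β, ψ, ε, h2, h3⟩ := hα α
      obtain ⟨c, d, h4, h5⟩ := sd_y h2 t0
      have h6 := h3 (ι (x F 44 T))
      rw [h1, hx _ (by decide), h5] at h6
      rw [mem_comap, mem_comap, h3]
      exact (sd_QE h2 _).trans (mem_normalizer_iff.1 (sup.par g c d _ _ h4 h6.symm).2 _)
  · obtain ⟨rfl, t0, a, a', e, e'⟩ := d4 h
    have h1 : j y * yE K 44 (φ T) (φ T) * (j y)⁻¹ = yE K 44 (φ T) (φ T) := by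
      rw [← hx _ (by decide), ← map_mul, ← mem_Cz.1 hy, map_mul, mul_inv_cancel_right]
    have h2 : ∀ c : K, j y * yE K 44 c c * (j y)⁻¹ = yE K 44 c c := fun c => by
      simpa [t0] using sup.lin 44 (by simp) _ _ _ _ _ h1 (c / φ T)
    refine ⟨mem_Cs_US.2 fun r hr _ c => hj ?_, fun c hc => ?_⟩
    · obtain rfl : r = 44 := by simpa using hr
      rw [map_mul, map_mul, hx _ (by decide)]
      exact (mul_inv_eq_iff_eq_mul.1 (h2 _)).symm
    · have h3 := congrArg j hc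
      rw [map_mul, map_mul, map_mul, map_inv, e, hx _ (by decide), ← yE_add (by decide)] at h3
      have h4 : j y * yE K 44 0 (φ T) * (j y)⁻¹ = yE K 44 (φ c) (φ T + φ c) := by
        have := congrArg₂ (· * ·) h3 (h2 a)
        simp only [conj_mul, ← yE_add (show 44 < 48 by decide)] at this
        rw [CharTwo.add_self_eq_zero, add_comm a', e', add_right_comm a, add_right_comm a',
          CharTwo.add_self_eq_zero, zero_add, add_comm a', e'] at this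
        exact this
      by_contra! h5
      refine (sup.par (j y)⁻¹ (φ c) (φ T + φ c) 0 (φ T) (mul_ne_zero ((map_ne_zero φ).2 h5.1)
        fun h6 => h5.2 (φ.injective (CharTwo.add_eq_zero.1 h6).symm)) ?_).1 (zero_mul _)
      rw [← h4]; group

theorem jobM5 (hS : JobSup) (hE : JobXE) (hT : JobXT) : JobM5 := by
  refine ⟨fun F _ _ _ => core (MonoidHom.id _) Function.injective_id (RingHom.id F)
    (fun r hr c => iE_x hr c) (fun _ => rfl) (fun b i h => h) (fun α => ?_) (hS F),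
    fun F K _ _ _ _ _ _ X => core (jT X) (jT_inj X) X.φ (fun r hr c => ?_) (fun _ => rfl)
      (fun b i h => ?_) (fun α => ?_) (hS K)⟩
  · obtain ⟨g, β, ψ, ε, h1, rfl⟩ := hE F α
    exact ⟨g, β, ψ, ε, h1, fun _ => rfl⟩
  · rw [jT_x X hr, iE_x hr]
  · obtain ⟨rfl, a, rfl⟩ := h
    exact ⟨rfl, a, _, inc_yT X.hq X.hK X.hf (by decide) (.inl sh44)⟩
  · obtain ⟨g, β, ψ, h1, h2⟩ := hT F K X α
    exact ⟨_, β, ψ, false, h1, h2⟩

end H1.SF5
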