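import Cfsg.Agent.H28.TESpec

/-! Tower NF (S1308), chapter TE part 1: slot CL (collinear points give a line). -/

set_option autoImplicit false

open Cfsg Subgroup H14 H98 H1.Gold H31.S2 H14.GC H14.FE H14.NF H28.TE
open scoped commutatorElement

namespace H1.TeCL

universe u

theorem jobCL : JobCL.{u} := by
  intro z4 zc G _ _ Q hy l0 E ptz four Q₁ E₁ Q₂ E₂ c
  obtain ⟨v1, c1, ⟨R₁, hR₁, e1⟩, all1⟩ := ptz Q₁ E₁ c.p1
  obtain ⟨v2, c2, ⟨R₂, hR₂, e2⟩, -⟩ := ptz Q₂ E₂ c.p2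
  have l1 : E₁ ≤ R₁ := fun x hx => (e1 ▸ hx : x ∈ OZ R₁).1
  have l2 : E₂ ≤ R₂ := fun x hx => (e2 ▸ hx : x ∈ OZ R₂).1
  have el1 : El E₁ := fun x hx => (e1 ▸ hx : x ∈ OZ R₁).2.2
  have el2 : El E₂ := fun x hx => (e2 ▸ hx : x ∈ OZ R₂).2.2
  have p1 : IsPGroup 2 E₁ := hR₁.isPGroup.to_le l1
  have p2 : IsPGroup 2 E₂ := hR₂.isPGroup.to_le l2
  have q1 : E₁ ≤ Q₁ := l1.trans hR₁.le
  have q2 : E₂ ≤ Q₂ := l2.trans hR₂.le
  have f1 : Four E₁ := by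
    obtain ⟨g, -, h⟩ := c.p1
    rw [h]; exact four.cj g
  have f2 : Four E₂ := by
    obtain ⟨g, -, h⟩ := c.p2
    rw [h]; exact four.cj g
  have cm : ∀ e ∈ E₁, ∀ t ∈ E₂, e * t = t * e := fun e he t ht =>
    mem_centralizer_iff.1 (c.comm ht) e he
  have ct : ∀ t ∈ E₂, E₁ ≤ cen1 t := fun t ht e he => mem_cen1.2 (cm e he t ht)
  obtain ⟨d, hd, d2⟩ := four_exists_inv f1
  obtain ⟨s, hs, s2⟩ := four_exists_inv f2
  have n1 : E₂ ≤ nor Q₁ := c.comm.trans ((cen_le_cen1 hd).trans (hy.cen_le Q₁ v1 d (q1 hd) d2))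
  have n2 : E₁ ≤ nor Q₂ := (ct s hs).trans (hy.cen_le Q₂ v2 s (q2 hs) s2)
  obtain ⟨T, hT, hET⟩ := exists_isSyl_le p2 (le_inf q2 n1)
  have nb : T ≠ ⊥ := fun h => s2.1 (mem_bot.1 (h ▸ hET hs))
  obtain ⟨R', hR', -, hn⟩ := inv_syl (Y := Q₁) hT.isPGroup (hT.le.trans inf_le_right)
  obtain ⟨full, nf⟩ := l0 Q₁ Q₂ v1 v2 c.ne T hT nb R' hR' hn
  by_cases h : IsSyl 2 T Q₂
  · exfalso
    obtain ⟨y, hy1, -, hy2, hy3⟩ := c.mv
    obtain ⟨t, ht, hty⟩ : ∃ t ∈ E₂, t * y ≠ y * t := by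
      by_contra hh
      push Not at hh
      exact hy3 (mem_centralizer_iff.2 hh)
    obtain ⟨S, hS, hES⟩ := exists_isSyl_le p1 (le_inf q1 (ct t ht))
    have hS' : IsSyl 2 S Q₁ := hR'.of_card_ge hS.isPGroup (hS.le.trans inf_le_left)
      (hS.card_le hR'.isPGroup (le_inf hR'.le ((full h).trans (cen_le_cen1 (hET ht)))))
    have e3 := (all1 S hS').2 hES
    have hc : ⁅t, y⁆ ∈ OZ S := e3 ▸ hy2 t ht
    have ti : t⁻¹ = t := inv_eq_of_mul_eq_one_right (el2 t ht)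
    refine hty (commutatorElement_eq_one_iff_mul_comm.1 (z4 G Q₁ S t ⁅t, y⁆ y hS'
      (hS.le.trans inf_le_right) (fun x hx => mem_cen1.2 (mem_centralizer_iff.1 hc.2.1 x hx))
      hy1.1 ?_ (mem_centralizer_iff.1 hy1.2 _ (hy2 t ht)).symm hc.2.2))
    rw [commutatorElement_def, ti, ← mul_assoc, ← mul_assoc, ← mul_assoc, el2 t ht, one_mul]
  · have ln := nf h
    have e0 := (zc G _ _ _ _ _ ln R' ⟨hR', inf_le_left, hn⟩).1
    have c0 : Nat.card ↥(R' ⊓ cen T) = Nat.card E := by rw [e0]; exact (all1 R' hR').1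
    obtain rfl : E₂ = T := eq_of_le_of_card_ge hET (by rw [← ln.card, c0, c2])
    exact ⟨hy, v1, v2, c.ne, ln.sE.of_card_ge p1 (le_inf q1 n2) (by rw [c0, c1]), ln.sT, el1, el2,
      f1, f2, cm, c1.trans c2.symm, fun k => ln.nE (k.of_card_ge ln.sE.isPGroup
        (inf_le_left.trans hR'.le) (by rw [c0, c1])), ln.nT⟩

end H1.TeCL
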