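import Cfsg.Agent.H57.U2CSpec

/-! # S3275, chapter U2F: slot N3 -/

set_option autoImplicit false

namespace H1.VN3

open Subgroup Cfsg H98 H96 H97 H48.DP H57.DPC H48.DP2 H96.U2I H57.U2C
open scoped commutatorElement

universe u

variable {G : Type u} [Group G]

theorem ea_comm {V : Subgroup G} (h : IsElementaryAbelian 2 V) {a b : G} (ha : a ∈ V)
    (hb : b ∈ V) : a * b = b * a := by
  exact congrArg Subtype.val (h.1.is_comm.comm (⟨a, ha⟩ : V) ⟨b, hb⟩)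

theorem ea_sq {V : Subgroup G} (h : IsElementaryAbelian 2 V) {a : G} (ha : a ∈ V) :
    a * a = 1 := by
  have := h.2 a ha
  rwa [pow_two] at this

theorem ea_inv {V : Subgroup G} (h : IsElementaryAbelian 2 V) {a : G} (ha : a ∈ V) :
    a⁻¹ = a := inv_eq_of_mul_eq_one_right (ea_sq h ha)

theorem cm_mem {V : Subgroup G} {d w : G} (hd : d ∈ No V) (hw : w ∈ V) : ⁅d, w⁆ ∈ V := by
  rw [commutatorElement_def]
  exact V.mul_mem (conj_mem_of_mem_normalizer hd hw) (V.inv_mem hw)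

theorem cm_sq {V : Subgroup G} (h : IsElementaryAbelian 2 V) {d w : G} (hd : d ∈ No V)
    (hw : w ∈ V) : ⁅d * d, w⁆ = ⁅d, ⁅d, w⁆⁆ := by
  have hp : d * w⁻¹ * d⁻¹ ∈ V := conj_mem_of_mem_normalizer hd (V.inv_mem hw)
  have h1 : d * w⁻¹ * d⁻¹ * w * (d * w⁻¹ * d⁻¹) = w⁻¹ := by
    rw [ea_comm h hp hw, mul_assoc w, ea_sq h hp, mul_one, ea_inv h hw]
  calc ⁅d * d, w⁆ = d * d * w * (d * d)⁻¹ * w⁻¹ := commutatorElement_def _ _
    _ = d * d * w * (d * d)⁻¹ * (d * w⁻¹ * d⁻¹ * w * (d * w⁻¹ * d⁻¹)) := by rw [h1]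
    _ = ⁅d, ⁅d, w⁆⁆ := by simp only [commutatorElement_def]; group

theorem cm_mul {V : Subgroup G} (h : IsElementaryAbelian 2 V) {d a b : G} (hd : d ∈ No V)
    (ha : a ∈ V) (hb : b ∈ V) : ⁅d, a * b⁆ = ⁅d, a⁆ * ⁅d, b⁆ := by
  have h1 := ea_comm h (V.inv_mem ha) (cm_mem hd hb)
  calc ⁅d, a * b⁆ = d * a * d⁻¹ * (⁅d, b⁆ * a⁻¹) := by simp only [commutatorElement_def]; group
    _ = d * a * d⁻¹ * (a⁻¹ * ⁅d, b⁆) := by rw [h1]
    _ = ⁅d, a⁆ * ⁅d, b⁆ := by simp only [commutatorElement_def]; group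

theorem exists_fix {V A : Subgroup G} (h : IsElementaryAbelian 2 V) (k : ℕ) :
    ∀ d ∈ No V, d ^ 2 ^ k = 1 → ∀ w ∈ V, w ∉ A → ∃ w' ∈ V, w' ∉ A ∧ ⁅d, w'⁆ ∈ A := by
  induction k with
  | zero =>
    intro d _ h1 w hw hA
    rw [pow_zero, pow_one] at h1
    exact ⟨w, hw, hA, by rw [h1]; simp⟩
  | succ k ih =>
    intro d hd h1 w hw hA
    obtain ⟨w', hw', hA', hc⟩ := ih (d * d) ((No V).mul_mem hd hd)
      (by rw [← pow_two, ← pow_mul, ← pow_succ']; exact h1) w hw hA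
    by_cases hx : ⁅d, w'⁆ ∈ A
    · exact ⟨w', hw', hA', hx⟩
    · exact ⟨⁅d, w'⁆, cm_mem hd hw', hx, by rw [← cm_sq h hd hw']; exact hc⟩

/-- `{w ∈ V | [d, w] ∈ A}`. -/
def Nn {V : Subgroup G} (h : IsElementaryAbelian 2 V) (A : Subgroup G) {d : G} (hd : d ∈ No V) :
    Subgroup G where
  carrier := {w | w ∈ V ∧ ⁅d, w⁆ ∈ A}
  one_mem' := ⟨V.one_mem, by simp⟩
  mul_mem' := fun {a b} ha hb => ⟨V.mul_mem ha.1 hb.1, by
    rw [cm_mul h hd ha.1 hb.1]; exact A.mul_mem ha.2 hb.2⟩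
  inv_mem' := fun {a} ha => by
    have : a⁻¹ = a := ea_inv h ha.1
    rw [this]; exact ha

theorem cm_one {A : Subgroup G} {d a : G} (hd : d ∈ Ce A) (ha : a ∈ A) : ⁅d, a⁆ = 1 := by
  rw [commutatorElement_eq_one_iff_mul_comm]
  exact ((mem_centralizer_iff.1 hd) a ha).symm

/-- The action of a 2-element on a section of order 4. -/
theorem key [Finite G] {V A : Subgroup G} (h : IsElementaryAbelian 2 V) {d : G} (hd : d ∈ No V)
    (hA : d ∈ Ce A) {k : ℕ} (hk : d ^ 2 ^ k = 1) (h4 : A.relIndex V = 4) :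
    ∃ N : Subgroup G, N ≤ V ∧ N.relIndex V ≤ 2 ∧ (∀ w ∈ N, ⁅d * d, w⁆ = 1) ∧
      ∀ w ∈ V, ⁅d * d, w⁆ ∈ A := by
  have hle : Nn h A hd ≤ V := fun w hw => hw.1
  have hI : A ⊓ V ≤ Nn h A hd := fun w hw => ⟨hw.2, by rw [cm_one hA hw.1]; exact A.one_mem⟩
  have hne : ¬ V ≤ A := fun hh => by
    rw [relIndex_eq_one.2 hh] at h4; omega
  obtain ⟨w0, hw0, hw0A⟩ := SetLike.not_le_iff_exists.1 hne
  obtain ⟨w1, hw1, hw1A, hc1⟩ := exists_fix (A := A) h k d hd hk w0 hw0 hw0A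
  have hmul := relIndex_mul_relIndex (A ⊓ V) (Nn h A hd) V hI hle
  rw [inf_relIndex_right, h4] at hmul
  have hn1 : (A ⊓ V).relIndex (Nn h A hd) ≠ 1 := fun hh =>
    hw1A (relIndex_eq_one.1 hh (show w1 ∈ Nn h A hd from ⟨hw1, hc1⟩)).1
  have hidx : (Nn h A hd).relIndex V = 1 ∨ (Nn h A hd).relIndex V = 2 := by
    generalize (A ⊓ V).relIndex (Nn h A hd) = a at hmul hn1
    generalize (Nn h A hd).relIndex V = b at hmul
    have ha : a ≤ 4 := Nat.le_of_dvd (by norm_num) ⟨b, hmul.symm⟩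
    interval_cases a <;> omega
  have hin : ∀ w ∈ V, ⁅d, w⁆ ∈ Nn h A hd := by
    intro w hw
    by_cases hwN : w ∈ Nn h A hd
    · exact hI ⟨hwN.2, cm_mem hd hw⟩
    · rcases hidx with h1 | h2
      · exact absurd (relIndex_eq_one.1 h1 hw) hwN
      · have hdw : d * w * d⁻¹ ∈ V := conj_mem_of_mem_normalizer hd hw
        have hdN : d * w * d⁻¹ ∉ Nn h A hd := by
          intro hh
          apply hwN
          refine ⟨hw, ?_⟩
          have e1 : ⁅d, d * w * d⁻¹⁆ = d * ⁅d, w⁆ * d⁻¹ := by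
            simp only [commutatorElement_def]; group
          have e2 := hh.2
          rw [e1] at e2
          have e3 := (mem_centralizer_iff.1 hA) _ e2
          have e4 : ⁅d, w⁆ = d * ⁅d, w⁆ * d⁻¹ := by
            have : d * ⁅d, w⁆ = d * (d * ⁅d, w⁆ * d⁻¹) := by rw [← e3]; group
            exact mul_left_cancel this
          rw [e4]; exact e2
        have h2' : ((Nn h A hd).subgroupOf V).index = 2 := h2
        have := (mul_mem_iff_of_index_two h2' (a := ⟨_, hdw⟩) (b := ⟨_, V.inv_mem hw⟩)).2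
          (by
            simp only [mem_subgroupOf]
            constructor
            · intro hh; exact absurd hh hdN
            · intro hh; exact absurd ((Nn h A hd).inv_mem_iff.1 hh) hwN)
        rw [mem_subgroupOf] at this
        exact this
  refine ⟨Nn h A hd, hle, by omega, fun w hw => ?_, fun w hw => ?_⟩
  · rw [cm_sq h hd hw.1]; exact cm_one hA hw.2
  · rw [cm_sq h hd hw]; exact (hin w hw).2

theorem cm_zpow {V A : Subgroup G} {b : G} (hA : b ∈ Ce A)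
    (hb : ∀ w ∈ V, ⁅b, w⁆ ∈ A) : ∀ a ∈ zpowers b, ∀ w ∈ V, ⁅a, w⁆ ∈ A := by
  have hbN : b ∈ No A := le_normalizer_of_le_centralizer (H := zpowers b)
    (zpowers_le.2 hA) (mem_zpowers b)
  have : zpowers b ≤ stab V A := zpowers_le.2 (mem_stab.2 ⟨hbN, fun c hc => by
    rw [← commutatorElement_inv]; exact A.inv_mem (hb c hc)⟩)
  intro a ha w hw
  have := (mem_stab.1 (this ha)).2 w hw
  rw [← commutatorElement_inv]; exact A.inv_mem this

theorem jobN3 : JobN3.{u} := by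
  intro goff hy np G _ _ M Q T R Q₀ F Y V y t nd e he heM h4
  obtain ⟨p, hVR, -, -, -⟩ := np G M Q T R Q₀ F Y V y t nd
  have hTV : T ≤ No V := le_sup_left.trans p.KU
  have h4y : (cj y V).relIndex V ≤ 4 := by
    obtain ⟨s, hs, h1 | h1 | h1⟩ := nd.pm e he
    · exact absurd (h1 ▸ nd.TM hs) heM
    · rw [h1, ← cj_cj, cj_eq_self (hTV hs)] at h4; exact h4
    · rw [h1, ← cj_cj, cj_eq_self (hTV hs), ← nd.ty, ← cj_cj, ← cj_cj,
        cj_eq_self (hTV (T.inv_mem nd.tT))] at h4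
      have e1 : (cj t (cj y V)).relIndex (cj t V) = (cj y V).relIndex V :=
        relIndex_map_map_of_injective _ _ (MulAut.conj t).injective
      rw [cj_eq_self (hTV nd.tT)] at e1
      rw [← e1]; exact h4
  have hQA : cj y Q ≤ Ce (cj y V) := by
    have := cj_mono y p.QV
    rwa [cj_centralizer] at this
  have bad : ∀ u ∈ V, u ∈ cj y V → u ≠ 1 → ¬ Gd F u := by
    intro u hu huA hu1 hg
    apply nd.yM
    apply nd.up
    refine le_trans (fun q hq => ?_) (p.gd u hu hu1 hg)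
    rw [mem_centralizer_singleton_iff]
    exact ((mem_centralizer_iff.1 (hQA hq)) u huA).symm
  have h4' : (cj y V).relIndex V = 4 := le_antisymm h4y (hy G M Q (T ⊔ F) F V (cj y V) p bad)
  refine nd.el (T ⊓ Ce V) Y (le_inf nd.QT p.QV) nd.kq1 (nd.YF.trans nd.FM) nd.nc ?_
  intro d hd
  have hdR : d ∈ R := cj_le_of_le inf_le_right nd.yR hd
  have hdT : d ∈ T := nd.RT hdR
  have hdA : d ∈ Ce (cj y V) := hQA (cj_mono y inf_le_left hd)
  obtain ⟨k, hk⟩ := nd.kq.T2 ⟨d, hdT⟩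
  have hk' : d ^ 2 ^ k = 1 := congrArg Subtype.val hk
  obtain ⟨N, hNV, hN2, hNc, hVA⟩ := key p.ea (hTV hdT) hdA hk' h4'
  refine ⟨T.mul_mem hdT hdT, ?_⟩
  by_contra hnc
  have hbA : d * d ∈ Ce (cj y V) := (Ce (cj y V)).mul_mem hdA hdA
  have hBA := cm_zpow hbA hVA
  have hBT : zpowers (d * d) ≤ T := zpowers_le.2 (T.mul_mem hdT hdT)
  obtain ⟨w, hw, hw1⟩ : ∃ w ∈ V, ⁅d * d, w⁆ ≠ 1 := by
    by_contra hh
    push Not at hh
    apply hnc
    exact mem_centralizer_iff.2 fun w hw =>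
      (commutatorElement_eq_one_iff_mul_comm.1 (hh w hw)).symm
  have hz : ∀ x : G, x ∈ zpowers (1 : G) ↔ x = 1 := fun x => by
    rw [zpowers_one_eq_bot, mem_bot]
  have hq : Qz (T ⊔ F) V (zpowers (d * d)) 1 := by
    refine ⟨hBT.trans le_sup_left, nd.kq.T2.to_le hBT, fun a ha b hb w hw => ?_⟩
    rw [hz]
    exact cm_one (zpowers_le.2 hbA ha) (hBA b hb w hw)
  have hNB : ∀ h ∈ N, ∀ a ∈ zpowers (d * d), ⁅a, h⁆ ∈ zpowers (1 : G) := by
    intro h hh a ha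
    rw [hz]
    have : d * d ∈ Ce N := by
      rw [mem_centralizer_iff]
      intro x hx
      exact (commutatorElement_eq_one_iff_mul_comm.1 (hNc x hx)).symm
    exact cm_one (zpowers_le.2 this ha) hh
  have hidx : N.relIndex V ≤ (St V (1 : G)).relIndex (zpowers (d * d)) := by
    have h0 : (St V (1 : G)).relIndex (zpowers (d * d)) ≠ 0 := index_ne_zero_of_finite
    have h1 : (St V (1 : G)).relIndex (zpowers (d * d)) ≠ 1 := by
      intro hh
      have := (mem_stab.1 (relIndex_eq_one.1 hh (mem_zpowers _))).2 w hw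
      rw [hz, ← commutatorElement_inv, inv_eq_one] at this
      exact hw1 this
    omega
  obtain ⟨a, ha, ha1, hg, -⟩ := goff G (T ⊔ F) F V (zpowers (d * d)) N 1 p.toMd hq hNV N.one_mem
    hNB hidx w hw (d * d) (mem_zpowers _) (by rw [hz]; exact hw1)
  rw [hz] at ha1
  exact bad _ (cm_mem (hTV (hBT ha)) hw) (hBA a ha w hw) ha1 hg

end H1.VN3
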